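import Cfsg.Agent.Lib.Transfer.PResidual
import Mathlib.GroupTheory.Focal
import Mathlib.GroupTheory.Transfer

/-!
Fusion in a Sylow subgroup and its consequences through transfer: the intersections of a Sylow
`p`-subgroup with the derived subgroup and with `pResidual p G`, under control of fusion.
-/

set_option autoImplicit false

open Cfsg
open scoped Pointwise commutatorElement

namespace Cfsg.Agent.Lib.Transfer.Fusion

open Cfsg.Agent.Lib.Transfer.PResidual

variable {G : Type*} [Group G] {p : ℕ}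

/-- If `R, S` are subgroups of the finite `p`-group `P`, `S` is normal in `P` and
`R ≤ [R, P] S`, then `R ≤ S`. -/
theorem le_of_le_commutator_sup [Finite G] [hp : Fact p.Prime] {R S P : Subgroup G}
    (hP : IsPGroup p P) (hR : R ≤ P) (hS : S ≤ P) (hSn : P ≤ Subgroup.normalizer (S : Set G))
    (h : R ≤ ⁅R, P⁆ ⊔ S) : R ≤ S := by
  haveI : (S.subgroupOf P).Normal := (Subgroup.normal_subgroupOf_iff_le_normalizer hS).2 hSn
  let π := QuotientGroup.mk' (S.subgroupOf P)
  let R' : Subgroup P := R.subgroupOf P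
  have hR' : R'.map π ≤ ⁅R'.map π, ⊤⁆ := by
    have h1 : R' ≤ ⁅R', ⊤⁆ ⊔ S.subgroupOf P := by
      rw [← Subgroup.map_le_map_iff_of_injective P.subtype_injective, Subgroup.map_sup,
        Subgroup.map_commutator, Subgroup.map_subgroupOf_eq_of_le hR,
        Subgroup.map_subgroupOf_eq_of_le hS, ← MonoidHom.range_eq_map, Subgroup.range_subtype]
      exact h
    have h2 := Subgroup.map_mono (f := π) h1
    rwa [Subgroup.map_sup, Subgroup.map_commutator, QuotientGroup.map_mk'_self, sup_bot_eq,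
      Subgroup.map_top_of_surjective π (QuotientGroup.mk'_surjective _)] at h2
  have hstep : ∀ n, R'.map π ≤ (⊤ : Subgroup (P ⧸ S.subgroupOf P)).lowerCentralSeries n := by
    intro n
    induction n with
    | zero => simp
    | succ n ih => exact hR'.trans (Subgroup.commutator_mono ih le_rfl)
  haveI := (hP.to_quotient (S.subgroupOf P)).isNilpotent
  obtain ⟨n, hn⟩ := Subgroup.nilpotent_iff_lowerCentralSeries.1
    (inferInstance : Group.IsNilpotent (P ⧸ S.subgroupOf P))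
  have hbot : R'.map π = ⊥ := le_bot_iff.1 (hn ▸ hstep n)
  rw [Subgroup.map_eq_bot_iff, QuotientGroup.ker_mk'] at hbot
  exact fun x hx => hbot (show (⟨x, hR hx⟩ : P) ∈ R' from hx)

/-- If `R ≤ [R, P]` for a subgroup `R` of a finite `p`-group `P`, then `R = ⊥`. -/
theorem eq_bot_of_le_commutator [Finite G] [Fact p.Prime] {R P : Subgroup G}
    (hP : IsPGroup p P) (hR : R ≤ P) (h : R ≤ ⁅R, P⁆) : R = ⊥ :=
  le_bot_iff.1 (le_of_le_commutator_sup hP hR bot_le
    (by rw [Subgroup.normalizer_eq_top]; exact le_top) (h.trans le_sup_left))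

variable [Finite G] [hp : Fact p.Prime]

/-- The trace of a Sylow subgroup on a normal subgroup, as a Sylow subgroup of the latter. -/
theorem exists_sylow_map_eq_inf (N : Subgroup G) [N.Normal] (P : Sylow p G) :
    ∃ Q : Sylow p N, (Q : Subgroup N).map N.subtype = N ⊓ P := by
  have hQ : IsPGroup p ((P : Subgroup G).subgroupOf N) := P.2.comap_subtype
  have hidx : ¬ p ∣ ((P : Subgroup G).subgroupOf N).index := by
    intro hdvd
    apply P.not_dvd_index
    refine hdvd.trans ?_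
    have h1 : (P : Subgroup G).relIndex N * N.index = ((P : Subgroup G) ⊓ N).index := by
      rw [← Subgroup.relIndex_mul_index (H := (P : Subgroup G) ⊓ N) inf_le_right,
        Subgroup.inf_relIndex_right]
    have h2 : N.relIndex P * (P : Subgroup G).index = ((P : Subgroup G) ⊓ N).index := by
      rw [← Subgroup.relIndex_mul_index (H := (P : Subgroup G) ⊓ N) inf_le_left,
        Subgroup.inf_relIndex_left]
    have h3 : N.relIndex P ∣ N.index := Subgroup.relIndex_dvd_index_of_normal N P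
    have h4 : (P : Subgroup G).relIndex N * N.index ∣ (P : Subgroup G).index * N.index := by
      rw [h1, ← h2, mul_comm (N.relIndex P)]
      exact mul_dvd_mul_left _ h3
    exact Nat.dvd_of_mul_dvd_mul_right (Nat.pos_of_ne_zero Subgroup.index_ne_zero_of_finite) h4
  refine ⟨hQ.toSylow hidx, ?_⟩
  rw [IsPGroup.toSylow_coe, Subgroup.subgroupOf_map_subtype, inf_comm]

/-- A `p`-subgroup of `O^p(G)` lies in the derived subgroup of `O^p(G)`. -/
theorem pGroup_le_commutator_pResidual {R : Subgroup G} (hR : IsPGroup p R)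
    (h : R ≤ pResidual p G) : R ≤ ⁅pResidual p G, pResidual p G⁆ := by
  set K := pResidual p G with hK
  intro x hx
  have hab : IsPGroup p (Subgroup.zpowers (Abelianization.of (⟨x, h hx⟩ : K))) := by
    obtain ⟨k, hk⟩ := hR ⟨x, hx⟩
    have hk' : x ^ p ^ k = 1 := by simpa [Subtype.ext_iff] using hk
    apply IsPGroup.of_card_dvd_pow (n := k)
    rw [Nat.card_zpowers, orderOf_dvd_iff_pow_eq_one, ← map_pow,
      show (⟨x, h hx⟩ : K) ^ p ^ k = 1 from Subtype.ext hk', map_one]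
  have hcop : ∀ a : K, (orderOf (Abelianization.of a)).Coprime p := by
    intro a
    have ha : a ∈ pResidual p K := by
      rw [pResidual_pResidual]; exact Subgroup.mem_top a
    induction ha using Subgroup.closure_induction with
    | mem z hz => exact Nat.Coprime.coprime_dvd_left (orderOf_map_dvd _ z) hz
    | one => simp
    | mul a b _ _ iha ihb =>
      rw [map_mul]
      exact ((iha.mul_left ihb)).coprime_dvd_left (Commute.orderOf_mul_dvd_mul_orderOf (mul_comm _ _))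
    | inv a _ iha => simpa using iha
  have h1 := hcop ⟨x, h hx⟩
  have : Abelianization.of (⟨x, h hx⟩ : K) = 1 :=
    congrArg Subtype.val (eq_one_of_pGroup_of_coprime hab
      (a := ⟨_, Subgroup.mem_zpowers _⟩) (by rwa [Subgroup.orderOf_mk]))
  rw [← MonoidHom.mem_ker, Abelianization.ker_of] at this
  rw [← Subgroup.map_subtype_commutator]
  exact ⟨⟨x, h hx⟩, this, rfl⟩

/-- Focal subgroup theorem inside a normal subgroup, in ambient terms. -/
theorem inf_commutator_le_of_forall (N : Subgroup G) [N.Normal] (P : Sylow p G) (K : Subgroup G)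
    (h : ∀ x ∈ N ⊓ P, ∀ u ∈ N, u * x * u⁻¹ ∈ P → ⁅x, u⁆ ∈ K) :
    ⁅N, N⁆ ⊓ P ≤ K := by
  obtain ⟨Q, hQ⟩ := exists_sylow_map_eq_inf N P
  intro g hg
  have hgN : g ∈ N := Subgroup.commutator_le_right N N hg.1
  have hQmem : ∀ z : N, z ∈ (Q : Subgroup N) ↔ (z : G) ∈ P := by
    intro z
    rw [← Subgroup.mem_map_iff_mem N.subtype_injective, hQ]
    exact ⟨fun hz => hz.2, fun hz => ⟨z.2, hz⟩⟩
  have hfoc : (⟨g, hgN⟩ : N) ∈ (Q : Subgroup N).focalSubgroup := by
    rw [← Subgroup.commutator_inf_eq_focalSubgroup]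
    refine ⟨?_, (hQmem _).2 hg.2⟩
    have hg1 := hg.1
    rw [← Subgroup.map_subtype_commutator] at hg1
    obtain ⟨g', hg', rfl⟩ := hg1
    exact hg'
  suffices h' : (Q : Subgroup N).focalSubgroup ≤ K.comap N.subtype from h' hfoc
  rw [Subgroup.focalSubgroup_def, Subgroup.closure_le]
  rintro z ⟨hzQ, x, hxQ, u, rfl⟩
  show ⁅(x : G), (u : G)⁆ ∈ K
  refine h x ⟨x.2, (hQmem x).1 hxQ⟩ u u.2 ?_
  have h1 : (x : G)⁻¹ * ⁅(x : G), (u : G)⁆ ∈ P :=
    mul_mem (inv_mem ((hQmem x).1 hxQ)) ((hQmem _).1 hzQ)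
  have h2 : (u : G) * x * (u : G)⁻¹ = ((x : G)⁻¹ * ⁅(x : G), (u : G)⁆)⁻¹ := by
    rw [commutatorElement_def]; group
  rw [h2]
  exact inv_mem h1

/-- `P ∩ O^p(G)` is generated by commutators coming from fusion inside `O^p(G)`. -/
theorem inf_pResidual_le (P : Sylow p G) (K : Subgroup G)
    (h : ∀ x ∈ pResidual p G ⊓ P, ∀ u ∈ pResidual p G, u * x * u⁻¹ ∈ P → ⁅x, u⁆ ∈ K) :
    (P : Subgroup G) ⊓ pResidual p G ≤ K := fun _ hx =>
  inf_commutator_le_of_forall (pResidual p G) P K h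
    ⟨pGroup_le_commutator_pResidual P.2.to_inf_left inf_le_right hx, hx.1⟩

/-- If `V ≥ P` controls fusion in `P`, then `P ∩ G' = P ∩ V'`. -/
theorem commutator_inf_sylow_eq_of_controls (P : Sylow p G) (V : Subgroup G)
    (hPV : (P : Subgroup G) ≤ V)
    (h : ∀ x ∈ P, ∀ g : G, g * x * g⁻¹ ∈ P → ∃ v ∈ V, v * x * v⁻¹ = g * x * g⁻¹) :
    commutator G ⊓ (P : Subgroup G) = ⁅V, V⁆ ⊓ (P : Subgroup G) := by
  refine le_antisymm (le_inf ?_ inf_le_right)
    (inf_le_inf_right _ (Subgroup.commutator_mono le_top le_top))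
  rw [Subgroup.commutator_inf_eq_focalSubgroup, Subgroup.focalSubgroup_def, Subgroup.closure_le]
  rintro z ⟨hz, x, hx, u, rfl⟩
  have h1 : u * x * u⁻¹ ∈ P := by
    have : u * x * u⁻¹ = (x⁻¹ * ⁅x, u⁆)⁻¹ := by rw [commutatorElement_def]; group
    rw [this]
    exact inv_mem (mul_mem (inv_mem hx) hz)
  obtain ⟨v, hv, hvx⟩ := h x hx u h1
  have h2 : ⁅x, u⁆ = ⁅x, v⁆ := by
    rw [commutatorElement_def, commutatorElement_def,
      show x * u * x⁻¹ * u⁻¹ = x * (u * x * u⁻¹)⁻¹ by group, ← hvx]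
    group
  rw [h2]
  exact Subgroup.commutator_mem_commutator (hPV hx) hv

/-- If `V ≥ P` controls fusion in `P`, then `P ∩ O^p(G) = P ∩ O^p(V)`. -/
theorem inf_pResidual_eq_of_controls (P : Sylow p G) (V : Subgroup G)
    (hPV : (P : Subgroup G) ≤ V)
    (h : ∀ x ∈ P, ∀ g : G, g * x * g⁻¹ ∈ P → ∃ v ∈ V, v * x * v⁻¹ = g * x * g⁻¹) :
    (P : Subgroup G) ⊓ pResidual p G = (P : Subgroup G) ⊓ (pResidual p V).map V.subtype := by
  refine le_antisymm ?_ (inf_le_inf_left _ (map_pResidual_le _))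
  set R := (P : Subgroup G) ⊓ pResidual p G with hR
  set S := (P : Subgroup G) ⊓ (pResidual p V).map V.subtype with hS
  have hPn : (P : Subgroup G) ≤ Subgroup.normalizer ((pResidual p V).map V.subtype : Set G) :=
    hPV.trans (Subgroup.le_normalizer_map V.subtype |>.trans' (by
      rw [Subgroup.normalizer_eq_top, ← MonoidHom.range_eq_map, Subgroup.range_subtype]))
  refine le_of_le_commutator_sup P.2 inf_le_left inf_le_left ?_ ?_
  · exact (le_inf Subgroup.le_normalizer hPn).trans Subgroup.inf_normalizer_le_normalizer_inf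
  refine inf_pResidual_le P (⁅R, (P : Subgroup G)⁆ ⊔ S) fun x hx u _ hxu => ?_
  obtain ⟨v, hv, hvx⟩ := h x hx.2 u hxu
  obtain ⟨w, hw, z, hz, hwz⟩ :=
    exists_mul_sylow (P.subtype hPV) (⟨v, hv⟩ : V)
  have hz' : (z : G) ∈ P := hz
  have hv' : v = (w : G) * z := by
    have := congrArg Subtype.val hwz; simpa using this.symm
  have h2 : ⁅x, u⁆ = ⁅x, (z : G)⁆ * ⁅(z : G) * x * (z : G)⁻¹, (w : G)⁆ := by
    rw [commutatorElement_def, commutatorElement_def, commutatorElement_def,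
      show x * u * x⁻¹ * u⁻¹ = x * (u * x * u⁻¹)⁻¹ by group, ← hvx, hv']
    group
  rw [h2]
  refine mul_mem (Subgroup.mem_sup_left
    (Subgroup.commutator_mem_commutator (show x ∈ R from ⟨hx.2, hx.1⟩) hz'))
    (Subgroup.mem_sup_right ⟨?_, ?_⟩)
  · have hy : (z : G) * x * (z : G)⁻¹ ∈ P := mul_mem (mul_mem hz' hx.2) (inv_mem hz')
    have : ⁅(z : G) * x * (z : G)⁻¹, (w : G)⁆
        = ((z : G) * x * (z : G)⁻¹) * (u * x * u⁻¹)⁻¹ := by
      rw [← hvx, hv', commutatorElement_def]; group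
    rw [this]
    exact (P : Subgroup G).mul_mem hy ((P : Subgroup G).inv_mem hxu)
  · have hy : (z : G) * x * (z : G)⁻¹ ∈ V :=
      mul_mem (mul_mem (hPV hz') (hPV hx.2)) (inv_mem (hPV hz'))
    refine ⟨⁅(⟨_, hy⟩ : V), w⁆, ?_, by simp [commutatorElement_def]⟩
    rw [commutatorElement_def]
    exact mul_mem (pResidual_normal.conj_mem w hw _) (inv_mem hw)

/-- A Sylow subgroup which controls its own fusion has a normal complement. -/
theorem hasNormalPComplement_of_controls (P : Sylow p G)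
    (h : ∀ x ∈ P, ∀ g : G, g * x * g⁻¹ ∈ P → ∃ v ∈ P, v * x * v⁻¹ = g * x * g⁻¹) :
    HasNormalPComplement p G := by
  rw [hasNormalPComplement_iff_inf_sylow P, inf_comm,
    inf_pResidual_eq_of_controls P P le_rfl h, pResidual_eq_bot_iff.2 P.2]
  simp

omit hp in
/-- Burnside: `P`-invariant subsets of `P` conjugate in `G` are conjugate in `N(P)`, element-wise form. -/
theorem exists_normalizer_conj_of_normal_set [Fact p.Prime] (P : Sylow p G) (X : Set G)
    (hX : ∀ z ∈ P, ∀ x ∈ X, z * x * z⁻¹ ∈ X) (g : G)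
    (hgX : ∀ z ∈ P, ∀ x ∈ X, z * (g * x * g⁻¹) * z⁻¹ ∈ (fun y => g * y * g⁻¹) '' X) :
    ∃ n ∈ Subgroup.normalizer (P : Set G), (fun y => n * y * n⁻¹) '' X = (fun y => g * y * g⁻¹) '' X := by
  set S : Subgroup G := Subgroup.normalizer X with hS
  have h1 : (P : Subgroup G) ≤ S := fun z hz y =>
    ⟨fun hy => hX z hz y hy, fun hy => by
      simpa [mul_assoc] using hX z⁻¹ (inv_mem hz) _ hy⟩
  have h2 : ((g⁻¹ • P : Sylow p G) : Subgroup G) ≤ S := by
    have key : ∀ z ∈ P, ∀ x ∈ X, g⁻¹ * z * g * x * (g⁻¹ * z * g)⁻¹ ∈ X := by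
      intro z hz x hx
      obtain ⟨x', hx', he⟩ := hgX z hz x hx
      have : g⁻¹ * z * g * x * (g⁻¹ * z * g)⁻¹ = g⁻¹ * (z * (g * x * g⁻¹) * z⁻¹) * g := by group
      rw [this, ← he]
      simpa [mul_assoc] using hx'
    intro w hw y
    rw [Sylow.coe_subgroup_smul, Subgroup.mem_pointwise_smul_iff_inv_smul_mem] at hw
    simp only [← map_inv, MulAut.smul_def, MulAut.conj_apply, inv_inv] at hw
    have hwe : g⁻¹ * (g * w * g⁻¹) * g = w := by group
    constructor
    · intro hy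
      have := key _ hw y hy
      rwa [hwe] at this
    · intro hy
      have := key _ (inv_mem hw) _ hy
      simpa [mul_assoc] using this
  obtain ⟨c, hc⟩ := MulAction.exists_smul_eq S (P.subtype h1) ((g⁻¹ • P).subtype h2)
  rw [Sylow.smul_subtype] at hc
  have hc' : (c : G) • P = g⁻¹ • P := Sylow.subtype_injective hc
  refine ⟨g * c, Sylow.smul_eq_iff_mem_normalizer.1 (by rw [mul_smul, hc', smul_inv_smul]), ?_⟩
  have hcX : (fun y => (c : G) * y * (c : G)⁻¹) '' X = X :=
    Subgroup.mem_normalizer_iff_conj_image_eq.1 c.2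
  conv_rhs => rw [← hcX, Set.image_image]
  refine Set.image_congr fun y _ => ?_
  group

/-- A weakly closed subgroup of the centre of a Sylow subgroup: its normalizer controls fusion. -/
theorem controls_of_isWeaklyClosed (P : Sylow p G) (Z : Subgroup G)
    (hZ : Z ≤ Subgroup.centralizer (P : Set G)) (hW : Cfsg.IsWeaklyClosed Z P)
    (x : G) (hx : x ∈ P) (g : G) (hy : g * x * g⁻¹ ∈ P) :
    ∃ v ∈ Subgroup.normalizer (Z : Set G), v * x * v⁻¹ = g * x * g⁻¹ := by
  set C : Subgroup G := Subgroup.centralizer ({g * x * g⁻¹} : Set G) with hC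
  have hconj : ∀ (h : G) (w : G), w ∈ Z.map (MulAut.conj h).toMonoidHom ↔ h⁻¹ * w * h ∈ Z := by
    intro h w
    constructor
    · rintro ⟨z, hz, rfl⟩; simpa [mul_assoc] using hz
    · intro hw; exact ⟨_, hw, by simp [mul_assoc]⟩
  have hwc : ∀ h : G, (∀ z ∈ Z, h * z * h⁻¹ ∈ P) → h ∈ Subgroup.normalizer (Z : Set G) := by
    intro h hh
    rw [Subgroup.mem_normalizer_iff_map_conj_eq]
    refine hW.2 h ?_
    rintro _ ⟨z, hz, rfl⟩
    exact hh z hz
  have hZC : Z ≤ C := by
    intro z hz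
    rw [hC, Subgroup.mem_centralizer_singleton_iff]
    exact (Subgroup.mem_centralizer_iff.1 (hZ hz) _ hy).symm
  have hgZC : Z.map (MulAut.conj g).toMonoidHom ≤ C := by
    rintro _ ⟨z, hz, rfl⟩
    have hzx : x * z = z * x := Subgroup.mem_centralizer_iff.1 (hZ hz) x hx
    rw [hC, Subgroup.mem_centralizer_singleton_iff]
    show g * z * g⁻¹ * (g * x * g⁻¹) = g * x * g⁻¹ * (g * z * g⁻¹)
    calc g * z * g⁻¹ * (g * x * g⁻¹) = g * (z * x) * g⁻¹ := by group
      _ = g * (x * z) * g⁻¹ := by rw [hzx]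
      _ = g * x * g⁻¹ * (g * z * g⁻¹) := by group
  have hp1 : IsPGroup p Z := P.2.to_le hW.1
  obtain ⟨S₁, hS₁⟩ := (hp1.comap_subtype (K := C)).exists_le_sylow
  obtain ⟨S₂, hS₂⟩ := ((hp1.map (MulAut.conj g).toMonoidHom).comap_subtype (K := C)).exists_le_sylow
  obtain ⟨c, rfl⟩ := MulAction.exists_smul_eq C S₂ S₁
  obtain ⟨T, hT⟩ := ((c • S₂).2.map C.subtype).exists_le_sylow
  obtain ⟨h, rfl⟩ := MulAction.exists_smul_eq G P T
  have hmem : ∀ w, w ∈ ((h • P : Sylow p G) : Subgroup G) → h⁻¹ * w * h ∈ P := by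
    intro w hw
    rw [Sylow.coe_subgroup_smul, Subgroup.mem_pointwise_smul_iff_inv_smul_mem] at hw
    simp only [← map_inv, MulAut.smul_def, MulAut.conj_apply, inv_inv] at hw
    exact hw
  have hh : h⁻¹ ∈ Subgroup.normalizer (Z : Set G) := by
    refine hwc _ fun z hz => ?_
    rw [inv_inv]
    exact hmem z (hT ⟨⟨z, hZC hz⟩, hS₁ hz, rfl⟩)
  have hcg : h⁻¹ * ((c : G) * g) ∈ Subgroup.normalizer (Z : Set G) := by
    refine hwc _ fun z hz => ?_
    have hz' : (⟨g * z * g⁻¹, hgZC ⟨z, hz, rfl⟩⟩ : C) ∈ (S₂ : Subgroup C) :=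
      hS₂ (show g * z * g⁻¹ ∈ Z.map (MulAut.conj g).toMonoidHom from ⟨z, hz, rfl⟩)
    have := hmem _ (hT ⟨c * ⟨g * z * g⁻¹, hgZC ⟨z, hz, rfl⟩⟩ * c⁻¹, ⟨_, hz', rfl⟩, rfl⟩)
    simpa [mul_assoc] using this
  refine ⟨(c : G) * g, ?_, ?_⟩
  · have := mul_mem (inv_mem hh) hcg
    simpa [mul_assoc] using this
  · have hc : (c : G) * (g * x * g⁻¹) = g * x * g⁻¹ * c :=
      Subgroup.mem_centralizer_singleton_iff.1 c.2
    calc (c : G) * g * x * ((c : G) * g)⁻¹ = (c : G) * (g * x * g⁻¹) * (c : G)⁻¹ := by group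
      _ = g * x * g⁻¹ := by rw [hc, mul_inv_cancel_right]

/-- For an abelian Sylow subgroup the normalizer controls fusion. -/
theorem controls_of_isMulCommutative (P : Sylow p G) (hP : IsMulCommutative P)
    (x : G) (hx : x ∈ P) (g : G) (hy : g * x * g⁻¹ ∈ P) :
    ∃ v ∈ Subgroup.normalizer (P : Set G), v * x * v⁻¹ = g * x * g⁻¹ := by
  haveI : IsMulCommutative (P : Subgroup G) := hP
  obtain ⟨n, hn, he⟩ := P.conj_eq_normalizer_conj_of_mem x g⁻¹ hx (by simpa using hy)
  exact ⟨n⁻¹, inv_mem hn, by simpa using he.symm⟩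

end Cfsg.Agent.Lib.Transfer.Fusion
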