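import Mathlib.GroupTheory.Perm.Fin
import Mathlib.GroupTheory.GroupAction.Quotient
import Mathlib.GroupTheory.OrderOfElement
import Cfsg.Prelude.Def_LocalEven

/-!
# Recognising an involved symmetric group of degree four

* `involves_of_hom`, `exists_hom_of_involves`, `involves_of_injective`, `involves_of_surjective`.
* `involves_perm_four` : a section `V/W` of order four on which a normalising subgroup induces an
  element of order three and an involution gives `Sym(4)`.
-/

set_option autoImplicit false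

namespace Cfsg.Agent.Lib.Transfer.InvolvesS4

open Subgroup

variable {G G' : Type*} [Group G] [Group G'] {X : Type*} [Group X]

theorem involves_of_hom (K : Subgroup G) (φ : K →* X) (hφ : Function.Surjective φ) :
    Cfsg.Involves X G := by
  have h : (φ.ker.map K.subtype).subgroupOf K = φ.ker :=
    Subgroup.comap_map_eq_self_of_injective K.subtype_injective φ.ker
  have hn : ((φ.ker.map K.subtype).subgroupOf K).Normal := by rw [h]; infer_instance
  exact ⟨K, φ.ker.map K.subtype, hn,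
    ⟨(QuotientGroup.quotientMulEquivOfEq h).trans (QuotientGroup.quotientKerEquivOfSurjective φ hφ)⟩⟩

theorem exists_hom_of_involves (h : Cfsg.Involves X G) :
    ∃ (K : Subgroup G) (φ : K →* X), Function.Surjective φ := by
  obtain ⟨K, R, hn, ⟨e⟩⟩ := h
  exact ⟨K, e.toMonoidHom.comp (QuotientGroup.mk' (R.subgroupOf K)),
    e.surjective.comp (QuotientGroup.mk'_surjective _)⟩

theorem involves_of_injective (f : G →* G') (hf : Function.Injective f)
    (h : Cfsg.Involves X G) : Cfsg.Involves X G' := by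
  obtain ⟨K, φ, hφ⟩ := exists_hom_of_involves h
  exact involves_of_hom (K.map f) (φ.comp (K.equivMapOfInjective f hf).symm.toMonoidHom)
    (hφ.comp (K.equivMapOfInjective f hf).symm.surjective)

theorem involves_of_surjective (f : G →* G') (hf : Function.Surjective f)
    (h : Cfsg.Involves X G') : Cfsg.Involves X G := by
  obtain ⟨K, φ, hφ⟩ := exists_hom_of_involves h
  refine involves_of_hom (K.comap f) (φ.comp (f.subgroupComap K)) (hφ.comp ?_)
  intro y
  obtain ⟨x, hx⟩ := hf y
  exact ⟨⟨x, show f x ∈ K by rw [hx]; exact y.2⟩, Subtype.ext hx⟩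

/-- `V/W` of order four with `⟨t, a⟩` inducing the symmetric group on three points. -/
theorem involves_perm_four [Finite G] {V W N : Subgroup G} (hWV : W ≤ V)
    (hNV : N ≤ normalizer (V : Set G)) (hNW : N ≤ normalizer (W : Set G))
    (hVW : V ≤ normalizer (W : Set G)) (hVN : V ⊓ N ≤ W) (h4 : W.relIndex V = 4)
    {t : G} (ht : t ∈ N) (ht3 : t ^ 3 = 1) (htne : ∃ v ∈ V, t * v * t⁻¹ * v⁻¹ ∉ W)
    {a : G} (ha : a ∈ N) (ha2 : ∀ v ∈ V, v⁻¹ * (a * (a * v * a⁻¹) * a⁻¹) ∈ W)
    (hane : ∃ v ∈ V, a * v * a⁻¹ * v⁻¹ ∉ W) :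
    Cfsg.Involves (Equiv.Perm (Fin 4)) G := by
  classical
  let K := V ⊔ N
  let M := (W ⊔ N).subgroupOf K
  let vK : V → K := fun v => ⟨v, mem_sup_left v.2⟩
  have hmemM : ∀ x : G, x ∈ V → x ∈ W ⊔ N → x ∈ W := by
    intro x hxV hx
    have : x ∈ ((W ⊔ N : Subgroup G) : Set G) := hx
    rw [coe_mul_of_right_le_normalizer_left W N hNW] at this
    obtain ⟨w, hw, n, hn, rfl⟩ := this
    refine mul_mem hw (hVN ⟨?_, hn⟩)
    simpa [← mul_assoc] using mul_mem (inv_mem (hWV hw)) hxV
  -- the four points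
  let j : V ⧸ W.subgroupOf V → K ⧸ M := Quotient.map' vK (fun v v' h => by
    rw [QuotientGroup.leftRel_apply] at h ⊢
    exact mem_subgroupOf.mpr (mem_sup_left (T := N) (mem_subgroupOf.mp h)))
  have hj : ∀ v : V, j (v : V ⧸ W.subgroupOf V) = ((vK v : K) : K ⧸ M) := fun v => rfl
  have hjb : Function.Bijective j := by
    constructor
    · intro x y
      induction x using QuotientGroup.induction_on with
      | H x =>
        induction y using QuotientGroup.induction_on with
        | H y =>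
          rw [hj, hj, QuotientGroup.eq, QuotientGroup.eq]
          intro h
          exact mem_subgroupOf.mpr (hmemM _ (V.mul_mem (V.inv_mem x.2) y.2) (mem_subgroupOf.mp h))
    · intro k
      induction k using QuotientGroup.induction_on with
      | H k =>
        have : (k : G) ∈ ((V ⊔ N : Subgroup G) : Set G) := k.2
        rw [coe_mul_of_right_le_normalizer_left V N hNV] at this
        obtain ⟨v, hv, n, hn, hk⟩ := this
        refine ⟨((⟨v, hv⟩ : V) : V ⧸ W.subgroupOf V), ?_⟩
        rw [hj, QuotientGroup.eq, mem_subgroupOf]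
        have h1 : v⁻¹ * (k : G) = n := by rw [← hk]; group
        exact show v⁻¹ * (k : G) ∈ W ⊔ N by rw [h1]; exact mem_sup_right hn
  have hcard : Nat.card (K ⧸ M) = 4 := by
    rw [← Nat.card_congr (Equiv.ofBijective j hjb)]
    exact h4
  let φ : K →* Equiv.Perm (K ⧸ M) := MulAction.toPermHom K (K ⧸ M)
  have hact : ∀ (n : G) (hn : n ∈ N) (v : V),
      φ ⟨n, mem_sup_right hn⟩ (j (v : V ⧸ W.subgroupOf V)) =
        j ((⟨n * v * n⁻¹, (mem_normalizer_iff.mp (hNV hn) v).mp v.2⟩ : V) : V ⧸ W.subgroupOf V) := by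
    intro n hn v
    rw [hj, hj]
    show (((⟨n, mem_sup_right hn⟩ : K) * vK v : K) : K ⧸ M) = _
    rw [QuotientGroup.eq, mem_subgroupOf]
    show (n * (v : G))⁻¹ * (n * v * n⁻¹) ∈ W ⊔ N
    rw [show (n * (v : G))⁻¹ * (n * v * n⁻¹) = n⁻¹ by group]
    exact mem_sup_right (inv_mem hn)
  have hfix : ∀ (n : G) (hn : n ∈ N),
      φ ⟨n, mem_sup_right hn⟩ ((1 : K) : K ⧸ M) = ((1 : K) : K ⧸ M) := by
    intro n hn
    show (((⟨n, mem_sup_right hn⟩ : K) * 1 : K) : K ⧸ M) = _
    rw [QuotientGroup.eq, mem_subgroupOf]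
    show (n * 1)⁻¹ * 1 ∈ W ⊔ N
    simpa using mem_sup_right (S := W) (inv_mem hn)
  have hmove : ∀ (n : G) (hn : n ∈ N), (∃ v ∈ V, n * v * n⁻¹ * v⁻¹ ∉ W) →
      φ ⟨n, mem_sup_right hn⟩ ≠ 1 := by
    rintro n hn ⟨v, hv, hvW⟩ h
    have h1 := hact n hn ⟨v, hv⟩
    rw [h, Equiv.Perm.one_apply] at h1
    have h2 := (QuotientGroup.eq.mp (hjb.1 h1) : _ ∈ W.subgroupOf V)
    rw [mem_subgroupOf] at h2
    replace h2 : v⁻¹ * (n * v * n⁻¹) ∈ W := h2
    have h3 := (mem_normalizer_iff.mp (hVW hv) _).mp h2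
    refine hvW ?_
    have e : n * v * n⁻¹ * v⁻¹ = v * (v⁻¹ * (n * v * n⁻¹)) * v⁻¹ := by group
    rw [e]; exact h3
  let R := φ.range
  have htrans : MulAction.IsPretransitive R (K ⧸ M) := by
    constructor
    intro x y
    induction x using QuotientGroup.induction_on with
    | H x =>
      induction y using QuotientGroup.induction_on with
      | H y =>
        refine ⟨⟨φ (y * x⁻¹), _, rfl⟩, ?_⟩
        show ((y * x⁻¹ * x : K) : K ⧸ M) = _
        rw [inv_mul_cancel_right]
  let pt : K ⧸ M := ((1 : K) : K ⧸ M)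
  let St := MulAction.stabilizer R pt
  have hSt : St.index = 4 := by
    rw [MulAction.index_stabilizer_of_transitive R pt, hcard]
  let tt : St := ⟨⟨φ ⟨t, mem_sup_right ht⟩, _, rfl⟩, hfix t ht⟩
  let aa : St := ⟨⟨φ ⟨a, mem_sup_right ha⟩, _, rfl⟩, hfix a ha⟩
  have hott : orderOf tt = 3 := by
    have : Fact (Nat.Prime 3) := ⟨Nat.prime_three⟩
    refine orderOf_eq_prime ?_ fun h => hmove t ht htne
      (congrArg (fun z : St => ((z : R) : Equiv.Perm (K ⧸ M))) h)
    refine Subtype.ext (Subtype.ext ?_)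
    show φ ⟨t, mem_sup_right ht⟩ ^ 3 = 1
    rw [← map_pow, show (⟨t, mem_sup_right ht⟩ : K) ^ 3 = 1 from Subtype.ext ht3, map_one]
  have hoaa : orderOf aa = 2 := by
    have : Fact (Nat.Prime 2) := ⟨Nat.prime_two⟩
    refine orderOf_eq_prime ?_ fun h => hmove a ha hane
      (congrArg (fun z : St => ((z : R) : Equiv.Perm (K ⧸ M))) h)
    rw [pow_two]
    refine Subtype.ext (Subtype.ext ?_)
    show φ ⟨a, mem_sup_right ha⟩ * φ ⟨a, mem_sup_right ha⟩ = 1
    refine Equiv.ext fun x => ?_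
    obtain ⟨q, rfl⟩ := hjb.2 x
    induction q using QuotientGroup.induction_on with
    | H v =>
      rw [Equiv.Perm.mul_apply, Equiv.Perm.one_apply]
      rw [hact a ha, hact a ha]
      refine congrArg j ?_
      rw [QuotientGroup.eq, mem_subgroupOf]
      have h1 := inv_mem (ha2 v v.2)
      rwa [mul_inv_rev, inv_inv] at h1
  have h6 : 6 ∣ Nat.card St := by
    refine Nat.Coprime.mul_dvd_of_dvd_of_dvd (by norm_num : Nat.Coprime 2 3) ?_ ?_
    · exact hoaa ▸ orderOf_dvd_natCard aa
    · exact hott ▸ orderOf_dvd_natCard tt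
  have hR : 24 ∣ Nat.card R := by
    rw [← St.index_mul_card, hSt]
    exact Nat.mul_dvd_mul_left 4 h6
  have hperm : Nat.card (Equiv.Perm (K ⧸ M)) = 24 := by
    rw [Nat.card_perm, hcard]; rfl
  have hRtop : R = ⊤ := Subgroup.eq_top_of_card_eq R (by
    refine le_antisymm (hperm.symm ▸ ?_) (hperm ▸ Nat.le_of_dvd Nat.card_pos hR)
    exact hperm ▸ R.card_le_card_group)
  let e : (K ⧸ M) ≃ Fin 4 := (Finite.equivFin (K ⧸ M)).trans (finCongr hcard)
  exact involves_of_hom K (e.permCongrHom.toMonoidHom.comp φ)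
    (e.permCongrHom.surjective.comp (MonoidHom.range_eq_top.mp hRtop))

end Cfsg.Agent.Lib.Transfer.InvolvesS4
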