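import Cfsg.Agent.Lib.Transfer.Fusion

/-!
Frobenius' normal `p`-complement theorem, and normal complements of Hall subgroups from the
normal `p`-complements.
-/

set_option autoImplicit false

open Cfsg
open scoped Pointwise commutatorElement

namespace Cfsg.Agent.Lib.Transfer.Frobenius

open Cfsg.Agent.Lib.Transfer.PResidual Cfsg.Agent.Lib.Transfer.Fusion

variable {G : Type*} [Group G] [Finite G] {p : ℕ} [hp : Fact p.Prime]

/-- In a group with a normal `p`-complement, a `p'`-element normalizing a `p`-subgroup centralizes it. -/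
theorem mem_centralizer_of_hasNormalPComplement (h : HasNormalPComplement p G) {Q : Subgroup G}
    (hQ : IsPGroup p Q) {g : G} (hg : g ∈ Subgroup.normalizer (Q : Set G))
    (hgp : (orderOf g).Coprime p) : g ∈ Subgroup.centralizer (Q : Set G) := by
  rw [Subgroup.mem_centralizer_iff]
  intro q hq
  have h1 : ⁅q, g⁆ ∈ pResidual p G := by
    rw [commutatorElement_def]
    exact mul_mem (pResidual_normal.conj_mem g (mem_pResidual hgp) q) (inv_mem (mem_pResidual hgp))
  have h2 : ⁅q, g⁆ ∈ Q := by
    rw [commutatorElement_def, mul_assoc, mul_assoc]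
    refine mul_mem hq ?_
    rw [← mul_assoc]
    exact (Subgroup.mem_normalizer_iff.1 hg q⁻¹).1 (inv_mem hq)
  exact commutatorElement_eq_one_iff_mul_comm.1
    (Subgroup.disjoint_def.1 (disjoint_of_not_dvd (hasNormalPComplement_iff_not_dvd.1 h) hQ) h1 h2)

/-- **Frobenius' normal `p`-complement theorem**, element form. -/
theorem hasNormalPComplement_of_forall_centralizes
    (h : ∀ Q : Subgroup G, IsPGroup p Q → Q ≠ ⊥ → ∀ g ∈ Subgroup.normalizer (Q : Set G),
      (orderOf g).Coprime p → g ∈ Subgroup.centralizer (Q : Set G)) :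
    HasNormalPComplement p G := by
  have hres : ∀ Q : Subgroup G, IsPGroup p Q → Q ≠ ⊥ →
      ∀ k ∈ pResidual p (Subgroup.normalizer (Q : Set G)),
        (k : G) ∈ Subgroup.centralizer (Q : Set G) := by
    intro Q hQ hQ1
    exact pResidual_le_iff (K := (Subgroup.centralizer (Q : Set G)).comap
      (Subgroup.normalizer (Q : Set G)).subtype) |>.2 fun k hk =>
        h Q hQ hQ1 k k.2 (by rwa [Subgroup.orderOf_coe])
  have claim : ∀ (d : ℕ) (P T : Sylow p G),
      Nat.card G ≤ Nat.card ((P : Subgroup G) ⊓ T : Subgroup G) + d →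
      ∃ c ∈ Subgroup.centralizer (((P : Subgroup G) ⊓ T : Subgroup G) : Set G), c • P = T := by
    intro d
    induction d with
    | zero =>
      intro P T hd
      have hle := Subgroup.eq_top_of_card_eq ((P : Subgroup G) ⊓ T)
        (le_antisymm (Subgroup.card_le_card_group _) (by simpa using hd))
      refine ⟨1, one_mem _, ?_⟩
      rw [one_smul]
      exact Sylow.ext ((top_le_iff.1 (hle.ge.trans inf_le_left)).trans
        (top_le_iff.1 (hle.ge.trans inf_le_right)).symm)
    | succ d ih =>
      intro P T hd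
      set D := (P : Subgroup G) ⊓ T with hD
      by_cases hPT : P = T
      · exact ⟨1, one_mem _, by rw [one_smul, hPT]⟩
      by_cases hD1 : D = ⊥
      · obtain ⟨c, hc⟩ := MulAction.exists_smul_eq G P T
        refine ⟨c, ?_, hc⟩
        rw [Subgroup.mem_centralizer_iff, hD1]
        intro x hx
        rw [Subgroup.mem_bot.1 hx, one_mul, mul_one]
      have hDp : IsPGroup p D := P.2.to_le inf_le_left
      set M : Subgroup G := Subgroup.normalizer (D : Set G) with hM
      -- `D` grows inside each of `P`, `T`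
      have grow : ∀ R : Sylow p G, D ≤ R → D ≠ R → D < (R : Subgroup G) ⊓ M := by
        intro R hDR hne
        haveI : Group.IsNilpotent (R : Subgroup G) := R.2.isNilpotent
        have hlt : D.subgroupOf (R : Subgroup G) < ⊤ := by
          rw [lt_top_iff_ne_top, Ne, Subgroup.subgroupOf_eq_top]
          exact fun hle => hne (le_antisymm hDR hle)
        have h1 := normalizerCondition_of_isNilpotent (G := (R : Subgroup G)) _ hlt
        obtain ⟨x, hx, hxD⟩ := SetLike.exists_of_lt h1
        refine lt_of_le_of_ne (le_inf hDR Subgroup.le_normalizer) fun heq => hxD ?_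
        rw [Subgroup.mem_subgroupOf, heq]
        refine ⟨x.2, Subgroup.mem_normalizer_iff.2 fun y => ?_⟩
        constructor
        · intro hy
          exact (Subgroup.mem_normalizer_iff.1 hx ⟨y, hDR hy⟩).1 hy
        · intro hy
          have h2 := (Subgroup.mem_normalizer_iff.1 (inv_mem hx) ⟨_, hDR hy⟩).1 hy
          simpa [Subgroup.mem_subgroupOf, mul_assoc] using h2
      have hDP : D ≠ P := fun he => hPT (Sylow.ext (P.3 T.2 (he ▸ inf_le_right : _)).symm)
      have hDT : D ≠ T := fun he => hPT (Sylow.ext (T.3 P.2 (he ▸ inf_le_left : _)))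
      have gP := grow P inf_le_left hDP
      have gT := grow T inf_le_right hDT
      obtain ⟨R₁, hR₁⟩ := ((P.2.to_le (inf_le_left : (P : Subgroup G) ⊓ M ≤ P)).comap_subtype
        (K := M)).exists_le_sylow
      obtain ⟨R₂, hR₂⟩ := ((T.2.to_le (inf_le_left : (T : Subgroup G) ⊓ M ≤ T)).comap_subtype
        (K := M)).exists_le_sylow
      obtain ⟨m, hm⟩ := MulAction.exists_smul_eq M R₁ R₂
      obtain ⟨k, hk, z, hz, rfl⟩ := exists_mul_sylow R₁ m
      have hk' : k • R₁ = R₂ := by
        rw [← hm, mul_smul, Sylow.smul_eq_iff_mem_normalizer.2 (Subgroup.le_normalizer hz)]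
      have hkC : (k : G) ∈ Subgroup.centralizer (D : Set G) := hres D hDp hD1 k hk
      obtain ⟨S, hS⟩ := (R₁.2.map M.subtype).exists_le_sylow
      have hPS : (P : Subgroup G) ⊓ M ≤ S := fun x hx =>
        hS ⟨⟨x, hx.2⟩, hR₁ hx, rfl⟩
      have hTS : (T : Subgroup G) ⊓ M ≤ ((k : G) • S : Sylow p G) := fun x hx => by
        have hx' : (⟨x, hx.2⟩ : M) ∈ (R₂ : Subgroup M) := hR₂ hx
        rw [← hk', Sylow.coe_subgroup_smul, Subgroup.mem_pointwise_smul_iff_inv_smul_mem] at hx'
        rw [Sylow.coe_subgroup_smul, Subgroup.mem_pointwise_smul_iff_inv_smul_mem]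
        have := hS ⟨_, hx', rfl⟩
        simpa [MulAut.smul_def] using this
      have card_lt : ∀ E : Subgroup G, D < E → Nat.card G ≤ Nat.card E + d := by
        intro E hE
        have h1 : Nat.card D < Nat.card E := by
          rcases lt_or_eq_of_le (Subgroup.card_le_of_le hE.le) with h1 | h1
          · exact h1
          · exact absurd (Subgroup.eq_of_le_of_card_ge hE.le h1.ge) hE.ne
        omega
      obtain ⟨c, hc, hcS⟩ := ih P S (card_lt _ (gP.trans_le (le_inf inf_le_left hPS)))
      obtain ⟨e, he, heT⟩ := ih ((k : G) • S) T (card_lt _ (gT.trans_le (le_inf hTS inf_le_left)))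
      refine ⟨e * (k * c), mul_mem ?_ (mul_mem hkC ?_), by rw [mul_smul, mul_smul, hcS, heT]⟩
      · exact Subgroup.centralizer_le (gT.trans_le (le_inf hTS inf_le_left)).le he
      · exact Subgroup.centralizer_le (gP.trans_le (le_inf inf_le_left hPS)).le hc
  let P : Sylow p G := default
  refine hasNormalPComplement_of_controls P fun x hx g hy => ?_
  obtain ⟨c, hc, hcT⟩ := claim (Nat.card G) P (g⁻¹ • P) le_add_self
  have hgc : g * c ∈ Subgroup.normalizer ((P : Subgroup G) : Set G) :=
    Sylow.smul_eq_iff_mem_normalizer.1 (by rw [mul_smul, hcT, smul_inv_smul])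
  have hxT : x ∈ ((g⁻¹ • P : Sylow p G) : Subgroup G) := by
    rw [Sylow.coe_subgroup_smul, Subgroup.mem_pointwise_smul_iff_inv_smul_mem]
    simp only [← map_inv, MulAut.smul_def, MulAut.conj_apply, inv_inv]
    exact hy
  have hcx : x * c = c * x := Subgroup.mem_centralizer_iff.1 hc x ⟨hx, hxT⟩
  have e0 : g * c * x * (g * c)⁻¹ = g * x * g⁻¹ := by
    rw [mul_assoc g c x, ← hcx]; group
  by_cases hP1 : (P : Subgroup G) = ⊥
  · refine ⟨1, one_mem _, ?_⟩
    have h1 : x = 1 := Subgroup.mem_bot.1 (hP1 ▸ hx)
    rw [h1]; simp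
  obtain ⟨w, hw, z, hz, hwz⟩ := exists_mul_sylow (P.subtype Subgroup.le_normalizer)
    (⟨g * c, hgc⟩ : Subgroup.normalizer ((P : Subgroup G) : Set G))
  have hz' : (z : G) ∈ P := hz
  have hwC : (w : G) ∈ Subgroup.centralizer ((P : Subgroup G) : Set G) :=
    hres (P : Subgroup G) P.2 hP1 w hw
  refine ⟨z, hz', ?_⟩
  rw [← e0, show g * c = (w : G) * z from (congrArg Subtype.val hwz).symm]
  have hzx : (z : G) * x * (z : G)⁻¹ ∈ (P : Subgroup G) := mul_mem (mul_mem hz' hx) (inv_mem hz')
  have h3 := Subgroup.mem_centralizer_iff.1 hwC _ hzx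
  rw [show (w : G) * z * x * ((w : G) * z)⁻¹
    = ((w : G) * ((z : G) * x * (z : G)⁻¹)) * (w : G)⁻¹ by group, ← h3, mul_inv_cancel_right]

omit [Finite G] in
/-- Normal complement to a subgroup `H` from normal `p`-complements for all `p ∣ |H|`. -/
theorem exists_normal_complement_of_forall [Finite G] (H : Subgroup G)
    (hHall : (Nat.card H).Coprime H.index)
    (h : ∀ q : ℕ, q.Prime → q ∣ Nat.card H → HasNormalPComplement q G) :
    ∃ N : Subgroup G, N.Normal ∧ N.IsComplement' H := by
  have key : ∀ s : Finset ℕ, (∀ q ∈ s, q.Prime ∧ q ∣ Nat.card H) → ∃ N : Subgroup G,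
      N.Normal ∧ (∀ q ∈ s, ¬ q ∣ Nat.card N) ∧ N.index.Coprime H.index := by
    intro s
    induction s using Finset.induction with
    | empty => exact fun _ => ⟨⊤, inferInstance, by simp, by simp⟩
    | @insert q s hq ih =>
      intro hs
      obtain ⟨hqp, hqH⟩ := hs q (Finset.mem_insert_self _ _)
      haveI := Fact.mk hqp
      obtain ⟨N, hN, hdvd, hcop⟩ := ih fun r hr => hs r (Finset.mem_insert_of_mem hr)
      obtain ⟨n, hn⟩ := exists_index_eq_pow (p := q) (G := G)
      refine ⟨N ⊓ pResidual q G, inferInstance, ?_, ?_⟩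
      · intro r hr
        rcases Finset.mem_insert.1 hr with rfl | hr
        · exact fun hd => (hasNormalPComplement_iff_not_dvd.1 (h r hqp hqH))
            (hd.trans (Subgroup.card_dvd_of_le inf_le_right))
        · exact fun hd => hdvd r hr (hd.trans (Subgroup.card_dvd_of_le inf_le_left))
      · have hq' : q.Coprime H.index := hHall.coprime_dvd_left hqH
        refine Nat.Coprime.coprime_dvd_left ?_ (hcop.mul_left (hq'.pow_left n))
        rw [← hn, mul_comm,
          ← Subgroup.relIndex_mul_index (inf_le_right : N ⊓ pResidual q G ≤ pResidual q G),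
          Subgroup.inf_relIndex_right, mul_comm ((pResidual q G).index)]
        exact mul_dvd_mul_right (Subgroup.relIndex_dvd_index_of_normal N _) _
  obtain ⟨N, hN, hdvd, hcop⟩ := key (Nat.card H).primeFactors fun q hq =>
    ⟨Nat.prime_of_mem_primeFactors hq, Nat.dvd_of_mem_primeFactors hq⟩
  have hNH : (Nat.card N).Coprime (Nat.card H) := Nat.coprime_of_dvd fun r hr h1 h2 =>
    hdvd r (Nat.mem_primeFactors.2 ⟨hr, h2, Nat.card_pos.ne'⟩) h1
  refine ⟨N, hN, Subgroup.isComplement'_of_coprime ?_ hNH⟩
  have h1 := N.card_mul_index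
  have h2 := H.card_mul_index
  have hd1 : N.index ∣ Nat.card H := (hcop.dvd_of_dvd_mul_right
    (by rw [h2]; exact N.index_dvd_card))
  have hd2 : Nat.card N ∣ H.index :=
    hNH.dvd_of_dvd_mul_left (by rw [h2]; exact N.card_subgroup_dvd_card)
  refine Nat.dvd_antisymm ?_ ?_
  · rw [← h2, mul_comm]; exact mul_dvd_mul_left _ hd2
  · rw [← h1]; exact mul_dvd_mul_left _ hd1

omit [Finite G] hp in
/-- In a nilpotent group, elements of coprime finite orders commute. -/
theorem commute_of_coprime_of_isNilpotent [Group.IsNilpotent G] {a b : G}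
    (h : (orderOf a).Coprime (orderOf b)) : a * b = b * a := by
  revert a b
  refine Group.nilpotent_center_quotient_ind (P := fun G _ _ => ∀ {a b : G},
    (orderOf a).Coprime (orderOf b) → a * b = b * a) G ?_ ?_
  · intro G _ _ a b _
    exact Subsingleton.elim _ _
  · intro G _ _ ih a b h
    have hc : ⁅a, b⁆ ∈ Subgroup.center G := by
      rw [← QuotientGroup.eq_one_iff, ← QuotientGroup.mk'_apply, map_commutatorElement,
        commutatorElement_eq_one_iff_mul_comm]
      exact ih (Nat.Coprime.coprime_dvd_left (orderOf_map_dvd _ a)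
        (h.coprime_dvd_right (orderOf_map_dvd _ b)))
    have hcz := Subgroup.mem_center_iff.1 hc
    set c := ⁅a, b⁆ with hcdef
    have e1 : a * b * a⁻¹ = c * b := by rw [hcdef, commutatorElement_def]; group
    have e2 : b * a * b⁻¹ = c⁻¹ * a := by
      rw [hcdef, commutatorElement_def]; group
    have p1 : c ^ orderOf b = 1 := by
      have := congrArg (fun x => x ^ orderOf b) e1
      simpa [conj_pow, (show Commute c b from (hcz b).symm).mul_pow, pow_orderOf_eq_one] using this.symm
    have p2 : c ^ orderOf a = 1 := by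
      have := congrArg (fun x => x ^ orderOf a) e2
      simpa [conj_pow, (show Commute c⁻¹ a from (Commute.inv_left (hcz a).symm)).mul_pow,
        pow_orderOf_eq_one] using this.symm
    have hc1 : c = 1 := orderOf_eq_one_iff.1 (Nat.eq_one_of_dvd_coprimes h
      (orderOf_dvd_of_pow_eq_one p2) (orderOf_dvd_of_pow_eq_one p1))
    exact commutatorElement_eq_one_iff_mul_comm.1 hc1

/-- A finite nilpotent group has a normal `p`-complement. -/
theorem hasNormalPComplement_of_isNilpotent [Group.IsNilpotent G] : HasNormalPComplement p G :=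
  hasNormalPComplement_of_forall_centralizes fun Q hQ _ g _ hg => by
    rw [Subgroup.mem_centralizer_iff]
    intro q hq
    refine commute_of_coprime_of_isNilpotent ?_
    obtain ⟨k, hk⟩ := IsPGroup.iff_orderOf.1 hQ ⟨q, hq⟩
    rw [Subgroup.orderOf_mk] at hk
    rw [hk]
    exact (hg.symm).pow_left k

end Cfsg.Agent.Lib.Transfer.Frobenius
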