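import Cfsg.Prelude.Def_Transfer
import Mathlib.GroupTheory.Nilpotent
import Mathlib.GroupTheory.SchurZassenhaus
import Mathlib.Tactic

/-!
`pResidual p G` (the subgroup generated by the elements of order prime to `p`, i.e. `O^p(G)`) and
`HasNormalPComplement p G`: basic API.
-/

set_option autoImplicit false

open Cfsg
open scoped Pointwise

namespace Cfsg.Agent.Lib.Transfer.PResidual

variable {G : Type*} [Group G] {H : Type*} [Group H] {p : ℕ}

/-- An element of finite order is a product of a `p`-element and a `p'`-element, both powers of it. -/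
theorem exists_pPart_mul_pPrimePart [hp : Fact p.Prime] (g : G) (hg : IsOfFinOrder g) :
    ∃ a b : G, a ∈ Subgroup.zpowers g ∧ b ∈ Subgroup.zpowers g ∧ a * b = g ∧ a * b = b * a ∧
      (∃ k : ℕ, a ^ p ^ k = 1) ∧ (orderOf b).Coprime p := by
  have hn : orderOf g ≠ 0 := (orderOf_pos_iff.2 hg).ne'
  obtain ⟨k, m, hkm, hcop⟩ : ∃ k m : ℕ, orderOf g = p ^ k * m ∧ Nat.Coprime p m :=
    ⟨_, _, (Nat.ordProj_mul_ordCompl_eq_self (orderOf g) p).symm, Nat.coprime_ordCompl hp.out hn⟩
  obtain ⟨u, v, huv⟩ : IsCoprime ((p ^ k : ℕ) : ℤ) (m : ℤ) :=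
    Int.isCoprime_iff_nat_coprime.2 (by simpa using hcop.pow_left k)
  refine ⟨g ^ (v * (m : ℤ)), g ^ (u * ((p ^ k : ℕ) : ℤ)), Subgroup.zpow_mem_zpowers g _,
    Subgroup.zpow_mem_zpowers g _, ?_, ?_, ⟨k, ?_⟩, ?_⟩
  · rw [← zpow_add, add_comm, huv, zpow_one]
  · rw [← zpow_add, ← zpow_add, add_comm]
  · rw [← zpow_natCast, ← zpow_mul, ← orderOf_dvd_iff_zpow_eq_one]
    exact ⟨v, by rw [hkm]; push_cast; ring⟩
  · refine Nat.Coprime.coprime_dvd_left ?_ hcop.symm
    rw [orderOf_dvd_iff_pow_eq_one, ← zpow_natCast, ← zpow_mul, ← orderOf_dvd_iff_zpow_eq_one]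
    exact ⟨u, by rw [hkm]; push_cast; ring⟩

theorem mem_pResidual {g : G} (h : (orderOf g).Coprime p) : g ∈ pResidual p G :=
  Subgroup.subset_closure h

theorem pResidual_le_iff {K : Subgroup G} :
    pResidual p G ≤ K ↔ ∀ g : G, (orderOf g).Coprime p → g ∈ K :=
  Subgroup.closure_le K

theorem map_pResidual_le (f : G →* H) : (pResidual p G).map f ≤ pResidual p H := by
  rw [Subgroup.map_le_iff_le_comap, pResidual_le_iff]
  exact fun g hg => mem_pResidual (hg.coprime_dvd_left (orderOf_map_dvd f g))

theorem map_pResidual_equiv (e : G ≃* H) :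
    (pResidual p G).map e.toMonoidHom = pResidual p H := by
  refine le_antisymm (map_pResidual_le _) (pResidual_le_iff.2 fun h hh => ?_)
  exact ⟨e.symm h, mem_pResidual (by rwa [MulEquiv.orderOf_eq]), by simp⟩

instance pResidual_characteristic : (pResidual p G).Characteristic :=
  Subgroup.characteristic_iff_map_eq.2 fun e => map_pResidual_equiv e

instance pResidual_normal : (pResidual p G).Normal :=
  Subgroup.normal_of_characteristic _

theorem map_subtype_le (K : Subgroup G) :
    (pResidual p K).map K.subtype ≤ pResidual p G ⊓ K :=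
  le_inf (map_pResidual_le _) (Subgroup.map_subtype_le _)

/-- Elements of `K` of order prime to `p` lie in the image of `pResidual p K`. -/
theorem mem_map_subtype {K : Subgroup G} {g : G} (hgK : g ∈ K) (hg : (orderOf g).Coprime p) :
    g ∈ (pResidual p K).map K.subtype :=
  ⟨⟨g, hgK⟩, mem_pResidual (by rwa [Subgroup.orderOf_mk]), rfl⟩

theorem map_subtype_eq_of_le {K : Subgroup G} (hK : pResidual p G ≤ K) :
    (pResidual p K).map K.subtype = pResidual p G :=
  le_antisymm (map_pResidual_le _)
    (pResidual_le_iff.2 fun g hg => mem_map_subtype (hK (mem_pResidual hg)) hg)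

theorem pResidual_pResidual : pResidual p (pResidual p G) = ⊤ := by
  apply Subgroup.map_injective (pResidual p G).subtype_injective
  rw [map_subtype_eq_of_le le_rfl, ← MonoidHom.range_eq_map, Subgroup.range_subtype]

variable [hp : Fact p.Prime]

theorem eq_one_of_pGroup_of_coprime {a : G} (hP : IsPGroup p G) (ha : (orderOf a).Coprime p) :
    a = 1 := by
  obtain ⟨k, hk⟩ := IsPGroup.iff_orderOf.1 hP a
  rw [← orderOf_eq_one_iff, ← Nat.coprime_self (orderOf a)]
  have := ha.pow_right k
  rwa [← hk] at this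

theorem pResidual_le_ker (f : G →* H) (hH : IsPGroup p H) : pResidual p G ≤ f.ker :=
  pResidual_le_iff.2 fun g hg =>
    eq_one_of_pGroup_of_coprime hH (hg.coprime_dvd_left (orderOf_map_dvd f g))

theorem pResidual_le_of_isPGroup_quotient (N : Subgroup G) [N.Normal]
    (h : IsPGroup p (G ⧸ N)) : pResidual p G ≤ N := by
  simpa using pResidual_le_ker (QuotientGroup.mk' N) h

theorem pResidual_eq_bot_iff [Finite G] : pResidual p G = ⊥ ↔ IsPGroup p G := by
  constructor
  · intro h g
    obtain ⟨a, b, -, -, hab, -, ⟨k, hk⟩, hb⟩ :=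
      exists_pPart_mul_pPrimePart (p := p) g (isOfFinOrder_of_finite g)
    have hb1 : b = 1 := by simpa [h] using mem_pResidual hb
    exact ⟨k, by rw [← hab, hb1, mul_one, hk]⟩
  · exact fun h => le_bot_iff.1 (pResidual_le_iff.2 fun g hg =>
      Subgroup.mem_bot.2 (eq_one_of_pGroup_of_coprime h hg))

theorem isPGroup_quotient [Finite G] : IsPGroup p (G ⧸ pResidual p G) := by
  intro q
  obtain ⟨g, rfl⟩ := QuotientGroup.mk'_surjective _ q
  obtain ⟨a, b, -, -, hab, -, ⟨k, hk⟩, hb⟩ :=
    exists_pPart_mul_pPrimePart (p := p) g (isOfFinOrder_of_finite g)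
  have hb1 : QuotientGroup.mk' (pResidual p G) b = 1 :=
    (QuotientGroup.eq_one_iff b).2 (mem_pResidual hb)
  exact ⟨k, by rw [← hab, map_mul, hb1, mul_one, ← map_pow, hk, map_one]⟩

theorem exists_index_eq_pow [Finite G] : ∃ n, (pResidual p G).index = p ^ n :=
  IsPGroup.iff_card.1 isPGroup_quotient

theorem map_pResidual_of_surjective [Finite G] (f : G →* H) (hf : Function.Surjective f) :
    (pResidual p G).map f = pResidual p H := by
  refine le_antisymm (map_pResidual_le _) ?_
  haveI : ((pResidual p G).map f).Normal := pResidual_normal.map f hf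
  apply pResidual_le_of_isPGroup_quotient
  refine (isPGroup_quotient (p := p) (G := G)).of_surjective
    (QuotientGroup.map _ _ f (Subgroup.le_comap_map f _)) ?_
  exact QuotientGroup.map_surjective_of_surjective _ _ f
    ((QuotientGroup.mk'_surjective _).comp hf) _

theorem sup_sylow_eq_top [Finite G] (P : Sylow p G) : pResidual p G ⊔ P = ⊤ := by
  rw [← Subgroup.index_eq_one]
  obtain ⟨n, hn⟩ := exists_index_eq_pow (p := p) (G := G)
  have h1 : (pResidual p G ⊔ P).index ∣ p ^ n := hn ▸ Subgroup.index_dvd_of_le le_sup_left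
  have h2 : (pResidual p G ⊔ P).index ∣ (P : Subgroup G).index :=
    Subgroup.index_dvd_of_le le_sup_right
  exact Nat.eq_one_of_dvd_coprimes
    ((hp.out.coprime_iff_not_dvd.2 P.not_dvd_index).pow_left n) h1 h2

/-- Every element of `G` is (element of `O^p(G)`) times (element of `P`). -/
theorem exists_mul_sylow [Finite G] (P : Sylow p G) (g : G) :
    ∃ k ∈ pResidual p G, ∃ z ∈ P, k * z = g := by
  have hg : g ∈ ((pResidual p G ⊔ P : Subgroup G) : Set G) := by simp [sup_sylow_eq_top P]
  rw [Subgroup.normal_mul (pResidual p G) (P : Subgroup G)] at hg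
  exact hg

/-! ### Normal p-complements -/

section Complement

variable [Finite G]

/-- A `p`-subgroup meets a subgroup of order prime to `p` trivially. -/
theorem disjoint_of_not_dvd {N Q : Subgroup G} (hN : ¬ p ∣ Nat.card N) (hQ : IsPGroup p Q) :
    Disjoint N Q := by
  rw [disjoint_iff, ← Subgroup.card_eq_one]
  exact (hQ.to_le inf_le_right).card_eq_or_dvd.resolve_right fun h =>
    hN (h.trans (Subgroup.card_dvd_of_le inf_le_left))

/-- A normal subgroup has order prime to `p` iff it meets a Sylow `p`-subgroup trivially. -/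
theorem not_dvd_card_iff_inf_sylow (N : Subgroup G) [N.Normal] (P : Sylow p G) :
    ¬ p ∣ Nat.card N ↔ N ⊓ P = ⊥ := by
  refine ⟨fun h => (disjoint_of_not_dvd h P.2).eq_bot, fun h hdvd => ?_⟩
  obtain ⟨x, hx⟩ := exists_prime_orderOf_dvd_card' (G := N) p hdvd
  have hxP : IsPGroup p (Subgroup.zpowers (x : G)) :=
    IsPGroup.of_card (n := 1) (by rw [Nat.card_zpowers, Subgroup.orderOf_coe, hx, pow_one])
  obtain ⟨Q, hQ⟩ := hxP.exists_le_sylow
  obtain ⟨g, rfl⟩ := MulAction.exists_smul_eq G P Q
  have hxg : g⁻¹ * x * g ∈ N ⊓ (P : Subgroup G) := by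
    refine ⟨Subgroup.Normal.conj_mem' ‹N.Normal› x x.2 g, ?_⟩
    have := hQ (Subgroup.mem_zpowers (x : G))
    rw [Sylow.coe_subgroup_smul, Subgroup.mem_pointwise_smul_iff_inv_smul_mem] at this
    simp only [← map_inv, MulAut.smul_def, MulAut.conj_apply, inv_inv] at this
    exact this
  rw [h, Subgroup.mem_bot] at hxg
  have : (x : G) = 1 := by
    have := congrArg (fun y => g * y * g⁻¹) hxg
    simpa [mul_assoc] using this
  rw [show x = 1 from Subtype.ext this, orderOf_one] at hx
  exact hp.out.one_lt.ne hx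

/-- A subgroup of order prime to `p` whose index is a power of `p` complements every Sylow. -/
theorem isComplement'_of_not_dvd {N : Subgroup G} (hN : ¬ p ∣ Nat.card N)
    {n : ℕ} (hidx : N.index = p ^ n) (P : Sylow p G) : N.IsComplement' (P : Subgroup G) := by
  obtain ⟨e, he⟩ := IsPGroup.iff_card.1 P.2
  have hcopN : (Nat.card N).Coprime (Nat.card P) := by
    rw [he]; exact (hp.out.coprime_iff_not_dvd.2 hN).symm.pow_right e
  refine Subgroup.isComplement'_of_coprime ?_ hcopN
  have h1 := N.card_mul_index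
  have h2 := (P : Subgroup G).card_mul_index
  rw [hidx] at h1
  rw [he]
  have hpi : ¬ p ∣ (P : Subgroup G).index := P.not_dvd_index
  rw [← h2, he] at h1
  have hn : n = e := by
    have hN0 : Nat.card N ≠ 0 := Nat.card_pos.ne'
    have hP0 : (P : Subgroup G).index ≠ 0 := Subgroup.index_ne_zero_of_finite
    have := congrArg (fun t => t.factorization p) h1
    simpa [Nat.factorization_mul, hN0, hP0, hp.out.ne_zero, Nat.factorization_eq_zero_of_not_dvd,
      hN, hpi, hp.out.factorization_self] using this
  rw [← h2, he, ← h1, hn]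

theorem hasNormalPComplement_of_normal {N : Subgroup G} [N.Normal] (hN : ¬ p ∣ Nat.card N)
    (hq : IsPGroup p (G ⧸ N)) : HasNormalPComplement p G := by
  obtain ⟨n, hn⟩ := IsPGroup.iff_card.1 hq
  exact ⟨default, N, inferInstance, isComplement'_of_not_dvd hN hn default⟩

theorem pResidual_eq_of_isComplement' (P : Sylow p G) {N : Subgroup G} [N.Normal]
    (hN : N.IsComplement' (P : Subgroup G)) : pResidual p G = N := by
  have hcard : ¬ p ∣ Nat.card N := by rw [← hN.index_eq_card]; exact P.not_dvd_index
  obtain ⟨e, he⟩ := IsPGroup.iff_card.1 P.2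
  have hq : IsPGroup p (G ⧸ N) :=
    IsPGroup.of_card (n := e) (by rw [← he]; exact hN.symm.index_eq_card)
  refine le_antisymm (pResidual_le_of_isPGroup_quotient N hq) fun x hx => mem_pResidual ?_
  exact ((hp.out.coprime_iff_not_dvd.2 hcard).symm).coprime_dvd_left (N.orderOf_dvd_natCard hx)

theorem hasNormalPComplement_iff_not_dvd :
    HasNormalPComplement p G ↔ ¬ p ∣ Nat.card (pResidual p G) := by
  constructor
  · rintro ⟨P, N, hN, hc⟩
    rw [pResidual_eq_of_isComplement' P hc, ← hc.index_eq_card]
    exact P.not_dvd_index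
  · exact fun h => hasNormalPComplement_of_normal h isPGroup_quotient

theorem hasNormalPComplement_iff_inf_sylow (P : Sylow p G) :
    HasNormalPComplement p G ↔ pResidual p G ⊓ P = ⊥ := by
  rw [hasNormalPComplement_iff_not_dvd, not_dvd_card_iff_inf_sylow]

theorem isComplement'_pResidual (h : HasNormalPComplement p G) (P : Sylow p G) :
    (pResidual p G).IsComplement' (P : Subgroup G) := by
  obtain ⟨n, hn⟩ := exists_index_eq_pow (p := p) (G := G)
  exact isComplement'_of_not_dvd (hasNormalPComplement_iff_not_dvd.1 h) hn P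

theorem hasNormalPComplement_iff_exists (P : Sylow p G) :
    HasNormalPComplement p G ↔ ∃ N : Subgroup G, N.Normal ∧ N.IsComplement' (P : Subgroup G) :=
  ⟨fun h => ⟨_, inferInstance, isComplement'_pResidual h P⟩, fun ⟨N, h1, h2⟩ => ⟨P, N, h1, h2⟩⟩

theorem mem_iff_coprime_of_isComplement' (P : Sylow p G) (N : Subgroup G) [N.Normal]
    (hN : N.IsComplement' (P : Subgroup G)) (x : G) : x ∈ N ↔ (orderOf x).Coprime p := by
  refine ⟨fun hx => ?_, fun hx => pResidual_eq_of_isComplement' P hN ▸ mem_pResidual hx⟩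
  refine Nat.Coprime.coprime_dvd_left (N.orderOf_dvd_natCard hx) ?_
  rw [← hN.index_eq_card]
  exact (hp.out.coprime_iff_not_dvd.2 P.not_dvd_index).symm

theorem hasNormalPComplement_of_isPGroup (h : IsPGroup p G) : HasNormalPComplement p G := by
  rw [hasNormalPComplement_iff_not_dvd, pResidual_eq_bot_iff.2 h]
  simp [hp.out.ne_one]

theorem hasNormalPComplement_of_not_dvd (h : ¬ p ∣ Nat.card G) : HasNormalPComplement p G :=
  hasNormalPComplement_iff_not_dvd.2 fun h' => h (h'.trans (Subgroup.card_subgroup_dvd_card _))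

theorem hasNormalPComplement_of_injective (f : H →* G) (hf : Function.Injective f)
    (h : HasNormalPComplement p G) : HasNormalPComplement p H := by
  haveI : Finite H := Finite.of_injective f hf
  rw [hasNormalPComplement_iff_not_dvd] at h ⊢
  rw [← Subgroup.card_map_of_injective hf]
  exact fun h' => h (h'.trans (Subgroup.card_dvd_of_le (map_pResidual_le f)))

theorem hasNormalPComplement_subgroup (h : HasNormalPComplement p G) (K : Subgroup G) :
    HasNormalPComplement p K :=
  hasNormalPComplement_of_injective K.subtype K.subtype_injective h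

theorem hasNormalPComplement_of_surjective (f : G →* H) (hf : Function.Surjective f)
    (h : HasNormalPComplement p G) : HasNormalPComplement p H := by
  haveI : Finite H := Finite.of_surjective f hf
  rw [hasNormalPComplement_iff_not_dvd] at h ⊢
  rw [← map_pResidual_of_surjective f hf]
  exact fun h' => h (h'.trans ((pResidual p G).card_map_dvd f))

theorem hasNormalPComplement_congr (e : H ≃* G) :
    HasNormalPComplement p H ↔ HasNormalPComplement p G :=
  ⟨fun h => haveI := Finite.of_equiv _ e.toEquiv.symm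
    hasNormalPComplement_of_injective e.symm.toMonoidHom e.symm.injective h,
   hasNormalPComplement_of_injective e.toMonoidHom e.injective⟩

end Complement

end Cfsg.Agent.Lib.Transfer.PResidual
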