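import Cfsg.Prelude.Def_Transfer
import Cfsg.Agent.Lib.PGroups.Frattini
import Cfsg.Agent.Lib.PGroups.Omega
import Mathlib.GroupTheory.Subgroup.Center

/-!
Thompson's critical subgroup of a finite `p`-group.
-/

set_option autoImplicit false

open scoped commutatorElement

namespace Cfsg.Agent.Lib.Transfer.Critical

variable {P : Type*} [Group P] [Finite P] {p : ℕ} [hp : Fact p.Prime]

/-- Existence of a critical subgroup `H`: characteristic, with `A = H ∩ C(H)` containing
`C(H)`, all `p`-th powers of `H` and all commutators `[H, P]`. -/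
theorem exists_critical (hP : IsPGroup p P) :
    ∃ H : Subgroup P, H.Characteristic ∧ Subgroup.centralizer (H : Set P) ≤ H ∧
      (∀ x ∈ H, x ^ p ∈ H ⊓ Subgroup.centralizer (H : Set P)) ∧
      ∀ x ∈ H, ∀ g : P, ⁅x, g⁆ ∈ H ⊓ Subgroup.centralizer (H : Set P) := by
  obtain ⟨A, ⟨hAc, hAab⟩, hAmax⟩ :=
    (Set.toFinite {A : Subgroup P | A.Characteristic ∧ A ≤ Subgroup.centralizer (A : Set P)}).exists_maximal
      ⟨⊥, inferInstance, bot_le⟩
  haveI := hAc
  haveI : A.Normal := Subgroup.normal_of_characteristic A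
  have hfix : ∀ (φ : MulAut P) (a : P), a ∈ A → φ a ∈ A := fun φ a ha =>
    Subgroup.characteristic_iff_le_comap.1 hAc φ ha
  set C := Subgroup.centralizer (A : Set P) with hC
  set π := QuotientGroup.mk' A
  -- `H = {x ∈ C | x^p ∈ A, [x,P] ≤ A}`
  have hcommx : ∀ x : P, (∀ g, ⁅x, g⁆ ∈ A) ↔ π x ∈ Subgroup.center (P ⧸ A) := by
    intro x
    rw [Subgroup.mem_center_iff]
    constructor
    · intro h q
      obtain ⟨g, rfl⟩ := QuotientGroup.mk'_surjective A q
      symm
      rw [← commutatorElement_eq_one_iff_mul_comm, ← map_commutatorElement]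
      exact (QuotientGroup.eq_one_iff _).2 (h g)
    · intro h g
      rw [← QuotientGroup.eq_one_iff, show ((⁅x, g⁆ : P) : P ⧸ A) = ⁅π x, π g⁆ from map_commutatorElement π x g,
        commutatorElement_eq_one_iff_mul_comm]
      exact (h _).symm
  let H : Subgroup P :=
    { carrier := {x | x ∈ C ∧ x ^ p ∈ A ∧ ∀ g, ⁅x, g⁆ ∈ A}
      one_mem' := ⟨one_mem _, by rw [one_pow]; exact one_mem _, fun g => by simp [one_mem]⟩
      mul_mem' := by
        rintro x y ⟨hx1, hx2, hx3⟩ ⟨hy1, hy2, hy3⟩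
        refine ⟨mul_mem hx1 hy1, ?_, (hcommx _).2 (by
          rw [map_mul]; exact mul_mem ((hcommx x).1 hx3) ((hcommx y).1 hy3))⟩
        rw [← QuotientGroup.eq_one_iff, QuotientGroup.mk_pow, QuotientGroup.mk_mul,
          Commute.mul_pow (show Commute (x : P ⧸ A) (y : P ⧸ A) from (Subgroup.mem_center_iff.1 ((hcommx x).1 hx3) _).symm),
          ← QuotientGroup.mk_pow, ← QuotientGroup.mk_pow,
          (QuotientGroup.eq_one_iff _).2 hx2, (QuotientGroup.eq_one_iff _).2 hy2, one_mul]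
      inv_mem' := by
        rintro x ⟨hx1, hx2, hx3⟩
        exact ⟨inv_mem hx1, by rw [inv_pow]; exact inv_mem hx2,
          (hcommx _).2 (by rw [map_inv]; exact inv_mem ((hcommx x).1 hx3))⟩ }
  have hmem : ∀ x, x ∈ H ↔ x ∈ C ∧ x ^ p ∈ A ∧ ∀ g, ⁅x, g⁆ ∈ A := fun _ => Iff.rfl
  haveI hHc : H.Characteristic := by
    rw [Subgroup.characteristic_iff_le_comap]
    intro φ x hx
    obtain ⟨h1, h2, h3⟩ := (hmem x).1 hx
    refine (hmem _).2 ⟨?_, ?_, ?_⟩
    · rw [hC, Subgroup.mem_centralizer_iff] at h1 ⊢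
      intro a ha
      have := h1 (φ.symm a) (hfix φ.symm a ha)
      simpa using congrArg φ this
    · simpa using hfix φ _ h2
    · intro g
      have := hfix φ _ (h3 (φ.symm g))
      simpa [map_commutatorElement] using this
  have hAH : A ≤ H := fun a ha =>
    (hmem a).2 ⟨hAab ha, pow_mem ha _, fun g => by
      rw [commutatorElement_def, mul_assoc, mul_assoc]
      refine mul_mem ha ?_
      rw [← mul_assoc]
      exact ‹A.Normal›.conj_mem _ (inv_mem ha) g⟩
  set D := Subgroup.centralizer (H : Set P) with hD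
  have hAD : A ≤ D := fun a ha => Subgroup.mem_centralizer_iff.2 fun h hh =>
    (Subgroup.mem_centralizer_iff.1 ((hmem h).1 hh).1 a ha).symm
  have hDH : D ⊓ H ≤ A := by
    haveI : D.Characteristic := inferInstance
    refine hAmax ⟨?_, ?_⟩ (le_inf hAD hAH)
    · rw [Subgroup.characteristic_iff_le_comap]
      intro φ x hx
      exact ⟨Subgroup.characteristic_iff_le_comap.1 ‹D.Characteristic› φ hx.1,
        Subgroup.characteristic_iff_le_comap.1 hHc φ hx.2⟩
    · exact fun x hx => Subgroup.mem_centralizer_iff.2 fun y hy =>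
        Subgroup.mem_centralizer_iff.1 hx.1 y hy.2
  have hDA : D ≤ A := by
    by_contra hne
    haveI : D.Normal := inferInstance
    haveI : (D.map π).Normal := Subgroup.Normal.map ‹_› π (QuotientGroup.mk'_surjective A)
    have hDne : D.map π ≠ ⊥ := fun h => hne (by
      rwa [Subgroup.map_eq_bot_iff, QuotientGroup.ker_mk'] at h)
    have hcap := Cfsg.Agent.Lib.PGroups.normal_inf_center_ne_bot (hP.to_quotient A) (D.map π) hDne
    haveI : Nontrivial (D.map π ⊓ Subgroup.center (P ⧸ A) : Subgroup (P ⧸ A)) :=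
      (Subgroup.nontrivial_iff_ne_bot _).2 hcap
    have hdvd : p ∣ Nat.card (D.map π ⊓ Subgroup.center (P ⧸ A) : Subgroup (P ⧸ A)) :=
      (((hP.to_quotient A).to_subgroup _).card_eq_or_dvd).resolve_left
        (Finite.one_lt_card).ne'
    obtain ⟨⟨q, ⟨x, hx, rfl⟩, hqc⟩, hq⟩ := exists_prime_orderOf_dvd_card' p hdvd
    replace hq : orderOf (π x) = p := by
      rw [← hq]; exact Subgroup.orderOf_coe (⟨π x, ⟨x, hx, rfl⟩, hqc⟩ : (D.map π ⊓ Subgroup.center (P ⧸ A) : Subgroup (P ⧸ A)))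
    have hxC : x ∈ C := Subgroup.centralizer_le (show (A : Set P) ⊆ H from hAH) hx
    have hxH : x ∈ H := (hmem x).2 ⟨hxC, by
      rw [← QuotientGroup.eq_one_iff, QuotientGroup.mk_pow, ← hq]
      exact pow_orderOf_eq_one _, (hcommx x).2 hqc⟩
    have : π x = 1 := (QuotientGroup.eq_one_iff x).2 (hDH ⟨hx, hxH⟩)
    rw [this, orderOf_one] at hq
    exact hp.out.one_lt.ne hq
  refine ⟨H, hHc, hDA.trans hAH, fun x hx => ?_, fun x hx g => ?_⟩
  · exact ⟨hAH ((hmem x).1 hx).2.1, hAD ((hmem x).1 hx).2.1⟩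
  · exact ⟨hAH (((hmem x).1 hx).2.2 g), hAD (((hmem x).1 hx).2.2 g)⟩

end Cfsg.Agent.Lib.Transfer.Critical
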