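import Cfsg.Agent.Lib.Transfer.Frobenius
import Mathlib.GroupTheory.SpecificGroups.Cyclic

/-!
Transfer into Hall subgroups; conjugacy of abelian Hall subgroups; a counting criterion for
`N(P) ≤ C(P)`.
-/

set_option autoImplicit false

open Cfsg
open scoped Pointwise commutatorElement IsMulCommutative

namespace Cfsg.Agent.Lib.Transfer.Hall

open Cfsg.Agent.Lib.Transfer.PResidual Cfsg.Agent.Lib.Transfer.Fusion

variable {G : Type*} [Group G] [Finite G]

/-- Transfer: a central element of `H ∩ G'` lies in `H'` when `[G:H]` is prime to `|H:H'|`. -/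
theorem mem_commutator_of_mem_center (H : Subgroup G)
    (h : Nat.Coprime H.index (⁅H, H⁆.relIndex H)) {z : G} (hzH : z ∈ H)
    (hzc : z ∈ commutator G) (hz : z ∈ Subgroup.center G) : z ∈ ⁅H, H⁆ := by
  let φ : H →* Abelianization H := Abelianization.of
  have key : ∀ (k : ℕ) (g₀ : G), g₀⁻¹ * z ^ k * g₀ ∈ H → g₀⁻¹ * z ^ k * g₀ = z ^ k := by
    intro k g₀ _
    rw [mul_assoc, ← Subgroup.mem_center_iff.1 (pow_mem hz k) g₀, inv_mul_cancel_left]
  have h1 : MonoidHom.transfer φ z = 1 :=
    MonoidHom.mem_ker.1 (Abelianization.commutator_subset_ker _ hzc)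
  rw [MonoidHom.transfer_eq_pow φ z key,
    show (⟨z ^ H.index, _⟩ : H) = ⟨z, hzH⟩ ^ H.index from rfl, map_pow] at h1
  have hcard : Nat.card (Abelianization H) = ⁅H, H⁆.relIndex H := by
    rw [Subgroup.relIndex, ← Subgroup.map_subtype_commutator, Subgroup.subgroupOf,
      Subgroup.comap_map_eq_self_of_injective H.subtype_injective, Subgroup.index_eq_card]
    rfl
  have h2 : φ ⟨z, hzH⟩ = 1 := by
    rw [← orderOf_eq_one_iff]
    exact Nat.eq_one_of_dvd_coprimes h (orderOf_dvd_of_pow_eq_one h1)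
      (hcard ▸ orderOf_dvd_natCard _)
  rw [← Subgroup.map_subtype_commutator]
  exact ⟨⟨z, hzH⟩, (QuotientGroup.eq_one_iff _).1 h2, rfl⟩

theorem commutator_eq_bot_of_isMulCommutative (H : Subgroup G) (hc : IsMulCommutative H) :
    ⁅H, H⁆ = ⊥ := by
  rw [Subgroup.commutator_eq_bot_iff_le_centralizer]
  exact fun a ha => Subgroup.mem_centralizer_iff.2 fun b hb =>
    congrArg Subtype.val (hc.is_comm.comm (⟨b, hb⟩ : H) ⟨a, ha⟩)

/-- For an abelian Hall subgroup `H`: `H ∩ G' ∩ Z(G) = 1`. -/
theorem eq_one_of_mem_center (H : Subgroup G) (hc : IsMulCommutative H)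
    (hHall : Nat.Coprime (Nat.card H) H.index) {z : G} (hzH : z ∈ H)
    (hzc : z ∈ commutator G) (hz : z ∈ Subgroup.center G) : z = 1 := by
  have := mem_commutator_of_mem_center H
    (hHall.symm.coprime_dvd_right (Subgroup.relIndex_dvd_card _ _)) hzH hzc hz
  rwa [commutator_eq_bot_of_isMulCommutative H hc, Subgroup.mem_bot] at this

open Subgroup in
/-- The focal subgroup theorem for subgroups whose index is prime to `|H:H'|`. -/
theorem focal_of_coprime (H : Subgroup G) (h : Nat.Coprime H.index (⁅H, H⁆.relIndex H)) :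
    H.focalSubgroup = commutator G ⊓ H ∧
      ∃ N : Subgroup G, N.Normal ∧ N ⊓ H = commutator G ⊓ H ∧ N ⊔ H = ⊤ := by
  have hdvd : Nat.card (H ⧸ H.focalSubgroupOf) ∣ ⁅H, H⁆.relIndex H := by
    rw [← Subgroup.index_eq_card, Subgroup.relIndex]
    exact Subgroup.index_dvd_of_le (Subgroup.comap_mono H.commutator_le_focalSubgroup)
  have hpow : (Nat.card (H ⧸ H.focalSubgroupOf)).Coprime H.index :=
    (h.coprime_dvd_right hdvd).symm
  have hinj := (powCoprime hpow).bijective
  set τ := H.transferFocal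
  have hker : τ.ker ⊓ H = H.focalSubgroup := by
    apply le_antisymm
    · intro x hx
      have h1 := H.transferFocal_eq_pow ⟨x, hx.2⟩
      rw [show τ (⟨x, hx.2⟩ : H) = 1 from hx.1] at h1
      have h2 : ((⟨x, hx.2⟩ : H) : H ⧸ H.focalSubgroupOf) = 1 :=
        hinj.1 (by simpa using h1.symm)
      exact ((QuotientGroup.eq_one_iff (N := H.focalSubgroupOf) (⟨x, hx.2⟩ : H)).1 h2 :)
    · exact le_inf (H.focalSubgroup_le_commutator.trans (Abelianization.commutator_subset_ker _))
        H.focalSubgroup_le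
  have hfoc : H.focalSubgroup = commutator G ⊓ H :=
    le_antisymm (le_inf H.focalSubgroup_le_commutator H.focalSubgroup_le)
      ((inf_le_inf_right _ (Abelianization.commutator_subset_ker _)).trans hker.le)
  refine ⟨hfoc, τ.ker, inferInstance, hker.trans hfoc, eq_top_iff.2 fun g _ => ?_⟩
  obtain ⟨q, hq⟩ := hinj.2 (τ g)
  obtain ⟨x, rfl⟩ := QuotientGroup.mk'_surjective _ q
  rw [show g = (g * (x : G)⁻¹) * x by group]
  refine Subgroup.mul_mem_sup ?_ x.2
  rw [MonoidHom.mem_ker, map_mul, map_inv, H.transferFocal_eq_pow, mul_inv_eq_one, ← hq]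
  simp

/-- Two abelian Hall subgroups of the same order are conjugate. -/
theorem exists_conj_eq_of_isMulCommutative {G : Type*} [Group G] [Finite G] (H K : Subgroup G)
    (hH : IsMulCommutative H) (hK : IsMulCommutative K)
    (hHall : Nat.Coprime (Nat.card H) H.index) (hcard : Nat.card K = Nat.card H) :
    ∃ g : G, ∀ x, x ∈ H ↔ g * x * g⁻¹ ∈ K := by
  suffices key : ∀ (n : ℕ) (G : Type _) [Group G] [Finite G] (H K : Subgroup G),
      IsMulCommutative H → IsMulCommutative K → Nat.Coprime (Nat.card H) H.index →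
      Nat.card H = n → Nat.card K = n → ∃ g : G, ∀ x ∈ H, g * x * g⁻¹ ∈ K by
    obtain ⟨g, hg⟩ := key (Nat.card H) G H K hH hK hHall rfl hcard
    have hle : H.map (MulAut.conj g).toMonoidHom ≤ K := by
      rintro _ ⟨x, hx, rfl⟩; exact hg x hx
    have heq := Subgroup.eq_of_le_of_card_ge hle
      (by rw [Subgroup.card_map_of_injective (MulAut.conj g).injective, hcard])
    refine ⟨g, fun x => ⟨hg x, fun hx => ?_⟩⟩
    rw [← heq] at hx
    obtain ⟨y, hy, hyx⟩ := hx
    rwa [show x = y from ((MulAut.conj g).injective hyx).symm]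
  intro n
  induction n using Nat.strong_induction_on with
  | _ n ih =>
    intro G _ _ H K hH hK hHall hn hn'
    rcases eq_or_ne n 1 with hn1 | hn1
    · refine ⟨1, fun x hx => ?_⟩
      subst hn1
      rw [Subgroup.card_eq_one.1 hn, Subgroup.mem_bot] at hx
      simp [hx]
    obtain ⟨q, hq, hqn⟩ := Nat.exists_prime_and_dvd hn1
    haveI := Fact.mk hq
    have hKidx : K.index = H.index := by
      have h1 := H.card_mul_index
      rw [← K.card_mul_index, hn, hn'] at h1
      exact (Nat.eq_of_mul_eq_mul_left (hn ▸ Nat.card_pos) h1).symm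
    have mk : ∀ L : Subgroup G, Nat.card L = n → L.index = H.index →
        ∃ P : Sylow q G, (P : Subgroup G) ≤ L := by
      intro L hL hLi
      let S : Sylow q L := default
      have hidx : ¬ q ∣ ((S : Subgroup L).map L.subtype).index := by
        rw [Subgroup.index_map_subtype, hLi]
        intro hd
        rcases (Nat.Prime.dvd_mul hq).1 hd with hd | hd
        · exact S.not_dvd_index hd
        · exact hq.one_lt.ne' (Nat.eq_one_of_dvd_coprimes hHall (hn.symm ▸ hqn) hd)
      exact ⟨(S.2.map L.subtype).toSylow hidx, Subgroup.map_subtype_le _⟩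
    obtain ⟨P, hPH⟩ := mk H hn rfl
    obtain ⟨Q, hQK⟩ := mk K hn' hKidx
    obtain ⟨c, hc⟩ := MulAction.exists_smul_eq G P Q
    -- move `H` by `c`
    set H' : Subgroup G := H.map (MulAut.conj c).toMonoidHom with hH'
    have hQH' : (Q : Subgroup G) ≤ H' := by
      intro x hx
      rw [← hc, Sylow.coe_subgroup_smul, Subgroup.mem_pointwise_smul_iff_inv_smul_mem] at hx
      exact ⟨_, hPH hx, by simp [MulAut.smul_def, mul_assoc]⟩
    have hH'c : IsMulCommutative H' := by
      refine ⟨⟨fun a b => Subtype.ext ?_⟩⟩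
      obtain ⟨a', ha', ea⟩ := a.2
      obtain ⟨b', hb', eb⟩ := b.2
      have := congrArg Subtype.val (hH.is_comm.comm (⟨a', ha'⟩ : H) ⟨b', hb'⟩)
      show (a : G) * b = b * a
      rw [← ea, ← eb, ← map_mul, ← map_mul]
      exact congrArg _ this
    have hH'n : Nat.card H' = n := by
      rw [hH', Subgroup.card_map_of_injective (MulAut.conj c).injective, hn]
    have hH'i : H'.index = H.index := Subgroup.index_map_equiv H (MulAut.conj c)
    -- descend to the p-complement of `C = C(Q)`
    set C : Subgroup G := Subgroup.centralizer ((Q : Subgroup G) : Set G) with hC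
    have hcent : ∀ L : Subgroup G, IsMulCommutative L → (Q : Subgroup G) ≤ L → L ≤ C := by
      intro L hL hQL x hx
      rw [hC, Subgroup.mem_centralizer_iff]
      exact fun y hy => congrArg Subtype.val (hL.is_comm.comm (⟨y, hQL hy⟩ : L) ⟨x, hx⟩)
    have hQc : IsMulCommutative (Q : Subgroup G) :=
      ⟨⟨fun a b => Subtype.ext (congrArg Subtype.val
        (hK.is_comm.comm (⟨a, hQK a.2⟩ : K) ⟨b, hQK b.2⟩) :)⟩⟩
    let Q' : Sylow q C := Q.subtype (hcent K hK hQK |>.trans' hQK)
    have hQ'c : Subgroup.normalizer ((Q' : Subgroup C) : Set C)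
        ≤ Subgroup.centralizer ((Q' : Subgroup C) : Set C) := by
      intro x _
      rw [Subgroup.mem_centralizer_iff]
      intro y hy
      exact Subtype.ext (Subgroup.mem_centralizer_iff.1 x.2 _ hy)
    have hnc : HasNormalPComplement q C :=
      ⟨Q', _, inferInstance, MonoidHom.ker_transferSylow_isComplement' Q' hQ'c⟩
    set M := pResidual q C
    have hsplit : ∀ L : Subgroup G, IsMulCommutative L → (Q : Subgroup G) ≤ L → L ≤ C →
        Nat.card L = n → L.index = H.index →
        IsMulCommutative ((L.subgroupOf C).subgroupOf M) ∧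
        Nat.card ((L.subgroupOf C).subgroupOf M) * Nat.card (Q : Subgroup G) = n ∧
        Nat.Coprime (Nat.card ((L.subgroupOf C).subgroupOf M))
          ((L.subgroupOf C).subgroupOf M).index ∧
        (∀ x ∈ L, ∃ m : M, m ∈ (L.subgroupOf C).subgroupOf M ∧ ∃ z ∈ Q, ((m : C) : G) * z = x) := by
      intro L hL hQL hLC hLn hLi
      have hdec : ∀ x ∈ L, ∃ m : M, m ∈ (L.subgroupOf C).subgroupOf M ∧
          ∃ z ∈ Q, ((m : C) : G) * z = x := by
        intro x hx
        obtain ⟨m, hm, z, hz, hmz⟩ := exists_mul_sylow Q' (⟨x, hLC hx⟩ : C)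
        have hmz' : (m : G) * z = x := congrArg Subtype.val hmz
        refine ⟨⟨m, hm⟩, ?_, z, hz, hmz'⟩
        show (m : G) ∈ L
        rw [eq_mul_inv_of_mul_eq hmz']
        exact mul_mem hx (inv_mem (hQL hz))
      set L' := (L.subgroupOf C).subgroupOf M
      have hcardmul : Nat.card L' * Nat.card (Q : Subgroup G) = n := by
        rw [← hLn, ← Nat.card_prod]
        refine Nat.card_eq_of_bijective
          (fun x => (⟨((x.1 : M) : C) * (x.2 : G), mul_mem x.1.2 (hQL x.2.2)⟩ : L)) ⟨?_, ?_⟩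
        · rintro ⟨a, b⟩ ⟨a', b'⟩ hab
          have h1 : (((a : M) : C) : G) * b = (((a' : M) : C) : G) * b' := congrArg Subtype.val hab
          have h2 : (((a' : M) : C) : G)⁻¹ * ((a : M) : C) = (b' : G) * (b : G)⁻¹ := by
            rw [eq_mul_inv_iff_mul_eq, mul_assoc, h1, inv_mul_cancel_left]
          have h3 : (((a' : M) : C)⁻¹ * ((a : M) : C)) = 1 := by
            refine Subgroup.disjoint_def.1 (disjoint_of_not_dvd
              (hasNormalPComplement_iff_not_dvd.1 hnc) Q'.2)
              (mul_mem (inv_mem (a' : M).2) (a : M).2) ?_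
            show (((a' : M) : C) : G)⁻¹ * ((a : M) : C) ∈ (Q : Subgroup G)
            rw [h2]; exact mul_mem b'.2 (inv_mem b.2)
          have haa : a = a' := Subtype.ext (Subtype.ext (inv_mul_eq_one.1 h3).symm)
          subst haa
          exact Prod.ext rfl (Subtype.ext (mul_left_cancel h1))
        · rintro ⟨x, hx⟩
          obtain ⟨m, hm, z, hz, hmz⟩ := hdec x hx
          exact ⟨(⟨m, hm⟩, ⟨z, hz⟩), Subtype.ext hmz⟩
      refine ⟨⟨⟨fun a b => Subtype.ext (Subtype.ext (Subtype.ext (congrArg Subtype.val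
        (hL.is_comm.comm (⟨_, a.2⟩ : L) ⟨_, b.2⟩) :)))⟩⟩, hcardmul, ?_, hdec⟩
      have h2 : L'.index ∣ L.index * Nat.card (Q : Subgroup G) := by
        have h3 : Nat.card L' * L'.index ∣ Nat.card L' * (L.index * Nat.card (Q : Subgroup G)) := by
          rw [L'.card_mul_index, mul_comm L.index, ← mul_assoc, hcardmul, ← hLn, L.card_mul_index]
          exact dvd_trans M.card_subgroup_dvd_card C.card_subgroup_dvd_card
        exact Nat.dvd_of_mul_dvd_mul_left Nat.card_pos h3
      refine Nat.Coprime.coprime_dvd_right h2 (Nat.Coprime.mul_right ?_ ?_)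
      · rw [hLi]
        exact hHall.coprime_dvd_left (hn.symm ▸ hcardmul ▸ dvd_mul_right _ _)
      · obtain ⟨e, he⟩ := IsPGroup.iff_card.1 Q.2
        rw [he]
        refine (Nat.Coprime.coprime_dvd_left L'.card_subgroup_dvd_card ?_).pow_right e
        exact ((hq.coprime_iff_not_dvd).2 (hasNormalPComplement_iff_not_dvd.1 hnc)).symm
    obtain ⟨a1, b1, c1, d1⟩ := hsplit H' hH'c hQH' (hcent H' hH'c hQH') hH'n hH'i
    obtain ⟨a2, b2, -, -⟩ := hsplit K hK hQK (hcent K hK hQK) hn' hKidx
    have hQ2 : 2 ≤ Nat.card (Q : Subgroup G) := by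
      obtain ⟨e, he⟩ := IsPGroup.iff_card.1 Q.2
      rcases Nat.eq_zero_or_pos e with h0 | h0
      · exfalso
        have h5 := Q.ne_bot_of_dvd_card (dvd_trans (hn.symm ▸ hqn) H.card_subgroup_dvd_card)
        exact h5 (Subgroup.card_eq_one.1 (by rw [he, h0, pow_zero]))
      · rw [he]; exact le_trans hq.two_le (Nat.le_self_pow h0.ne' q)
    obtain ⟨g, hg⟩ := ih (Nat.card ((H'.subgroupOf C).subgroupOf M))
      (by rw [← b1]; exact lt_mul_of_one_lt_right Nat.card_pos (by omega)) M _ _ a1 a2 c1 rfl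
      (Nat.eq_of_mul_eq_mul_right (by omega) (b2.trans b1.symm))
    refine ⟨((g : C) : G) * c, fun x hx => ?_⟩
    obtain ⟨m, hm, z, hz, hmz⟩ := d1 (c * x * c⁻¹) ⟨x, hx, rfl⟩
    have h1 : ((g : C) : G) * ((m : C) : G) * ((g : C) : G)⁻¹ ∈ K := hg m hm
    have h2 : ((g : C) : G) * z * ((g : C) : G)⁻¹ ∈ K := by
      have := Subgroup.mem_centralizer_iff.1 (g : C).2 z hz
      rw [← this, mul_inv_cancel_right]
      exact hQK hz
    have h3 := mul_mem h1 h2
    rw [show ((g : C) : G) * c * x * (((g : C) : G) * c)⁻¹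
      = ((g : C) : G) * (c * x * c⁻¹) * ((g : C) : G)⁻¹ by group, ← hmz]
    simpa [mul_assoc] using h3

/-- If no prime `q ≠ p` dividing `|G|` divides any `|P| - p^k`, then `N(P) ≤ C(P)`. -/
theorem normalizer_le_centralizer_of_forall {p : ℕ} [hp : Fact p.Prime] (P : Sylow p G)
    (hP : IsMulCommutative P) {n : ℕ} (hn : Nat.card P = p ^ n)
    (h : ∀ q : ℕ, q.Prime → q ≠ p → q ∣ Nat.card G → ∀ k < n, ¬ q ∣ p ^ n - p ^ k) :
    Subgroup.normalizer ((P : Subgroup G) : Set G) ≤ Subgroup.centralizer ((P : Subgroup G) : Set G) := by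
  set N := Subgroup.normalizer ((P : Subgroup G) : Set G)
  set C := Subgroup.centralizer ((P : Subgroup G) : Set G)
  haveI : (C.subgroupOf N).Normal := by
    rw [← Subgroup.normalizerMonoidHom_ker (P : Subgroup G)]; infer_instance
  by_contra hle
  have hidx : (C.subgroupOf N).index ≠ 1 := fun h1 => hle (Subgroup.relIndex_eq_one.1 h1)
  obtain ⟨q, hq, hqd⟩ := Nat.exists_prime_and_dvd hidx
  haveI := Fact.mk hq
  have hPC : (P : Subgroup G) ≤ C := fun x hx => Subgroup.mem_centralizer_iff.2 fun y hy =>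
    congrArg Subtype.val (hP.is_comm.comm (⟨y, hy⟩ : (P : Subgroup G)) ⟨x, hx⟩)
  have hqp : q ≠ p := by
    rintro rfl
    refine P.not_dvd_index (hqd.trans ?_)
    exact (Subgroup.relIndex_dvd_of_le_left N hPC).trans
      (Subgroup.relIndex_dvd_index_of_le Subgroup.le_normalizer)
  have hqG : q ∣ Nat.card G :=
    hqd.trans ((Subgroup.index_dvd_card _).trans N.card_subgroup_dvd_card)
  obtain ⟨x, hx⟩ := exists_prime_orderOf_dvd_card' (G := N ⧸ C.subgroupOf N) q
    (by rwa [← Subgroup.index_eq_card])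
  obtain ⟨x, rfl⟩ := QuotientGroup.mk'_surjective _ x
  have hxC : x ∉ C.subgroupOf N := fun hm => hq.one_lt.ne (by
    rw [← hx, show QuotientGroup.mk' (C.subgroupOf N) x = 1 from (QuotientGroup.eq_one_iff x).2 hm,
      orderOf_one])
  set α : MulAut (P : Subgroup G) := (P : Subgroup G).normalizerMonoidHom x with hα
  have hαq : α ^ q = 1 := by
    rw [hα, ← map_pow, ← MonoidHom.mem_ker, Subgroup.normalizerMonoidHom_ker]
    exact (QuotientGroup.eq_one_iff _).1 (by
      rw [← hx]; exact pow_orderOf_eq_one (QuotientGroup.mk' (C.subgroupOf N) x))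
  have hA : IsPGroup q (Subgroup.zpowers α) :=
    IsPGroup.of_card_dvd_pow (n := 1) (by
      rw [Nat.card_zpowers, pow_one]; exact orderOf_dvd_of_pow_eq_one hαq)
  let F : Subgroup (P : Subgroup G) := α.toMonoidHom.eqLocus (MonoidHom.id _)
  have hfix : Nat.card (MulAction.fixedPoints (Subgroup.zpowers α) (P : Subgroup G)) = Nat.card F := by
    refine congrArg (fun s : Set (P : Subgroup G) => Nat.card s) (Set.ext fun z => ?_)
    constructor
    · exact fun hz => hz ⟨α, Subgroup.mem_zpowers α⟩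
    · intro hz β
      have : α ∈ MulAction.stabilizer (MulAut (P : Subgroup G)) z := hz
      exact Subgroup.zpowers_le.2 this β.2
  have hFne : F ≠ ⊤ := by
    intro hF
    apply hxC
    rw [← Subgroup.normalizerMonoidHom_ker (P : Subgroup G), MonoidHom.mem_ker, ← hα]
    ext z
    have : z ∈ F := hF ▸ Subgroup.mem_top z
    exact congrArg Subtype.val (this : α z = z)
  obtain ⟨k, -, hk⟩ := (Nat.dvd_prime_pow hp.out).1 (hn ▸ F.card_subgroup_dvd_card)
  have hkn : k < n := by
    by_contra hcon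
    refine hFne (Subgroup.eq_top_of_le_card _ ?_)
    rw [hn, hk]
    exact Nat.pow_le_pow_right hp.out.pos (not_lt.1 hcon)
  refine h q hq hqp hqG k hkn ?_
  have hmod := hA.card_modEq_card_fixedPoints ((P : Subgroup G))
  rw [hfix, hk, hn] at hmod
  exact (Nat.modEq_iff_dvd' (Nat.pow_le_pow_right hp.out.pos hkn.le)).1 hmod.symm

end Cfsg.Agent.Lib.Transfer.Hall
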