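import Cfsg.Agent.Lib.Transfer.ThompsonJA

/-!
# A criterion through characteristic subgroups

`hasNormalPComplement_of_charHyp` : for `p` odd or `Sym(4)` not involved, if every element of order
prime to `p` normalising a characteristic subgroup `X` of a Sylow `p`-subgroup `T` centralises `X`,
then there is a normal `p`-complement.
-/

set_option autoImplicit false

namespace Cfsg.Agent.Lib.Transfer.CharHyp

open Cfsg.Agent.Lib.Transfer.PResidual Cfsg.Agent.Lib.Transfer.AbelianJ

universe u

variable {p : ℕ} [hp : Fact p.Prime]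

/-- Elements of order prime to `p` normalising a characteristic subgroup of `T` centralise it. -/
def Hyp {G : Type u} [Group G] (p : ℕ) (T : Subgroup G) : Prop :=
  ∀ X : Subgroup G, X ≤ T → (X.subgroupOf T).Characteristic → ∀ g : G,
    g ∈ Subgroup.normalizer (X : Set G) → (orderOf g).Coprime p → ∀ x ∈ X, g * x * g⁻¹ = x

theorem characteristic_map_equiv {A B : Type*} [Group A] [Group B] (e : A ≃* B) (X : Subgroup A)
    [hX : X.Characteristic] : (X.map e.toMonoidHom).Characteristic := by
  rw [Subgroup.characteristic_iff_map_eq]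
  intro φ
  have h := Subgroup.characteristic_iff_map_eq.mp hX (e.trans (φ.trans e.symm))
  conv_rhs => rw [← h, Subgroup.map_map]
  rw [Subgroup.map_map]
  congr 1
  ext a
  simp

theorem characteristic_map {H G : Type*} [Group H] [Group G] (f : H →* G) (hf : Function.Injective f)
    {T X : Subgroup H} (hX : X ≤ T) (h : (X.subgroupOf T).Characteristic) :
    ((X.map f).subgroupOf (T.map f)).Characteristic := by
  have : (X.map f).subgroupOf (T.map f) =
      (X.subgroupOf T).map (T.equivMapOfInjective f hf).toMonoidHom := by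
    ext y
    constructor
    · rintro ⟨x, hx, hxy⟩
      exact ⟨⟨x, hX hx⟩, hx, Subtype.ext hxy⟩
    · rintro ⟨x, hx, rfl⟩
      exact ⟨x, hx, rfl⟩
  rw [this]
  exact characteristic_map_equiv _ _

theorem hyp_of_injective {G H : Type u} [Group G] [Group H] (f : H →* G) (hf : Function.Injective f)
    {T : Subgroup H} (h : Hyp p (T.map f)) : Hyp p T := by
  intro X hXT hX g hg hgp x hx
  refine hf ?_
  rw [map_mul, map_mul, map_inv]
  exact h (X.map f) (Subgroup.map_mono hXT) (characteristic_map f hf hXT hX) (f g)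
    (Subgroup.le_normalizer_map f ⟨g, hg, rfl⟩) (hgp.coprime_dvd_left (orderOf_map_dvd f g))
    (f x) (Subgroup.mem_map_of_mem f hx)

theorem characteristic_thompsonAOf {G : Type*} [Group G] (T : Subgroup G) :
    ((Cfsg.thompsonSubgroupAOf T).subgroupOf T).Characteristic := by
  have h : (Cfsg.thompsonSubgroupAOf T).subgroupOf T = Cfsg.thompsonSubgroupA T :=
    Subgroup.comap_map_eq_self_of_injective T.subtype_injective _
  rw [h, Subgroup.characteristic_iff_map_eq]
  intro φ
  apply Subgroup.map_injective T.subtype_injective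
  show _ = Cfsg.thompsonSubgroupAOf T
  have h1 : Cfsg.thompsonSubgroupA T = Cfsg.thompsonSubgroupAOf (⊤ : Subgroup T) := by
    apply Subgroup.map_injective T.subtype_injective
    rw [map_thompsonSubgroupAOf _ T.subtype_injective, ← MonoidHom.range_eq_map, T.range_subtype]
    rfl
  rw [Subgroup.map_map, h1, map_thompsonSubgroupAOf _
      (show Function.Injective (T.subtype.comp φ.toMonoidHom) from
        T.subtype_injective.comp φ.injective),
    ← MonoidHom.range_eq_map, MonoidHom.range_comp,
    MonoidHom.range_eq_top.mpr φ.surjective, ← MonoidHom.range_eq_map, T.range_subtype]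

/-- An element of `p`-power order, a commutator with an element of order prime to `p` fixing it. -/
theorem eq_one_of_fixed {G : Type*} [Group G] {g q c : G} (hgp : (orderOf g).Coprime p)
    (hc : c = g * q * g⁻¹ * q⁻¹) (hfix : g * c * g⁻¹ = c) (hcp : ∃ k : ℕ, c ^ p ^ k = 1) :
    c = 1 := by
  have hstep : ∀ n : ℕ, g ^ n * q * (g ^ n)⁻¹ = c ^ n * q := by
    intro n
    induction n with
    | zero => simp
    | succ n ih =>
      calc g ^ (n + 1) * q * (g ^ (n + 1))⁻¹ = g * (g ^ n * q * (g ^ n)⁻¹) * g⁻¹ := by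
            rw [pow_succ']; group
        _ = (g * c * g⁻¹) ^ n * (g * q * g⁻¹) := by rw [ih, conj_pow]; group
        _ = c ^ (n + 1) * q := by rw [hfix, pow_succ, hc]; group
  have h1 := hstep (orderOf g)
  rw [pow_orderOf_eq_one, one_mul, inv_one, mul_one] at h1
  obtain ⟨k, hk⟩ := hcp
  exact orderOf_eq_one_iff.mp (Nat.eq_one_of_dvd_coprimes (Nat.Coprime.pow_right k hgp)
    (orderOf_dvd_of_pow_eq_one (mul_eq_right.mp h1.symm)) (orderOf_dvd_of_pow_eq_one hk))

/-- `N(J(T))` has a normal `p`-complement when its elements of order prime to `p` centralise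
`J(T)`. -/
theorem hasNormalPComplement_normalizer {G : Type u} [Group G] [Finite G] (T : Sylow p G)
    (h : ∀ g ∈ Subgroup.normalizer (Cfsg.thompsonSubgroupAOf (T : Subgroup G) : Set G),
      (orderOf g).Coprime p → ∀ x ∈ Cfsg.thompsonSubgroupAOf (T : Subgroup G), g * x * g⁻¹ = x) :
    Cfsg.HasNormalPComplement p
      (Subgroup.normalizer (Cfsg.thompsonSubgroupAOf (T : Subgroup G) : Set G)) := by
  let J := Cfsg.thompsonSubgroupAOf (T : Subgroup G)
  let M := Subgroup.normalizer (J : Set G)
  have hTM : (T : Subgroup G) ≤ M :=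
    Subgroup.le_normalizer.trans
      ((ThompsonJA.functorA.{u} p).normalizer_le (T : Subgroup G))
  -- elements of `p`-power order centralising `J` lie in `J`
  have hcJ : ∀ c ∈ M, (∀ x ∈ J, c * x * c⁻¹ = x) → (∃ k : ℕ, c ^ p ^ k = 1) → c ∈ J := by
    intro c hcM hcC ⟨k, hk⟩
    let c' : M := ⟨c, hcM⟩
    have hcp : IsPGroup p (Subgroup.zpowers c') := by
      rintro ⟨z, hz⟩
      obtain ⟨j, rfl⟩ := Subgroup.mem_zpowers_iff.mp hz
      refine ⟨k, Subtype.ext ?_⟩
      rw [SubmonoidClass.coe_pow, OneMemClass.coe_one, ← zpow_natCast, ← zpow_mul, mul_comm,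
        zpow_mul, zpow_natCast, show c' ^ p ^ k = 1 from Subtype.ext hk, one_zpow]
    obtain ⟨R, hR⟩ := hcp.exists_le_sylow
    obtain ⟨m, hm⟩ := MulAction.exists_smul_eq M R (T.subtype hTM)
    have hd : (m : G) * c * (m : G)⁻¹ ∈ (T : Subgroup G) := by
      have h1 : m * c' * m⁻¹ ∈ ((T.subtype hTM : Sylow p M) : Subgroup M) := by
        rw [← hm]
        exact ⟨c', hR (Subgroup.mem_zpowers c'), rfl⟩
      exact Subgroup.mem_subgroupOf.mp h1
    have hdC : ∀ x ∈ J, (m : G) * c * (m : G)⁻¹ * x = x * ((m : G) * c * (m : G)⁻¹) := by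
      intro x hx
      have h1 := hcC _ ((Subgroup.mem_normalizer_iff''.mp m.2 x).mp hx)
      calc (m : G) * c * (m : G)⁻¹ * x
          = (m : G) * (c * ((m : G)⁻¹ * x * m) * c⁻¹) * (c * (m : G)⁻¹) := by group
        _ = x * ((m : G) * c * (m : G)⁻¹) := by rw [h1]; group
    have hdJ : (m : G) * c * (m : G)⁻¹ ∈ J := by
      obtain ⟨A, hA⟩ := maxAbIn_nonempty (T : Subgroup G)
      refine le_thompsonSubgroupAOf hA ?_
      by_contra hdA
      have hab : IsMulCommutative ↥(A ⊔ Subgroup.zpowers ((m : G) * c * (m : G)⁻¹)) := by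
        refine LA5.Replacement.isMulCommutative_sup hA.2.1 inferInstance fun a ha z hz => ?_
        obtain ⟨j, rfl⟩ := Subgroup.mem_zpowers_iff.mp hz
        have hca : Commute ((m : G) * c * (m : G)⁻¹) a := hdC a (le_thompsonSubgroupAOf hA ha)
        exact ((hca.zpow_left j).eq).symm
      have hle := hA.2.2 _ (sup_le hA.1 (Subgroup.zpowers_le.mpr hd)) hab
      have heq := Subgroup.eq_of_le_of_card_ge le_sup_left hle
      exact hdA (heq ▸ Subgroup.mem_sup_right (Subgroup.mem_zpowers _))
    exact (Subgroup.mem_normalizer_iff.mp m.2 c).mpr hdJ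
  refine Frobenius.hasNormalPComplement_of_forall_centralizes fun Q hQ _ g hg hgp => ?_
  refine Subgroup.mem_centralizer_iff.mpr fun q hq => ?_
  let c := (g : G) * q * (g : G)⁻¹ * (q : G)⁻¹
  have hgp' : (orderOf (g : G)).Coprime p := by rwa [Subgroup.orderOf_coe]
  have hcQ : g * q * g⁻¹ * q⁻¹ ∈ Q :=
    Q.mul_mem ((Subgroup.mem_normalizer_iff.mp hg q).mp hq) (Q.inv_mem hq)
  have hcp : ∃ k : ℕ, c ^ p ^ k = 1 := by
    obtain ⟨k, hk⟩ := hQ ⟨_, hcQ⟩
    exact ⟨k, congrArg (fun z : Q => ((z : M) : G)) hk⟩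
  have hcC : ∀ x ∈ J, c * x * c⁻¹ = x := by
    intro x hx
    have h2 : (g : G)⁻¹ * x * g = x := by
      conv_lhs => rw [← h g g.2 hgp' x hx]
      group
    have hy : (q : G)⁻¹ * x * q ∈ J := (Subgroup.mem_normalizer_iff''.mp q.2 x).mp hx
    have h3 : (g : G)⁻¹ * ((q : G)⁻¹ * x * q) * g = (q : G)⁻¹ * x * q := by
      conv_lhs => rw [← h g g.2 hgp' _ hy]
      group
    calc c * x * c⁻¹
        = g * q * ((g : G)⁻¹ * ((q : G)⁻¹ * x * q) * g) * (q : G)⁻¹ * (g : G)⁻¹ := by
          simp only [c]; group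
      _ = (g : G) * x * (g : G)⁻¹ := by rw [h3]; group
      _ = x := h g g.2 hgp' x hx
  have hcJ' := hcJ c (g * q * g⁻¹ * q⁻¹).2 hcC hcp
  have hc1 : c = 1 := eq_one_of_fixed hgp' rfl (h g g.2 hgp' c hcJ') hcp
  exact Subtype.ext (mul_inv_eq_iff_eq_mul.mp (mul_inv_eq_one.mp hc1)).symm

/-- A central normal `p`-subgroup with a quotient having a normal `p`-complement. -/
theorem hasNormalPComplement_of_central {G : Type u} [Group G] [Finite G] {Z : Subgroup G}
    [Z.Normal] (hZ : IsPGroup p Z) (hc : ∀ z ∈ Z, ∀ g : G, g * z = z * g)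
    (h : Cfsg.HasNormalPComplement p (G ⧸ Z)) : Cfsg.HasNormalPComplement p G := by
  refine Frobenius.hasNormalPComplement_of_forall_centralizes fun Q hQ _ g hg hgp => ?_
  refine Subgroup.mem_centralizer_iff.mpr fun q hq => ?_
  let f := QuotientGroup.mk' Z
  have h1 := Frobenius.mem_centralizer_of_hasNormalPComplement h (Q := Q.map f) (hQ.map f)
    (g := f g) (Subgroup.le_normalizer_map f ⟨g, hg, rfl⟩)
    (hgp.coprime_dvd_left (orderOf_map_dvd f g))
  have hcZ : g * q * g⁻¹ * q⁻¹ ∈ Z := by
    refine (QuotientGroup.eq_one_iff _).mp ?_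
    show f (g * q * g⁻¹ * q⁻¹) = 1
    rw [map_mul, map_mul, map_mul, map_inv, map_inv,
      ← Subgroup.mem_centralizer_iff.mp h1 (f q) ⟨q, hq, rfl⟩, mul_inv_cancel_right,
      mul_inv_cancel]
  obtain ⟨k, hk⟩ := hZ ⟨_, hcZ⟩
  have hc1 : g * q * g⁻¹ * q⁻¹ = 1 := eq_one_of_fixed hgp rfl
    (by rw [hc _ hcZ g, mul_inv_cancel_right]) ⟨k, congrArg Subtype.val hk⟩
  exact (mul_inv_eq_iff_eq_mul.mp (mul_inv_eq_one.mp hc1)).symm

/-- The criterion. -/
theorem hasNormalPComplement_of_charHyp :
    ∀ {G : Type u} [Group G] [Finite G] (T : Sylow p G),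
      (p ≠ 2 ∨ ¬ Cfsg.Involves (Equiv.Perm (Fin 4)) G) → Hyp p (T : Subgroup G) →
      Cfsg.HasNormalPComplement p G := by
  suffices ∀ (n : ℕ) (G : Type u) [Group G] [Finite G], Nat.card G ≤ n → ∀ T : Sylow p G,
      (p ≠ 2 ∨ ¬ Cfsg.Involves (Equiv.Perm (Fin 4)) G) → Hyp p (T : Subgroup G) →
      Cfsg.HasNormalPComplement p G from fun {G} _ _ T => this _ G le_rfl T
  intro n
  induction n with
  | zero => intro G _ _ h; exact absurd h (not_le.mpr Nat.card_pos)
  | succ n ih =>
    intro G _ _ hn T hgood hyp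
    let Z := (T : Subgroup G) ⊓ Subgroup.centralizer ((T : Subgroup G) : Set G)
    let H := Subgroup.centralizer (Z : Set G)
    by_cases hH : H = ⊤
    swap
    · have hTH : (T : Subgroup G) ≤ H := fun x hx => Subgroup.mem_centralizer_iff.mpr fun z hz =>
        (Subgroup.mem_centralizer_iff.mp hz.2 x hx).symm
      refine ThompsonJA.hasNormalPComplement_of_thompsonAOf T hgood ?_ ?_
      · refine ih H ?_ (T.subtype hTH) (hgood.imp_right fun hn hi =>
          hn (InvolvesS4.involves_of_injective H.subtype H.subtype_injective hi))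
          (hyp_of_injective H.subtype H.subtype_injective ?_)
        · have hlt : Nat.card H < Nat.card G := lt_of_le_of_ne (Subgroup.card_le_card_group H)
            fun h => hH (Subgroup.eq_top_of_card_eq H h)
          omega
        · rw [Sylow.coe_subtype, Subgroup.subgroupOf_map_subtype, inf_eq_left.mpr hTH]
          exact hyp
      · exact hasNormalPComplement_normalizer T fun g hg hgp =>
          hyp _ (thompsonSubgroupAOf_le _) (characteristic_thompsonAOf _) g hg hgp
    have hZc : ∀ z ∈ Z, ∀ g : G, g * z = z * g := fun z hz g =>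
      (Subgroup.mem_centralizer_iff.mp (hH.ge (Subgroup.mem_top g)) z hz).symm
    by_cases hT : (T : Subgroup G) = ⊥
    · refine hasNormalPComplement_of_normal (N := ⊤) ?_ ?_
      · rw [Subgroup.card_top]
        intro hd
        have := T.dvd_card_of_dvd_card hd
        rw [hT, Subgroup.card_bot] at this
        exact hp.out.not_dvd_one this
      · intro x
        obtain ⟨g, rfl⟩ := QuotientGroup.mk_surjective x
        exact ⟨0, by rw [pow_zero, pow_one]; exact (QuotientGroup.eq_one_iff g).mpr (Subgroup.mem_top g)⟩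
    have hZn : Z.Normal := ⟨fun z hz g => by rwa [hZc z hz g, mul_inv_cancel_right]⟩
    have hZ1 : Z ≠ ⊥ := Frobenius.PComplement.inf_centralizer_ne_bot T.2 hT
    have hZp : IsPGroup p Z := T.2.to_le inf_le_left
    let f := QuotientGroup.mk' Z
    have hfs : Function.Surjective f := QuotientGroup.mk'_surjective Z
    refine hasNormalPComplement_of_central hZp hZc
      (ih (G ⧸ Z) ?_ (T.mapSurjective hfs) (hgood.imp_right fun hn hi =>
        hn (InvolvesS4.involves_of_surjective f hfs hi)) ?_)
    · have h1 := Subgroup.card_eq_card_quotient_mul_card_subgroup Z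
      have h2 : 2 ≤ Nat.card Z := (Subgroup.one_lt_card_iff_ne_bot Z).mpr hZ1
      have h3 : Nat.card (G ⧸ Z) * 2 ≤ Nat.card G := h1 ▸ Nat.mul_le_mul_left _ h2
      have : 0 < Nat.card (G ⧸ Z) := Nat.card_pos
      omega
    rw [Sylow.coe_mapSurjective]
    intro Xb hXbT hXb gb hgb hgbp xb hxb
    -- the preimage of a characteristic subgroup
    let X := Xb.comap f
    have hXT : X ≤ (T : Subgroup G) := by
      intro x hx
      obtain ⟨t, ht, hte⟩ := hXbT hx
      have h1 : t⁻¹ * x ∈ Z := (QuotientGroup.eq).mp hte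
      simpa using mul_mem ht h1.1
    have hXc : (X.subgroupOf (T : Subgroup G)).Characteristic := by
      rw [Subgroup.characteristic_iff_comap_eq]
      intro φ
      have hφZ : ∀ t : (T : Subgroup G), (t : G) ∈ Z ↔ ((φ t : (T : Subgroup G)) : G) ∈ Z := by
        have hmem : ∀ t : (T : Subgroup G), (t : G) ∈ Z ↔ t ∈ Subgroup.center (T : Subgroup G) :=
          fun t => ⟨fun ht => Subgroup.mem_center_iff.mpr fun y => Subtype.ext (hZc _ ht y),
            fun ht => ⟨t.2, Subgroup.mem_centralizer_iff.mpr fun y hy =>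
              congrArg Subtype.val (Subgroup.mem_center_iff.mp ht ⟨y, hy⟩)⟩⟩
        intro t
        rw [hmem, hmem]
        have h := Subgroup.characteristic_iff_comap_eq.mp
          (inferInstance : (Subgroup.center (T : Subgroup G)).Characteristic) φ
        exact ⟨fun ht => Subgroup.mem_comap.mp (h.ge ht),
          fun ht => h.le (Subgroup.mem_comap.mpr ht)⟩
      -- the induced automorphism of the image
      let π := f.subgroupMap (T : Subgroup G)
      have hπ : Function.Surjective π := f.subgroupMap_surjective _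
      have hker : ∀ t : (T : Subgroup G), t ∈ π.ker ↔ (t : G) ∈ Z := fun t =>
        ⟨fun h => (QuotientGroup.eq_one_iff _).mp (congrArg Subtype.val h),
          fun h => Subtype.ext ((QuotientGroup.eq_one_iff _).mpr h)⟩
      have hmap : π.ker.map φ.toMonoidHom = π.ker := by
        ext t
        constructor
        · rintro ⟨s, hs, rfl⟩
          exact (hker _).mpr ((hφZ s).mp ((hker s).mp hs))
        · intro ht
          exact ⟨φ.symm t, (hker _).mpr ((hφZ _).mpr (by simpa using (hker t).mp ht)), by simp⟩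
      let e := QuotientGroup.quotientKerEquivOfSurjective π hπ
      let φb : MulAut ((T : Subgroup G).map f) :=
        e.symm.trans ((QuotientGroup.congr π.ker π.ker φ hmap).trans e)
      have hφb : ∀ t, φb (π t) = π (φ t) := fun t => by
        show e ((QuotientGroup.congr π.ker π.ker φ hmap) (e.symm (π t))) = _
        rw [show π t = e (t : (T : Subgroup G) ⧸ π.ker) from rfl, e.symm_apply_apply]
        rfl
      have h := Subgroup.characteristic_iff_comap_eq.mp hXb φb
      ext t
      rw [Subgroup.mem_comap, Subgroup.mem_subgroupOf, Subgroup.mem_subgroupOf]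
      have h1 : φb (π t) ∈ Xb.subgroupOf ((T : Subgroup G).map f) ↔
          π t ∈ Xb.subgroupOf ((T : Subgroup G).map f) := by
        conv_rhs => rw [← h]
        rfl
      rw [hφb] at h1
      exact h1
    obtain ⟨a, ha⟩ := hfs gb
    obtain ⟨a₁, a₂, -, -, hab, habc, ⟨k, hk⟩, ha₂⟩ :=
      exists_pPart_mul_pPrimePart (p := p) a (isOfFinOrder_of_finite a)
    -- the image of the `p`-part is trivial
    have hga : f a₂ = gb := by
      have h1 : (orderOf (f a₁)).Coprime p := by
        have hcm : Commute a₁ a₂ := habc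
        have : f a₁ = gb * (f a₂)⁻¹ := by rw [← ha, ← hab, map_mul, mul_inv_cancel_right]
        rw [this]
        refine (Nat.Coprime.coprime_dvd_left
          ((Commute.orderOf_mul_dvd_mul_orderOf ?_)) (Nat.Coprime.mul_left hgbp ?_))
        · rw [← ha, ← hab, map_mul]
          exact (((Commute.map hcm f).mul_left (Commute.refl _)).inv_right)
        · rw [orderOf_inv]; exact ha₂.coprime_dvd_left (orderOf_map_dvd f a₂)
      have h2 : f a₁ = 1 := orderOf_eq_one_iff.mp (Nat.eq_one_of_dvd_coprimes
        (Nat.Coprime.pow_right k h1) dvd_rfl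
        (orderOf_dvd_of_pow_eq_one (by rw [← map_pow, hk, map_one])))
      rw [← ha, ← hab, map_mul, h2, one_mul]
    obtain ⟨x, rfl⟩ := hfs xb
    rw [← hga, ← map_inv, ← map_mul, ← map_mul]
    refine congrArg f (hyp X hXT hXc a₂ ?_ ha₂ x hxb)
    rw [← hga] at hgb
    exact Subgroup.mem_normalizer_iff.mpr fun y => by
      simpa [X, map_mul, map_inv] using Subgroup.mem_normalizer_iff.mp hgb (f y)

end Cfsg.Agent.Lib.Transfer.CharHyp
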