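import Cfsg.Agent.Lib.Transfer.Fusion

/-!
Tate's theorem in the form used for normal `p`-complements: if a normal subgroup meets a Sylow
subgroup inside its Frattini subgroup, it has a normal `p`-complement.
-/

set_option autoImplicit false

open Cfsg
open scoped Pointwise commutatorElement IsMulCommutative

namespace Cfsg.Agent.Lib.Transfer.Tate

open Cfsg.Agent.Lib.Transfer.PResidual Cfsg.Agent.Lib.Transfer.Fusion

variable {G : Type*} [Group G] [Finite G] {p : ℕ} [hp : Fact p.Prime]

/-- If `P ∩ O^p(G) ≤ Φ(P)` then `G` has a normal `p`-complement. -/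
theorem hasNormalPComplement_of_inf_pResidual_le_frattini (P : Sylow p G)
    (h : pResidual p G ⊓ (P : Subgroup G) ≤ (frattini P).map (P : Subgroup G).subtype) :
    HasNormalPComplement p G := by
  rw [hasNormalPComplement_iff_inf_sylow P]
  by_contra hne
  set K := pResidual p G with hK
  set R' : Subgroup (P : Subgroup G) := K.subgroupOf (P : Subgroup G) with hR'
  haveI hS : (⁅R', (⊤ : Subgroup (P : Subgroup G))⁆).Normal := inferInstance
  set S' : Subgroup (P : Subgroup G) := ⁅R', ⊤⁆ with hS'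
  let mkS := QuotientGroup.mk' S'
  let proj : (P : Subgroup G) →* G ⧸ K := (QuotientGroup.mk' K).comp (P : Subgroup G).subtype
  have hprojker : proj.ker = R' := by
    ext z; simp [proj, MonoidHom.mem_ker, hR', Subgroup.mem_subgroupOf]
  have hSR : S' ≤ R' := Subgroup.commutator_le_left _ _
  let π : (P : Subgroup G) ⧸ S' →* G ⧸ K := QuotientGroup.lift S' proj (hprojker ▸ hSR)
  set A : Subgroup ((P : Subgroup G) ⧸ S') := π.ker with hA
  have hAmap : A = R'.map mkS := by
    apply le_antisymm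
    · intro q hq
      obtain ⟨z, rfl⟩ := QuotientGroup.mk'_surjective S' q
      refine ⟨z, ?_, rfl⟩
      rw [← hprojker]; simpa [hA, π] using hq
    · rintro _ ⟨z, hz, rfl⟩
      have hz' : z ∈ proj.ker := hprojker ▸ hz
      simpa [hA, π, mkS] using hz'
  have hAc : ∀ a ∈ A, ∀ q, q * a = a * q := by
    intro a ha q
    rw [hAmap] at ha
    obtain ⟨r, hr, rfl⟩ := ha
    obtain ⟨z, rfl⟩ := QuotientGroup.mk'_surjective S' q
    symm
    rw [← commutatorElement_eq_one_iff_mul_comm, ← map_commutatorElement]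
    exact (QuotientGroup.eq_one_iff _).2 (Subgroup.commutator_mem_commutator hr (Subgroup.mem_top z))
  have hQ : IsPGroup p ((P : Subgroup G) ⧸ S') := P.2.to_quotient S'
  have hAbot : A ≠ ⊥ := by
    intro hbot
    have hle : R' ≤ S' := by
      intro z hz
      have : mkS z ∈ A := hAmap ▸ ⟨z, hz, rfl⟩
      rw [hbot, Subgroup.mem_bot] at this
      exact (QuotientGroup.eq_one_iff z).1 this
    have h1 := Subgroup.map_mono (f := (P : Subgroup G).subtype) hle
    rw [hS', Subgroup.map_commutator, hR', Subgroup.subgroupOf_map_subtype,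
      ← MonoidHom.range_eq_map, Subgroup.range_subtype] at h1
    exact hne (eq_bot_of_le_commutator P.2 inf_le_right h1)
  -- the pullback
  let E : Subgroup (G × ((P : Subgroup G) ⧸ S')) :=
    ((QuotientGroup.mk' K).comp (MonoidHom.fst _ _)).eqLocus (π.comp (MonoidHom.snd _ _))
  let fstE : E →* G := (MonoidHom.fst _ _).comp E.subtype
  let sndE : E →* (P : Subgroup G) ⧸ S' := (MonoidHom.snd _ _).comp E.subtype
  have hE : ∀ e : E, QuotientGroup.mk' K (fstE e) = π (sndE e) := fun e => e.2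
  have hfst : Function.Surjective fstE := by
    intro g
    obtain ⟨k, hk, z, hz, rfl⟩ := exists_mul_sylow P g
    refine ⟨⟨(k * z, mkS ⟨z, hz⟩), ?_⟩, rfl⟩
    show QuotientGroup.mk' K (k * z) = π (mkS ⟨z, hz⟩)
    rw [map_mul, show QuotientGroup.mk' K k = 1 from (QuotientGroup.eq_one_iff k).2 hk, one_mul]
    rfl
  let P' : Subgroup E := (P : Subgroup G).comap fstE
  have hdiff : ∀ e : P', sndE e * (mkS ⟨fstE e, e.2⟩)⁻¹ ∈ A := by
    intro e
    rw [hA, MonoidHom.mem_ker, map_mul, map_inv, mul_inv_eq_one, ← hE]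
    rfl
  haveI hAcomm : IsMulCommutative A := ⟨⟨fun a b => Subtype.ext (hAc b b.2 a)⟩⟩
  let φ : P' →* A :=
    { toFun := fun e => ⟨sndE e * (mkS ⟨fstE e, e.2⟩)⁻¹, hdiff e⟩
      map_one' := by
        apply Subtype.ext
        simp only [OneMemClass.coe_one, map_one]
        rw [show (⟨(1 : G), _⟩ : (P : Subgroup G)) = 1 from rfl, map_one, inv_one, one_mul]
      map_mul' := by
        intro e f
        apply Subtype.ext
        simp only [Subgroup.coe_mul, map_mul]
        rw [show (⟨fstE e * fstE f, _⟩ : (P : Subgroup G)) = ⟨fstE e, e.2⟩ * ⟨fstE f, f.2⟩ from rfl,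
          map_mul, mul_inv_rev, mul_assoc (sndE (e : E)) (sndE (f : E)),
          ← mul_assoc (sndE (f : E)), ← hAc _ (hdiff f) ((mkS ⟨fstE e, e.2⟩)⁻¹), mul_assoc] }
  have hidx : P'.index = (P : Subgroup G).index := Subgroup.index_comap_of_surjective _ hfst
  let τ : E →* A := MonoidHom.transfer φ
  let ι : ∀ a : A, E := fun a => ⟨(1, a), show QuotientGroup.mk' K 1 = π a by rw [map_one, a.2]⟩
  have hτ : ∀ a : A, τ (ι a) = a ^ (P : Subgroup G).index := by
    intro a
    have key : ∀ (k : ℕ) (g₀ : E), g₀⁻¹ * ι a ^ k * g₀ ∈ P' → g₀⁻¹ * ι a ^ k * g₀ = ι a ^ k := by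
      intro k g₀ _
      have hcomm : Commute g₀ (ι a) := by
        apply Subtype.ext
        exact Prod.ext (by simp [ι]) (hAc a a.2 _)
      rw [mul_assoc, ← (hcomm.pow_right k).eq, inv_mul_cancel_left]
    rw [show τ (ι a) = MonoidHom.transfer φ (ι a) from rfl, MonoidHom.transfer_eq_pow φ (ι a) key]
    have hmem : ι a ∈ P' := show fstE (ι a) ∈ (P : Subgroup G) from one_mem _
    rw [show (⟨ι a ^ P'.index, _⟩ : P') = ⟨ι a, hmem⟩ ^ P'.index from rfl, map_pow, hidx]
    congr 1
    apply Subtype.ext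
    show sndE (ι a) * (mkS ⟨fstE (ι a), _⟩)⁻¹ = a
    rw [show (⟨fstE (ι a), hmem⟩ : (P : Subgroup G)) = 1 from rfl, map_one, inv_one, mul_one]
    rfl
  have hpowA := ((hQ.to_subgroup A).powEquiv' P.not_dvd_index).bijective
  let ψ : τ.ker →* G := fstE.comp τ.ker.subtype
  have hψ : Function.Bijective ψ := by
    constructor
    · rw [← MonoidHom.ker_eq_bot_iff, eq_bot_iff]
      intro e he
      have h1 : fstE e = 1 := he
      have ha : sndE e ∈ A := by
        show π (sndE e) = 1
        rw [← hE, h1, map_one]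
      have hee : (e : E) = ι ⟨sndE e, ha⟩ := Subtype.ext (Prod.ext h1 rfl)
      have h2 : τ (ι ⟨sndE e, ha⟩) = 1 := hee ▸ e.2
      rw [hτ] at h2
      have h3 : (⟨sndE e, ha⟩ : A) = 1 := hpowA.1 (h2.trans (one_pow _).symm)
      rw [Subgroup.mem_bot]
      apply Subtype.ext
      rw [hee, h3]
      rfl
    · intro g
      obtain ⟨e, rfl⟩ := hfst g
      obtain ⟨a, ha⟩ := hpowA.2 (τ e)
      refine ⟨⟨e * (ι a)⁻¹, ?_⟩, ?_⟩
      · rw [MonoidHom.mem_ker, map_mul, map_inv, hτ, mul_inv_eq_one]
        exact ha.symm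
      · show fstE (e * (ι a)⁻¹) = fstE e
        rw [map_mul, map_inv, show fstE (ι a) = 1 from rfl, inv_one, mul_one]
  let f : G →* (P : Subgroup G) ⧸ S' :=
    (sndE.comp τ.ker.subtype).comp (MulEquiv.ofBijective ψ hψ).symm.toMonoidHom
  have hf : ∀ g, π (f g) = QuotientGroup.mk' K g := by
    intro g
    rw [show f g = sndE ((MulEquiv.ofBijective ψ hψ).symm g : E) from rfl, ← hE]
    exact congrArg _ ((MulEquiv.ofBijective ψ hψ).apply_symm_apply g)
  have hfsurj : f.range = ⊤ := by
    refine frattini_nongenerating (eq_top_iff.2 fun q _ => ?_)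
    obtain ⟨z, hz⟩ := QuotientGroup.mk'_surjective K (π q)
    have h1 : (f z)⁻¹ * q ∈ A := by
      show π ((f z)⁻¹ * q) = 1
      rw [map_mul, map_inv, hf, hz, inv_mul_cancel]
    have h2 : A ≤ frattini ((P : Subgroup G) ⧸ S') := by
      rw [hAmap, Subgroup.map_le_iff_le_comap]
      refine le_trans ?_ (frattini_le_comap_frattini_of_surjective (QuotientGroup.mk'_surjective S'))
      intro r hr
      obtain ⟨r', hr', hrr⟩ := h ⟨hr, r.2⟩
      rwa [← Subtype.ext hrr]
    rw [show q = f z * ((f z)⁻¹ * q) from (mul_inv_cancel_left _ _).symm]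
    exact Subgroup.mul_mem_sup ⟨z, rfl⟩ (h2 h1)
  refine hAbot (le_bot_iff.1 fun a ha => Subgroup.mem_bot.2 ?_)
  obtain ⟨g, rfl⟩ : ∃ g, f g = a := MonoidHom.range_eq_top.1 hfsurj a
  replace ha : π (f g) = 1 := ha
  rw [hf] at ha
  exact pResidual_le_ker f hQ ((QuotientGroup.eq_one_iff g).1 ha)

/-- If a normal subgroup `N` meets a Sylow subgroup inside its Frattini subgroup, then `N` has a
normal `p`-complement. -/
theorem hasNormalPComplement_of_inf_le_frattini (P : Sylow p G) (N : Subgroup G) [N.Normal]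
    (h : N ⊓ (P : Subgroup G) ≤ (frattini P).map (P : Subgroup G).subtype) :
    HasNormalPComplement p N := by
  set K : Subgroup G := (pResidual p N).map N.subtype with hK
  set G0 : Subgroup G := K ⊔ P with hG0
  let P0 : Sylow p G0 := P.subtype le_sup_right
  have hK0 : K ≤ N := Subgroup.map_subtype_le _
  haveI : K.Normal := by rw [hK]; infer_instance
  have hle : (pResidual p G0).map G0.subtype ≤ N := by
    refine le_trans ?_ hK0
    rw [Subgroup.map_le_iff_le_comap]
    haveI : (K.comap G0.subtype).Normal := Subgroup.Normal.comap ‹_› _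
    apply pResidual_le_of_isPGroup_quotient
    refine IsPGroup.of_surjective P0.2
      ((QuotientGroup.mk' _).comp (P0 : Subgroup G0).subtype) fun q => ?_
    obtain ⟨⟨g, hg⟩, rfl⟩ := QuotientGroup.mk'_surjective _ q
    have hg' : g ∈ ((K ⊔ (P : Subgroup G) : Subgroup G) : Set G) := hg
    rw [Subgroup.normal_mul] at hg'
    obtain ⟨k, hk, z, hz, rfl⟩ := hg'
    refine ⟨⟨⟨z, Subgroup.mem_sup_right hz⟩, hz⟩, ?_⟩
    refine QuotientGroup.eq.2 ?_
    show z⁻¹ * (k * z) ∈ K
    rw [← mul_assoc]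
    exact Subgroup.Normal.conj_mem' ‹K.Normal› k hk z
  have hcomp : HasNormalPComplement p G0 := by
    refine hasNormalPComplement_of_inf_pResidual_le_frattini P0 ?_
    intro x hx
    obtain ⟨y, hy, hyx⟩ := h ⟨hle ⟨x, hx.1, rfl⟩, hx.2⟩
    let e : (P : Subgroup G) ≃* (P0 : Subgroup G0) :=
      (Subgroup.subgroupOfEquivOfLe le_sup_right).symm
    exact ⟨e y, frattini_le_comap_frattini_of_surjective (φ := e.toMonoidHom) e.surjective hy,
      Subtype.ext hyx⟩
  rw [hasNormalPComplement_iff_not_dvd] at hcomp ⊢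
  intro hd
  apply hcomp
  refine hd.trans ?_
  rw [← Subgroup.card_map_of_injective N.subtype_injective,
    ← Subgroup.card_map_of_injective G0.subtype_injective (K := pResidual p G0)]
  refine Subgroup.card_dvd_of_le ?_
  rw [Subgroup.map_le_iff_le_comap, pResidual_le_iff]
  intro g hg
  rw [← Subgroup.orderOf_coe] at hg
  exact mem_map_subtype (Subgroup.mem_sup_left ⟨g, mem_pResidual (by rwa [← Subgroup.orderOf_coe]), rfl⟩) hg

end Cfsg.Agent.Lib.Transfer.Tate
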