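import Cfsg.Agent.Lib.Transfer.CharHyp
import Cfsg.Agent.Lib.FusionAlperin.Model
import Cfsg.Agent.Lib.FusionSystem.Essential
import Cfsg.Agent.Lib.FusionSystem.Normalizer
import Cfsg.Prelude.Def_FusionReduction

/-!
# Local-to-global induction for `Aut_F(X)` being `p`-groups

* `isPGroup_autGroup_of_step` : downward induction on `|N_S(X)|`; only fully normalized centric `Q`
  have to be treated, and there `Aut_F(X)` is a `p`-group for `X` characteristic in `N_S(Q) ≠ S`.
* `Local`, `exists_local` : a model of `N_F(Q)` with what is needed for these arguments.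
-/

set_option autoImplicit false
set_option linter.unusedSectionVars false

namespace Cfsg.Agent.Lib.Transfer.FusionLocal

open Cfsg Cfsg.FusionSystem Cfsg.Agent.Lib.FS

universe u

variable {Ω : Type u} [Group Ω] {S : Subgroup Ω} [Finite S] {p : ℕ} [hp : Fact p.Prime]
  {F : FusionSystem S}

theorem isPGroup_autGroup_of_isConj {P Q : Subgroup Ω} (h : F.IsConj P Q)
    (hQ : IsPGroup p (F.autGroup Q)) : IsPGroup p (F.autGroup P) := by
  haveI := finite_sub (isConj_le_left h)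
  haveI := finite_sub (isConj_le_right h)
  haveI : Finite (MulAut P) :=
    Finite.of_injective (fun f : MulAut P => (f : P → P)) DFunLike.coe_injective
  haveI : Finite (MulAut Q) :=
    Finite.of_injective (fun f : MulAut Q => (f : Q → Q)) DFunLike.coe_injective
  obtain ⟨k, hk⟩ := IsPGroup.iff_card.mp hQ
  exact IsPGroup.iff_card.mpr ⟨k, by rw [← card_autGroup_of_isConj h, hk]⟩

theorem isCentric_of_isConj {P Q : Subgroup Ω} (h : F.IsConj P Q) (hP : F.IsCentric P) :
    F.IsCentric Q :=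
  ⟨isConj_le_right h, fun R hR => hP.2 R (isConj_trans h hR)⟩

/-- `N_S(T) ≤ N_S(X)` for `X` characteristic in `T`. -/
theorem normalizerIn_le_of_char {T X : Subgroup Ω} (hXT : X ≤ T)
    (h : (X.subgroupOf T).Characteristic) : normalizerIn S T ≤ normalizerIn S X := by
  rintro s ⟨hs, hsT⟩
  refine ⟨hs, Subgroup.mem_normalizer_iff.mpr fun x => ?_⟩
  let φ : MulAut T := T.normalizerMonoidHom ⟨s, hsT⟩
  have hc := Subgroup.characteristic_iff_comap_eq.mp h φ
  constructor
  · intro hx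
    have : (⟨x, hXT hx⟩ : T) ∈ (X.subgroupOf T).comap φ.toMonoidHom := hc.symm ▸ hx
    exact this
  · intro hx
    have hxT : x ∈ T := (Subgroup.mem_normalizer_iff.mp hsT x).mpr (hXT hx)
    have : (⟨x, hxT⟩ : T) ∈ X.subgroupOf T := hc ▸ (show (⟨x, hxT⟩ : T) ∈
      (X.subgroupOf T).comap φ.toMonoidHom from hx)
    exact this

/-- The reduction of an arbitrary fully normalized `X` to `X C_S(X)`. -/
theorem isPGroup_autGroup_of_centric (hS : IsPGroup p S) (hF : F.IsSaturated p) {X : Subgroup Ω}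
    (hX : F.IsFullyNormalized X)
    (h : ∀ U : Subgroup Ω, F.IsCentric U → normalizerIn S X ≤ normalizerIn S U →
      IsPGroup p (F.autGroup U)) : IsPGroup p (F.autGroup X) := by
  obtain ⟨hfc, -, hrec⟩ := fullyNormalized_props hS hF hX
  let C := centralizerIn S X
  let U := X ⊔ C
  have hUS : U ≤ S := sup_le hX.1 (centralizerIn_le X)
  have hUc : F.IsCentric U := by
    refine ⟨hUS, ?_⟩
    rintro R ⟨φ, hφ, rfl⟩
    obtain ⟨ψ, hψ, he⟩ := exists_restrict hφ (le_sup_left : X ≤ U)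
    have hX' : ψ.range ≤ φ.range := by rintro _ ⟨x, rfl⟩; rw [he]; exact ⟨_, rfl⟩
    haveI : Finite (centralizerIn S ψ.range) := finite_sub (centralizerIn_le _)
    have hle : (C.subgroupOf U).map φ ≤ centralizerIn S ψ.range := by
      rintro _ ⟨c, hc, rfl⟩
      refine mem_centralizerIn.mpr ⟨apply_mem hφ c, ?_⟩
      rintro _ ⟨x, rfl⟩
      rw [he, ← map_mul, ← map_mul]
      exact congrArg φ (Subtype.ext ((mem_centralizerIn.mp hc).2 (x : Ω) x.2))
    have hcard : Nat.card ((C.subgroupOf U).map φ) = Nat.card C := by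
      rw [Subgroup.card_map_of_injective (F.injective_of_mem hφ)]
      exact Nat.card_congr (Subgroup.subgroupOfEquivOfLe le_sup_right).toEquiv
    have heq : (C.subgroupOf U).map φ = centralizerIn S ψ.range :=
      Subgroup.eq_of_le_of_card_ge hle (hcard ▸ hfc.2 _ ⟨ψ, hψ, rfl⟩)
    intro z hz
    obtain ⟨c, -, rfl⟩ := heq.ge (centralizerIn_anti hX' hz)
    exact ⟨c, rfl⟩
  have hN : normalizerIn S X ≤ normalizerIn S U := by
    rintro g ⟨hg, hgX⟩
    haveI := finite_sub hUS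
    refine ⟨hg, mem_normalizer_of_conj_mem fun x hx => ?_⟩
    have hle : U ≤ U.comap (MulAut.conj g).toMonoidHom := by
      refine sup_le (fun y hy => Subgroup.mem_sup_left ((Subgroup.mem_normalizer_iff.mp hgX y).mp hy))
        (fun y hy => Subgroup.mem_sup_right (mem_centralizerIn.mpr ?_))
      obtain ⟨hyS, hyc⟩ := mem_centralizerIn.mp hy
      refine ⟨S.mul_mem (S.mul_mem hg hyS) (S.inv_mem hg), fun z hz => ?_⟩
      have h1 := hyc _ ((Subgroup.mem_normalizer_iff''.mp hgX z).mp hz)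
      calc z * (g * y * g⁻¹) = g * ((g⁻¹ * z * g) * y) * g⁻¹ := by group
        _ = g * (y * (g⁻¹ * z * g)) * g⁻¹ := by rw [h1]
        _ = (g * y * g⁻¹) * z := by group
    exact hle hx
  have hU := h U hUc hN
  intro α
  obtain ⟨φ, hφ, hr, he⟩ := exists_hom_of_aut hX.1 α.2
  obtain ⟨ψ, hψ, hext⟩ := hrec.2 X φ hφ hr
  have hUe : U ≤ extender S X φ :=
    sup_le (le_extender hX.1 (apply_mem hφ)) (centralizerIn_le_extender X φ)
  obtain ⟨χ, hχ, hχe⟩ := exists_restrict hψ hUe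
  have hχX : ∀ (x : X), χ (Subgroup.inclusion le_sup_left x) = φ x := fun x => by
    rw [hχe]; exact hext x x.2 (hUe (Subgroup.mem_sup_left x.2))
  have hχU : ∀ u : U, χ u ∈ U := by
    have hle : (⊤ : Subgroup U) ≤ U.comap χ := by
      rw [← Subgroup.subgroupOf_self U]
      show (X ⊔ C).subgroupOf U ≤ _
      rw [Subgroup.subgroupOf_sup le_sup_left le_sup_right]
      refine sup_le (fun x hx => ?_) (fun c hc => Subgroup.mem_sup_right ?_)
      · exact Subgroup.mem_sup_left (by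
          rw [show x = Subgroup.inclusion le_sup_left ⟨(x : Ω), hx⟩ from rfl, hχX]
          exact hr.le ⟨_, rfl⟩)
      · refine mem_centralizerIn.mpr ⟨apply_mem hχ c, fun y hy => ?_⟩
        obtain ⟨x, rfl⟩ := hr.ge hy
        rw [← hχX, ← map_mul, ← map_mul]
        exact congrArg χ (Subtype.ext ((mem_centralizerIn.mp hc).2 (x : Ω) x.2))
    exact fun u => hle (Subgroup.mem_top u)
  haveI := finite_sub hUS
  let β : MulAut U := MulEquiv.ofBijective (χ.codRestrict U hχU)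
    (Finite.injective_iff_bijective.mp fun a b h =>
      F.injective_of_mem hχ (congrArg Subtype.val h))
  have hβ : β ∈ F.autGroup U := mem_autGroup_of_hom hχ fun _ => rfl
  obtain ⟨k, hk⟩ := hU ⟨β, hβ⟩
  refine ⟨k, Subtype.ext (MulEquiv.ext fun x => Subtype.ext ?_)⟩
  have hpow : ∀ (n : ℕ) (x : X), (((β ^ n) (Subgroup.inclusion le_sup_left x) : U) : Ω) =
      ((((α : MulAut X) ^ n) x : X) : Ω) := by
    intro n
    induction n with
    | zero => intro x; rfl
    | succ n ih =>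
      intro x
      rw [pow_succ, pow_succ, MulAut.mul_apply, MulAut.mul_apply, ← ih]
      refine congrArg (fun z => (((β ^ n) z : U) : Ω)) (Subtype.ext ?_)
      show χ _ = _
      rw [hχX, he]
      rfl
  rw [SubmonoidClass.coe_pow, ← hpow, show β ^ p ^ k = 1 from congrArg Subtype.val hk]
  rfl

/-- Downward induction on `|N_S(X)|`. -/
theorem isPGroup_autGroup_of_step (hS : IsPGroup p S) (hF : F.IsSaturated p)
    (step : ∀ Q : Subgroup Ω, F.IsFullyNormalized Q → F.IsCentric Q →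
      (normalizerIn S Q ≠ S → ∀ X : Subgroup Ω, X ≤ normalizerIn S Q →
        (X.subgroupOf (normalizerIn S Q)).Characteristic → IsPGroup p (F.autGroup X)) →
      IsPGroup p (F.autGroup Q)) :
    ∀ X : Subgroup Ω, X ≤ S → IsPGroup p (F.autGroup X) := by
  suffices H : ∀ (d : ℕ) (X : Subgroup Ω), F.IsFullyNormalized X →
      Nat.card S - Nat.card (normalizerIn S X) ≤ d → IsPGroup p (F.autGroup X) by
    intro X hX
    obtain ⟨Y, hXY, hY⟩ := exists_isFullyNormalized F hX
    exact isPGroup_autGroup_of_isConj hXY (H _ Y hY le_rfl)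
  intro d
  induction d using Nat.strong_induction_on with
  | _ d ih =>
    -- larger normalizers are done
    have hbig : ∀ Y : Subgroup Ω, Y ≤ S → Nat.card S - Nat.card (normalizerIn S Y) < d →
        IsPGroup p (F.autGroup Y) := by
      intro Y hY hlt
      obtain ⟨Z, hYZ, hZ⟩ := exists_isFullyNormalized F hY
      have := hZ.2 Y (isConj_symm hYZ)
      exact isPGroup_autGroup_of_isConj hYZ
        (ih (Nat.card S - Nat.card (normalizerIn S Z)) (by omega) Z hZ le_rfl)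
    have hcent : ∀ Q : Subgroup Ω, F.IsFullyNormalized Q → F.IsCentric Q →
        Nat.card S - Nat.card (normalizerIn S Q) ≤ d → IsPGroup p (F.autGroup Q) := by
      intro Q hQ hQc hle
      refine step Q hQ hQc fun hne X hXT hXc => hbig X (hXT.trans (normalizerIn_le Q)) ?_
      have hlt : normalizerIn S Q < normalizerIn S (normalizerIn S Q) :=
        normalizerIn_ne_of_lt hS (lt_of_le_of_ne (normalizerIn_le Q) hne)
      haveI := finite_sub (normalizerIn_le (S := S) (normalizerIn S Q))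
      haveI := finite_sub (normalizerIn_le (S := S) X)
      have h1 : Nat.card (normalizerIn S Q) < Nat.card (normalizerIn S (normalizerIn S Q)) :=
        lt_of_le_of_ne (Subgroup.card_le_of_le hlt.le) fun h =>
          hlt.ne (Subgroup.eq_of_le_of_card_ge hlt.le h.ge)
      have h2 := Subgroup.card_le_of_le (normalizerIn_le_of_char (S := S) hXT hXc)
      have h3 : Nat.card (normalizerIn S X) ≤ Nat.card S :=
        Subgroup.card_le_of_le (normalizerIn_le X)
      omega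
    intro X hX hd
    refine isPGroup_autGroup_of_centric hS hF hX fun U hU hle => ?_
    obtain ⟨R, hUR, hR⟩ := exists_isFullyNormalized F hU.1
    haveI := finite_sub (normalizerIn_le (S := S) U)
    have h1 := Subgroup.card_le_of_le hle
    have h2 := hR.2 U (isConj_symm hUR)
    exact isPGroup_autGroup_of_isConj hUR (hcent R hR (isCentric_of_isConj hUR hU) (by omega))

/-- A model of `N_F(Q)`. -/
structure Local (F : FusionSystem S) (p : ℕ) (Q : Subgroup Ω) {G : Type u} [Group G]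
    (ι : normalizerIn S Q →* G) : Prop where
  finite : Finite G
  le : Q ≤ normalizerIn S Q
  injective : Function.Injective ι
  sylow : ∃ T : Sylow p G, (T : Subgroup G) = ι.range
  centralizer : ∀ g : G, (∀ x : normalizerIn S Q, (x : Ω) ∈ Q → g * ι x = ι x * g) →
    ∃ x : normalizerIn S Q, (x : Ω) ∈ Q ∧ ι x = g
  normal : ((Q.subgroupOf (normalizerIn S Q)).map ι).Normal
  hom : ∀ X : Subgroup Ω, X ≤ normalizerIn S Q →
    ∀ g ∈ Subgroup.normalizer ((((X.subgroupOf (normalizerIn S Q)).map ι : Subgroup G)) : Set G),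
    ∃ φ ∈ F.normalizerHom Q X, φ.range = X ∧ ∀ (x : X) (hx : (x : Ω) ∈ normalizerIn S Q)
      (hy : φ x ∈ normalizerIn S Q), ι ⟨φ x, hy⟩ = g * ι ⟨x, hx⟩ * g⁻¹
  lift : ∀ α ∈ F.autGroup Q, ∃ g : G, ∀ (x : Q) (hx : (x : Ω) ∈ normalizerIn S Q)
    (hy : ((α x : Q) : Ω) ∈ normalizerIn S Q), ι ⟨(α x : Q), hy⟩ = g * ι ⟨x, hx⟩ * g⁻¹
  sectionFree : ∀ {H : Type} [Group H], F.IsSectionFree p H → ¬ Involves H G

theorem aut_mem_normalizerHom {Q : Subgroup Ω} (hQ : Q ≤ S) {α : MulAut Q} (hα : α ∈ F.autGroup Q) :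
    Q.subtype.comp α.toMonoidHom ∈ F.normalizerHom Q Q := by
  have hT := le_normalizerIn hQ
  have hmem := (mem_autGroup hQ).1 hα
  have hle : Q ⊔ Q ≤ Q := (sup_idem Q).le
  refine ⟨hmem, hT, fun x => hT (α x).2, (Q.subtype.comp α.toMonoidHom).comp (Subgroup.inclusion hle),
    mem_of_restrict hmem hle fun _ => rfl, fun x => rfl, ?_⟩
  ext y
  constructor
  · rintro ⟨z, -, rfl⟩
    exact (α _).2
  · intro hy
    exact ⟨Subgroup.inclusion le_sup_left (α.symm ⟨y, hy⟩), Subgroup.mem_subgroupOf.mpr (α.symm ⟨y, hy⟩).2,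
      congrArg Subtype.val (α.apply_symm_apply ⟨y, hy⟩)⟩

theorem isNormal_normalizerSystem {Q : Subgroup Ω} (hQ : Q ≤ S)
    {N : FusionSystem (normalizerIn S Q)} (hN : F.IsNormalizerSystem Q N) : N.IsNormal Q := by
  refine ⟨le_normalizerIn hQ, fun P φ hφ => ?_⟩
  rw [hN P] at hφ
  obtain ⟨-, hP, -, ψ, hψ, he, hQψ⟩ := hφ
  refine ⟨ψ, ?_, he, hQψ⟩
  rw [hN]
  haveI := finite_sub hQ
  have hle : P ⊔ Q ≤ normalizerIn S Q := sup_le hP (le_normalizerIn hQ)
  refine ⟨hψ, hle, fun z => ?_, ψ.comp (Subgroup.inclusion (sup_le le_rfl le_sup_right)), ?_,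
    fun z => rfl, ?_⟩
  · exact apply_mem_normalizerIn hψ le_sup_right hQψ z (hle z.2).2
  · exact mem_of_restrict hψ (sup_le le_rfl le_sup_right) fun _ => rfl
  · ext y
    constructor
    · rintro ⟨z, hz, rfl⟩
      exact hQψ.le ⟨_, hz, rfl⟩
    · intro hy
      obtain ⟨z, hz, rfl⟩ := hQψ.ge hy
      exact ⟨Subgroup.inclusion le_sup_left z, hz, rfl⟩

theorem isConstrained_normalizerSystem (hS : IsPGroup p S) (hF : F.IsSaturated p) {Q : Subgroup Ω}
    (hQn : F.IsFullyNormalized Q) (hQc : F.IsCentric Q) {N : FusionSystem (normalizerIn S Q)}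
    (hN : F.IsNormalizerSystem Q N) : N.IsCentric Q ∧ N.IsConstrained p := by
  have hNn := isNormal_normalizerSystem hQn.1 hN
  have hc : N.IsCentric Q := by
    refine ⟨le_normalizerIn hQn.1, ?_⟩
    rintro R ⟨φ, hφ, rfl⟩
    rw [hN Q] at hφ
    exact fun x hx => hQc.2 φ.range ⟨φ, hφ.1, rfl⟩ ⟨hx.1.1, hx.2⟩
  exact ⟨hc, normalizerSystem_isSaturated hS hF hQn hN, Q, hNn, hc⟩

theorem exists_local (hS : IsPGroup p S) (hF : F.IsSaturated p) {Q : Subgroup Ω}
    (hQn : F.IsFullyNormalized Q) (hQc : F.IsCentric Q) :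
    ∃ (G : Type u) (_ : Group G) (ι : normalizerIn S Q →* G), Local F p Q ι := by
  obtain ⟨N, hN⟩ := exists_normalizerSystem F hQn.1
  have hT : IsPGroup p (normalizerIn S Q) := hS.to_le (normalizerIn_le Q)
  haveI := finite_sub (normalizerIn_le (S := S) Q)
  obtain ⟨hNc, hNsat, -⟩ := isConstrained_normalizerSystem hS hF hQn hQc hN
  have hNn := isNormal_normalizerSystem hQn.1 hN
  obtain ⟨G, hG, ι, hM, hQcore, hcent⟩ := FusionAlperin.Model.exists_model hT hNsat hNn hNc
  obtain ⟨hfin, hreal, ⟨T, hTr⟩, -⟩ := hM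
  haveI := hfin
  haveI := finite_sub hQn.1
  let e := MonoidHom.ofInjective hreal.1
  have hcore : pCore p G ≤ ι.range := hTr ▸ Cores.pCore_le_sylow T
  -- conjugation by `g` read through `ι`
  have hpull : ∀ (X : Subgroup Ω) (hX : X ≤ normalizerIn S Q) (g : G),
      (∀ x : X, g * ι ⟨x, hX x.2⟩ * g⁻¹ ∈ ι.range) → ∃ φ ∈ F.normalizerHom Q X,
        ∀ (x : X) (hy : φ x ∈ normalizerIn S Q), ι ⟨φ x, hy⟩ = g * ι ⟨x, hX x.2⟩ * g⁻¹ := by
    intro X hX g hg
    let c : X →* ι.range :=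
      ((MulAut.conj g).toMonoidHom.comp (ι.comp (Subgroup.inclusion hX))).codRestrict ι.range hg
    let φ : X →* Ω := (normalizerIn S Q).subtype.comp (e.symm.toMonoidHom.comp c)
    have hφ : ∀ x, φ x ∈ normalizerIn S Q := fun x => (e.symm (c x)).2
    have hιφ : ∀ (x : X) (hy : φ x ∈ normalizerIn S Q),
        ι ⟨φ x, hy⟩ = g * ι ⟨x, hX x.2⟩ * g⁻¹ := fun x hy =>
      congrArg Subtype.val (e.apply_symm_apply (c x))
    refine ⟨φ, ?_, hιφ⟩
    rw [← hN X]
    exact (hreal.2 X hX φ hφ).mpr ⟨g, fun x => hιφ x (hφ x)⟩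
  have hnormal : ((Q.subgroupOf (normalizerIn S Q)).map ι).Normal := by
    refine ⟨?_⟩
    rintro _ ⟨x, hx, rfl⟩ g
    obtain ⟨φ, hφ, he⟩ := hpull Q (le_normalizerIn hQn.1) g fun y => hcore
      (Subgroup.Normal.conj_mem inferInstance _
        (hQcore ⟨⟨y, le_normalizerIn hQn.1 y.2⟩, y.2, rfl⟩) g)
    obtain ⟨-, -, hφT, ψ, -, hψ, hψQ⟩ := hφ
    have hmem : φ ⟨x, hx⟩ ∈ Q := by
      rw [← hψ]
      exact hψQ.le ⟨_, (hx : (x : Ω) ∈ Q), rfl⟩
    exact ⟨⟨φ ⟨x, hx⟩, hφT _⟩, hmem, he _ _⟩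
  refine ⟨G, hG, ι, hfin, le_normalizerIn hQn.1, hreal.1, ⟨T, hTr⟩, hcent, hnormal,
    fun X hX g hg => ?_, fun α hα => ?_, fun {H} _ hfree => ?_⟩
  · obtain ⟨φ, hφ, he⟩ := hpull X hX g fun x => by
      obtain ⟨y, -, hy⟩ := (Subgroup.mem_normalizer_iff.mp hg _).mp
        ⟨⟨x, hX x.2⟩, x.2, rfl⟩
      exact ⟨y, hy⟩
    refine ⟨φ, hφ, ?_, fun x hx hy => he x hy⟩
    haveI := finite_sub (hX.trans (normalizerIn_le Q))
    refine range_eq_of_mem hφ.1 (fun x => ?_) le_rfl
    obtain ⟨y, hy, hye⟩ := (Subgroup.mem_normalizer_iff.mp hg _).mp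
      ⟨⟨x, hX x.2⟩, x.2, rfl⟩
    have h1 := he x (hφ.2.2.1 x)
    rw [← hye] at h1
    rw [show φ x = y from congrArg Subtype.val (hreal.1 h1)]
    exact hy
  · have hmem : Q.subtype.comp α.toMonoidHom ∈ N.Hom Q := by
      rw [hN Q]; exact aut_mem_normalizerHom hQn.1 hα
    obtain ⟨g, hg⟩ := (hreal.2 Q (le_normalizerIn hQn.1) _
      fun x => le_normalizerIn hQn.1 (α x).2).mp hmem
    exact ⟨g, fun x hx hy => hg x⟩
  · exact hfree Q hQn hQc N hN G ι ⟨hfin, hreal, ⟨T, hTr⟩, fun x hx => by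
      obtain ⟨y, hy, rfl⟩ := hcent x fun y hy =>
        (Subgroup.mem_centralizer_iff.1 hx (ι y) (hQcore ⟨y, hy, rfl⟩)).symm
      exact hQcore ⟨y, hy, rfl⟩⟩

variable {Q : Subgroup Ω} {G : Type u} [Group G] {ι : normalizerIn S Q →* G}

/-- An element of order prime to `p` normalising `X` with `Aut_F(X)` a `p`-group centralises it. -/
theorem Local.centralizes_of_isPGroup (L : Local F p Q ι) {X : Subgroup Ω}
    (hX : X ≤ normalizerIn S Q) (hgood : IsPGroup p (F.autGroup X)) {g : G}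
    (hg : g ∈ Subgroup.normalizer ((((X.subgroupOf (normalizerIn S Q)).map ι : Subgroup G)) : Set G))
    (hgp : (orderOf g).Coprime p) (x : normalizerIn S Q) (hx : (x : Ω) ∈ X) :
    g * ι x * g⁻¹ = ι x := by
  haveI := L.finite
  haveI := finite_sub (hX.trans (normalizerIn_le Q))
  obtain ⟨φ, hφ, hr, he⟩ := L.hom X hX g hg
  let α := homEquiv hφ.1 hr
  have hα : α ∈ F.autGroup X := homEquiv_mem_autGroup hφ.1 hr
  have hpow : ∀ (n : ℕ) (y : X),
      ι ⟨((α ^ n) y : X), hX ((α ^ n) y).2⟩ = g ^ n * ι ⟨y, hX y.2⟩ * (g ^ n)⁻¹ := by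
    intro n
    induction n with
    | zero => intro y; simp
    | succ n ih =>
      intro y
      have h1 : ι ⟨(α y : X), hX (α y).2⟩ = g * ι ⟨y, hX y.2⟩ * g⁻¹ :=
        he y (hX y.2) (hX (α y).2)
      calc ι ⟨((α ^ (n + 1)) y : X), hX ((α ^ (n + 1)) y).2⟩
          = ι ⟨((α ^ n) (α y) : X), hX ((α ^ n) (α y)).2⟩ := by
            congr 1
        _ = g ^ n * (g * ι ⟨y, hX y.2⟩ * g⁻¹) * (g ^ n)⁻¹ := by rw [ih, h1]
        _ = g ^ (n + 1) * ι ⟨y, hX y.2⟩ * (g ^ (n + 1))⁻¹ := by rw [pow_succ]; group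
  have hdvd : orderOf α ∣ orderOf g := by
    refine orderOf_dvd_of_pow_eq_one (MulEquiv.ext fun y => Subtype.ext ?_)
    have h1 := hpow (orderOf g) y
    rw [pow_orderOf_eq_one, one_mul, inv_one, mul_one] at h1
    have h2 := congrArg Subtype.val (L.injective h1)
    exact h2
  obtain ⟨k, hk⟩ := hgood ⟨α, hα⟩
  have hα1 : α = 1 := orderOf_eq_one_iff.mp (Nat.eq_one_of_dvd_coprimes
    (Nat.Coprime.pow_right k hgp) hdvd (orderOf_dvd_of_pow_eq_one (congrArg Subtype.val hk)))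
  have h1 := hpow 1 ⟨x, hx⟩
  simp only [hα1, one_pow, pow_one] at h1
  exact h1.symm

/-- An element of order prime to `p` centralising `Q` is trivial. -/
theorem Local.eq_one_of_centralizes (L : Local F p Q ι) (hS : IsPGroup p S) {g : G}
    (hgp : (orderOf g).Coprime p)
    (h : ∀ x : normalizerIn S Q, (x : Ω) ∈ Q → g * ι x * g⁻¹ = ι x) : g = 1 := by
  obtain ⟨x, -, rfl⟩ := L.centralizer g fun x hx => mul_inv_eq_iff_eq_mul.mp (h x hx)
  obtain ⟨k, hk⟩ := hS ⟨x, x.2.1⟩
  refine orderOf_eq_one_iff.mp (Nat.eq_one_of_dvd_coprimes (Nat.Coprime.pow_right k hgp) dvd_rfl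
    (orderOf_dvd_of_pow_eq_one ?_))
  rw [← map_pow, show x ^ p ^ k = 1 from Subtype.ext (congrArg Subtype.val hk :), map_one]

/-- A model with a normal `p`-complement gives a `p`-group of automorphisms. -/
theorem Local.isPGroup_autGroup (L : Local F p Q ι) (hS : IsPGroup p S)
    (h : Cfsg.HasNormalPComplement p G) : IsPGroup p (F.autGroup Q) := by
  haveI := L.finite
  have hQp : IsPGroup p ((Q.subgroupOf (normalizerIn S Q)).map ι) :=
    ((hS.to_le (normalizerIn_le Q)).to_subgroup _).map ι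
  have hnop : ∀ g : G, (orderOf g).Coprime p → g = 1 := by
    intro g hg
    have hn := L.normal
    have h1 := Frobenius.mem_centralizer_of_hasNormalPComplement h hQp (g := g)
      (by rw [Subgroup.normalizer_eq_top_iff.mpr hn]; trivial) hg
    exact L.eq_one_of_centralizes hS hg fun x hx => by
      rw [← Subgroup.mem_centralizer_iff.mp h1 (ι x) ⟨x, hx, rfl⟩, mul_inv_cancel_right]
  intro α
  obtain ⟨g, hg⟩ := L.lift α.1 α.2
  obtain ⟨a, b, -, -, hab, -, ⟨k, hk⟩, hbp⟩ :=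
    PResidual.exists_pPart_mul_pPrimePart (p := p) g (isOfFinOrder_of_finite g)
  rw [hnop b hbp, mul_one] at hab
  subst hab
  refine ⟨k, Subtype.ext (MulEquiv.ext fun x => Subtype.ext ?_)⟩
  have hpow : ∀ (n : ℕ) (y : Q), ι ⟨(((α : MulAut Q) ^ n) y : Q), L.le (((α : MulAut Q) ^ n) y).2⟩ =
      a ^ n * ι ⟨y, L.le y.2⟩ * (a ^ n)⁻¹ := by
    intro n
    induction n with
    | zero => intro y; simp
    | succ n ih =>
      intro y
      calc ι ⟨(((α : MulAut Q) ^ (n + 1)) y : Q), L.le (((α : MulAut Q) ^ (n + 1)) y).2⟩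
          = ι ⟨(((α : MulAut Q) ^ n) ((α : MulAut Q) y) : Q),
              L.le (((α : MulAut Q) ^ n) ((α : MulAut Q) y)).2⟩ := by congr 1
        _ = a ^ n * (a * ι ⟨y, L.le y.2⟩ * a⁻¹) * (a ^ n)⁻¹ := by
            rw [ih, hg y (L.le y.2) (L.le ((α : MulAut Q) y).2)]
        _ = a ^ (n + 1) * ι ⟨y, L.le y.2⟩ * (a ^ (n + 1))⁻¹ := by rw [pow_succ]; group
  have h1 := hpow (p ^ k) x
  rw [hk, one_mul, inv_one, mul_one] at h1
  rw [SubmonoidClass.coe_pow]
  have h2 := congrArg Subtype.val (L.injective h1)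
  exact h2

end Cfsg.Agent.Lib.Transfer.FusionLocal
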