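import Mathlib.GroupTheory.Sylow
import Cfsg.Prelude.Def_PLocal
import Cfsg.Agent.Lib.LA5.Replacement

/-!
# The abelian Thompson subgroup inside an ambient group

* `maxAbIn P` : the abelian subgroups of `P` of largest order, as subgroups of the ambient group.
* `thompsonSubgroupAOf_eq`, `map_thompsonSubgroupAOf`, `thompsonSubgroupAOf_eq_of_le`,
  `thompsonSubgroupAOf_ne_bot`, `normalizer_le_normalizer_thompsonAOf`.
* `exists_replacement_in` : Thompson's replacement in ambient form.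
-/

set_option autoImplicit false

namespace Cfsg.Agent.Lib.Transfer.AbelianJ

open Subgroup

variable {G H : Type*} [Group G] [Group H] {P Q : Subgroup G}

theorem isMulCommutative_map (f : G →* H) {A : Subgroup G} (hA : IsMulCommutative A) :
    IsMulCommutative (A.map f) := by
  refine .of_setLike_mul_comm ?_
  rintro _ ⟨x, hx, rfl⟩ _ ⟨y, hy, rfl⟩
  rw [← map_mul, ← map_mul]
  exact congrArg f (congrArg Subtype.val (hA.is_comm.comm (⟨x, hx⟩ : A) ⟨y, hy⟩))

theorem isMulCommutative_comap (f : G →* H) (hf : Function.Injective f) {A : Subgroup H}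
    (hA : IsMulCommutative A) : IsMulCommutative (A.comap f) := by
  refine .of_setLike_mul_comm ?_
  intro x hx y hy
  refine hf ?_
  rw [map_mul, map_mul]
  exact congrArg Subtype.val (hA.is_comm.comm (⟨f x, hx⟩ : A) ⟨f y, hy⟩)

theorem isMulCommutative_mono {A B : Subgroup G} (hB : IsMulCommutative B) (h : A ≤ B) :
    IsMulCommutative A :=
  .of_setLike_mul_comm fun x hx y hy =>
    congrArg Subtype.val (hB.is_comm.comm (⟨x, h hx⟩ : B) ⟨y, h hy⟩)

/-- The abelian subgroups of largest order below `P`, as subgroups of the ambient group. -/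
def maxAbIn (P : Subgroup G) : Set (Subgroup G) :=
  {A | A ≤ P ∧ IsMulCommutative A ∧
    ∀ B : Subgroup G, B ≤ P → IsMulCommutative B → Nat.card B ≤ Nat.card A}

theorem map_mem_maxAbIn (f : G →* H) (hf : Function.Injective f) {A : Subgroup G}
    (hA : A ∈ maxAbIn P) : A.map f ∈ maxAbIn (P.map f) := by
  refine ⟨Subgroup.map_mono hA.1, isMulCommutative_map f hA.2.1, fun B hBP hB => ?_⟩
  have hB' : (B.comap f).map f = B :=
    Subgroup.map_comap_eq_self (hBP.trans (Subgroup.map_le_range f P))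
  have h := hA.2.2 (B.comap f) (fun x hx => ?_) (isMulCommutative_comap f hf hB)
  · rw [← hB', Subgroup.card_map_of_injective hf, Subgroup.card_map_of_injective hf]
    exact h
  · obtain ⟨y, hy, hyx⟩ := hBP hx
    exact hf hyx ▸ hy

theorem maxAbIn_map (f : G →* H) (hf : Function.Injective f) (P : Subgroup G) :
    maxAbIn (P.map f) = (Subgroup.map f) '' maxAbIn P := by
  refine Set.Subset.antisymm (fun A hA => ?_) ?_
  · have hA' : (A.comap f).map f = A :=
      Subgroup.map_comap_eq_self (hA.1.trans (Subgroup.map_le_range f P))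
    refine ⟨A.comap f, ⟨fun x hx => ?_, isMulCommutative_comap f hf hA.2.1, fun B hBP hB => ?_⟩,
      hA'⟩
    · obtain ⟨y, hy, hyx⟩ := hA.1 hx
      exact hf hyx ▸ hy
    · have h := hA.2.2 _ (Subgroup.map_mono hBP) (isMulCommutative_map f hB)
      rw [← hA'] at h
      rwa [Subgroup.card_map_of_injective hf, Subgroup.card_map_of_injective hf] at h
  · rintro _ ⟨A, hA, rfl⟩
    exact map_mem_maxAbIn f hf hA

theorem maxAbIn_eq_image (P : Subgroup G) :
    maxAbIn P = (Subgroup.map P.subtype) '' Cfsg.maxAbelianSubgroups P := by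
  conv_lhs => rw [show P = (⊤ : Subgroup P).map P.subtype by
    rw [← MonoidHom.range_eq_map, P.range_subtype]]
  rw [maxAbIn_map _ P.subtype_injective]
  congr 1
  ext A
  exact ⟨fun h => ⟨h.2.1, fun B hB => h.2.2 B le_top hB⟩,
    fun h => ⟨le_top, h.1, fun B _ hB => h.2 B hB⟩⟩

theorem thompsonSubgroupAOf_eq (P : Subgroup G) :
    Cfsg.thompsonSubgroupAOf P = sSup (maxAbIn P) := by
  rw [maxAbIn_eq_image, sSup_image, Cfsg.thompsonSubgroupAOf, Cfsg.thompsonSubgroupA,
    (Subgroup.gc_map_comap P.subtype).l_sSup]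

theorem maxAbIn_nonempty [Finite G] (P : Subgroup G) : (maxAbIn P).Nonempty := by
  obtain ⟨A, ⟨hAP, hA⟩, hmax⟩ :=
    Set.exists_max_image {A : Subgroup G | A ≤ P ∧ IsMulCommutative A}
      (fun A => Nat.card A) (Set.toFinite _)
      ⟨⊥, bot_le, show IsMulCommutative (⊥ : Subgroup G) from inferInstance⟩
  exact ⟨A, hAP, hA, fun B h1 h2 => hmax B ⟨h1, h2⟩⟩

theorem le_thompsonSubgroupAOf {A : Subgroup G} (hA : A ∈ maxAbIn P) :
    A ≤ Cfsg.thompsonSubgroupAOf P :=
  (thompsonSubgroupAOf_eq P).symm ▸ le_sSup hA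

theorem thompsonSubgroupAOf_le (P : Subgroup G) : Cfsg.thompsonSubgroupAOf P ≤ P :=
  Subgroup.map_subtype_le _

theorem map_thompsonSubgroupAOf (f : G →* H) (hf : Function.Injective f) (P : Subgroup G) :
    (Cfsg.thompsonSubgroupAOf P).map f = Cfsg.thompsonSubgroupAOf (P.map f) := by
  rw [thompsonSubgroupAOf_eq, thompsonSubgroupAOf_eq, maxAbIn_map f hf, sSup_image,
    (Subgroup.gc_map_comap f).l_sSup]

/-- `J(Q) = J(P)` when `J(P) ≤ Q ≤ P`. -/
theorem thompsonSubgroupAOf_eq_of_le [Finite G] (hQP : Q ≤ P)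
    (hJ : Cfsg.thompsonSubgroupAOf P ≤ Q) :
    Cfsg.thompsonSubgroupAOf Q = Cfsg.thompsonSubgroupAOf P := by
  obtain ⟨A, hA⟩ := maxAbIn_nonempty P
  have hAQ := (le_thompsonSubgroupAOf hA).trans hJ
  rw [thompsonSubgroupAOf_eq, thompsonSubgroupAOf_eq]
  refine le_antisymm (sSup_le_sSup ?_) (sSup_le_sSup ?_)
  · rintro B ⟨hBQ, hB, hmax⟩
    exact ⟨hBQ.trans hQP, hB, fun C hC hC' => (hA.2.2 C hC hC').trans (hmax A hAQ hA.2.1)⟩
  · intro B hB
    exact ⟨(le_thompsonSubgroupAOf hB).trans hJ, hB.2.1,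
      fun C hC hC' => hB.2.2 C (hC.trans hQP) hC'⟩

theorem thompsonSubgroupAOf_ne_bot [Finite G] (hne : P ≠ ⊥) :
    Cfsg.thompsonSubgroupAOf P ≠ ⊥ := by
  intro h
  obtain ⟨A, hA⟩ := maxAbIn_nonempty P
  have hAbot : A = ⊥ := le_bot_iff.mp (h ▸ le_thompsonSubgroupAOf hA)
  obtain ⟨⟨x, hx⟩, hx1⟩ := Subgroup.ne_bot_iff_exists_ne_one.mp hne
  have hle := hA.2.2 (Subgroup.zpowers x) (Subgroup.zpowers_le.mpr hx) inferInstance
  rw [hAbot, Subgroup.card_bot] at hle
  refine hx1 (Subtype.ext ?_)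
  have hz : Subgroup.zpowers x = ⊥ :=
    Subgroup.card_eq_one.mp (le_antisymm hle Nat.card_pos)
  exact Subgroup.zpowers_eq_bot.mp hz

/-- Thompson's replacement theorem, ambient form. -/
theorem exists_replacement_in [Finite G] {p : ℕ} [Fact p.Prime] (hP : IsPGroup p P)
    {A D : Subgroup G} (hA : A ∈ maxAbIn P) (hDP : D ≤ P) (hD : IsMulCommutative D)
    (hAD : A ≤ normalizer (D : Set G)) (hn : ¬ D ≤ normalizer (A : Set G)) :
    ∃ A' ∈ maxAbIn P, A' ≤ normalizer (A : Set G) ∧ A' ≤ A ⊔ D ∧ A ⊓ D < A' ⊓ D := by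
  have hinj := P.subtype_injective
  obtain ⟨A₀, hA₀, rfl⟩ := (maxAbIn_eq_image P).subset hA
  let D₀ := D.subgroupOf P
  have hD₀ : D₀.map P.subtype = D := Subgroup.map_subgroupOf_eq_of_le hDP
  obtain ⟨A', hA', h1, h2, h3⟩ := LA5.Replacement.exists_replacement hP hA₀
    (D := D₀) (isMulCommutative_comap P.subtype hinj hD)
    (fun a ha => Subgroup.mem_normalizer_iff.mpr fun x =>
      Subgroup.mem_normalizer_iff.mp (hAD ⟨a, ha, rfl⟩) (x : G))
    (fun h => hn (hD₀ ▸ (Subgroup.map_mono h).trans (Subgroup.le_normalizer_map P.subtype)))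
  refine ⟨A'.map P.subtype, (maxAbIn_eq_image P).superset ⟨A', hA', rfl⟩,
    (Subgroup.map_mono h1).trans (Subgroup.le_normalizer_map P.subtype), ?_, ?_⟩
  · rw [← hD₀, ← Subgroup.map_sup]
    exact Subgroup.map_mono h2
  · rw [← hD₀, ← Subgroup.map_inf _ _ _ hinj, ← Subgroup.map_inf _ _ _ hinj]
    exact (Subgroup.map_lt_map_iff_of_injective hinj).mpr h3

end Cfsg.Agent.Lib.Transfer.AbelianJ
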