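import Cfsg.Prelude.Def_Transfer
import Cfsg.Agent.Lib.Frobenius.QuadraticAbelian
import Cfsg.Agent.Lib.Transfer.PResidual
import Cfsg.Agent.Lib.Transfer.Frobenius
import Cfsg.Agent.Lib.PSolvable.HallHigman
import Cfsg.Agent.Lib.Cores.Basic
import Cfsg.Agent.Lib.PGroups.Thompson
import Cfsg.Agent.Lib.PGroups.ElemAb
import Cfsg.Agent.Lib.Balance.PLayer
import Cfsg.Agent.Lib.Coprime.Conjugacy
import Cfsg.Agent.Lib.Frobenius.PComplement

/-!
# Reduction for Thompson-type normal `p`-complement criteria

For a functor `F.W` on subgroups, a minimal group in which `N(W(P))` and `C(Z(P))` have normal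
`p`-complements and which has none itself has a `Core`: a self-centralising normal `p`-subgroup
`Q`, a normal elementary abelian `U ≤ Z(Q)` with `C(U) = Q`, and an abelian `p'`-group `K` of
`G ⧸ Q` on which the Sylow `p`-subgroup acts faithfully.
-/

set_option autoImplicit false
set_option linter.unusedSectionVars false

namespace Cfsg.Agent.Lib.Transfer.FunctorReduction

open Cfsg.Agent.Lib.Transfer.PResidual Cfsg.Agent.Lib.Frobenius.PComplement
open scoped Pointwise

universe u

variable {p : ℕ} [hp : Fact p.Prime]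

/-- A subgroup functor commuting with injective homomorphisms. -/
structure PFunctor (p : ℕ) where
  W : ∀ {G : Type u} [Group G], Subgroup G → Subgroup G
  le : ∀ {G : Type u} [Group G] (P : Subgroup G), W P ≤ P
  map : ∀ {G H : Type u} [Group G] [Group H] (f : G →* H), Function.Injective f →
    ∀ P : Subgroup G, (W P).map f = W (P.map f)
  ne_bot : ∀ {G : Type u} [Group G] [Finite G] {P : Subgroup G}, IsPGroup p P → P ≠ ⊥ → W P ≠ ⊥

namespace PFunctor

variable (F : PFunctor.{u} p)

/-- The hypothesis of the criterion at a subgroup `P`. -/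
def Hyp {G : Type u} [Group G] (P : Subgroup G) : Prop :=
  Cfsg.HasNormalPComplement p (Subgroup.normalizer (F.W P : Set G)) ∧
    Cfsg.HasNormalPComplement p
      (Subgroup.centralizer ((P ⊓ Subgroup.centralizer (P : Set G) : Subgroup G) : Set G))

variable {G : Type u} [Group G]

theorem normalizer_le (P : Subgroup G) :
    Subgroup.normalizer (P : Set G) ≤ Subgroup.normalizer (F.W P : Set G) := fun g hg =>
  PGroups.mem_normalizer_of_map_conj_eq (by
    rw [F.map _ (MulAut.conj g).injective, PGroups.map_conj_eq_of_mem_normalizer hg])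

theorem map_of_injOn {G' : Type u} [Group G'] (f : G →* G') (P : Subgroup G)
    (hf : Function.Injective (f.comp P.subtype)) : (F.W P).map f = F.W (P.map f) := by
  have h1 : F.W P = (F.W (⊤ : Subgroup P)).map P.subtype := by
    rw [F.map P.subtype P.subtype_injective, ← MonoidHom.range_eq_map, P.range_subtype]
  have h2 : (⊤ : Subgroup P).map (f.comp P.subtype) = P.map f := by
    rw [← Subgroup.map_map, ← MonoidHom.range_eq_map, P.range_subtype]
  rw [h1, Subgroup.map_map, F.map _ hf, h2]

variable [Finite G]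

theorem hyp_of_injective {H : Type u} [Group H] [Finite H] (f : H →* G)
    (hf : Function.Injective f) {S : Subgroup H} (h : F.Hyp (S.map f)) : F.Hyp S := by
  constructor
  · refine hnpc_of_map_le f hf ?_ h.1
    rw [← F.map f hf]
    exact Subgroup.le_normalizer_map f
  · refine hnpc_of_map_le f hf ?_ h.2
    rw [← PGroups.map_inf_centralizer_of_injective f hf]
    exact Subgroup.map_centralizer_le_centralizer_image _ f |>.trans (by rw [Subgroup.coe_map])

theorem hyp_sylow {P : Sylow p G} (h : F.Hyp (P : Subgroup G)) (P' : Sylow p G) :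
    F.Hyp (P' : Subgroup G) := by
  obtain ⟨g, rfl⟩ := MulAction.exists_smul_eq G P P'
  show F.Hyp ((P : Subgroup G).map (MulAut.conj g).toMonoidHom)
  refine F.hyp_of_injective (MulAut.conj g⁻¹).toMonoidHom (MulAut.conj g⁻¹).injective ?_
  rw [Subgroup.map_map,
    show (MulAut.conj g⁻¹).toMonoidHom.comp (MulAut.conj g).toMonoidHom = MonoidHom.id G from by
      ext x; simp [mul_assoc], Subgroup.map_id]
  exact h

end PFunctor

/-- What a minimal counterexample looks like. -/
structure Core (F : PFunctor.{u} p) {G : Type u} [Group G] [Finite G] (P : Sylow p G)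
    (Q : Subgroup G) [Q.Normal] (U : Subgroup G) (K : Subgroup (G ⧸ Q)) : Prop where
  not_normal : ∀ Q' : Subgroup G, Q'.Normal → F.W Q' = F.W (P : Subgroup G) → False
  isPGroup : IsPGroup p Q
  le_sylow : Q ≤ (P : Subgroup G)
  centralizer_le : Subgroup.centralizer (Q : Set G) ≤ Q
  normal_U : U.Normal
  U_le : U ≤ Q
  comm_U : ∀ x ∈ U, ∀ y ∈ U, x * y = y * x
  exp_U : ∀ x ∈ U, x ^ p = 1
  centralizer_U : Subgroup.centralizer (U : Set G) = Q
  normal_K : K.Normal
  K_ne_bot : K ≠ ⊥
  comm_K : ∀ x ∈ K, ∀ y ∈ K, x * y = y * x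
  coprime_K : ¬ p ∣ Nat.card K
  faithful : ∀ a ∈ (P : Subgroup G).map (QuotientGroup.mk' Q),
    (∀ x ∈ K, Commute a x) → a = 1

/-- The local step: a group with no normal `p`-complement all of whose relevant proper subgroups
have one has a nontrivial normal `p`-subgroup. -/
theorem exists_pCore_ne_bot {G : Type u} [Group G] [Finite G] (F : PFunctor.{u} p) (hG : ¬ Cfsg.HasNormalPComplement p G) (P₀ : Sylow p G)
    (hP₀ : F.Hyp (P₀ : Subgroup G))
    (hind : ∀ H : Subgroup G, H ≠ ⊤ → ∀ S : Sylow p H, F.Hyp (S : Subgroup H) →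
      Cfsg.HasNormalPComplement p H) :
    Cfsg.pCore p G ≠ ⊥ := by
  classical
  let bad : Set (Subgroup G) := {U | IsPGroup p U ∧ U ≠ ⊥ ∧
    ¬ Cfsg.HasNormalPComplement p (Subgroup.normalizer (U : Set G))}
  have hne : bad.Nonempty := by
    by_contra h
    apply hG
    refine Transfer.Frobenius.hasNormalPComplement_of_forall_centralizes fun Q hQ hQ1 g hg hgp => ?_
    have hN : Cfsg.HasNormalPComplement p (Subgroup.normalizer (Q : Set G)) :=
      by_contra fun hc => h ⟨Q, hQ, hQ1, hc⟩
    have h1 := Transfer.Frobenius.mem_centralizer_of_hasNormalPComplement hN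
      (Q := Q.subgroupOf (Subgroup.normalizer (Q : Set G))) hQ.comap_subtype (g := ⟨g, hg⟩)
      (Subgroup.mem_normalizer_iff.mpr fun x => Subgroup.mem_normalizer_iff.mp hg x)
      (by rwa [Subgroup.orderOf_mk])
    exact Subgroup.mem_centralizer_iff.mpr fun x hx => congrArg Subtype.val
      (Subgroup.mem_centralizer_iff.mp h1 ⟨x, Subgroup.le_normalizer hx⟩ hx)
  obtain ⟨U, ⟨hU, hU1, hUbad⟩, hmax⟩ := Set.exists_max_image bad
    (fun U => (Nat.card (Subgroup.normalizer (U : Set G))).factorization p) (Set.toFinite _) hne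
  let H := Subgroup.normalizer (U : Set G)
  by_cases hH : H = ⊤
  · have : U.Normal := Subgroup.normalizer_eq_top_iff.mp hH
    exact fun h => hU1 (le_bot_iff.mp (h ▸ Cores.le_pCore hU))
  exfalso
  obtain ⟨S⟩ : Nonempty (Sylow p H) := inferInstance
  let S' : Subgroup G := (S : Subgroup H).map H.subtype
  have hS' : IsPGroup p S' := S.2.map _
  obtain ⟨P, hSP⟩ := hS'.exists_le_sylow
  have hP : F.Hyp (P : Subgroup G) := F.hyp_sylow hP₀ P
  have hS'H : S' ≤ H := Subgroup.map_subtype_le _
  have hUS : U ≤ S' := by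
    have : (U.comap H.subtype).Normal := Subgroup.normal_in_normalizer
    intro x hx
    exact ⟨⟨x, Subgroup.le_normalizer hx⟩,
      hU.comap_subtype.le_sylow_of_normal S (hx : (⟨x, Subgroup.le_normalizer hx⟩ : H) ∈ U.subgroupOf H),
      rfl⟩
  have hmaxS : ∀ z ∈ (P : Subgroup G), z ∈ H → z ∈ S' := by
    intro z hz hzH
    have hle : (S : Subgroup H) ≤ (P : Subgroup G).subgroupOf H := fun x hx => hSP ⟨x, hx, rfl⟩
    exact ⟨⟨z, hzH⟩, (S.3 P.2.comap_subtype hle).le hz, rfl⟩
  have hZ : (P : Subgroup G) ⊓ Subgroup.centralizer ((P : Subgroup G) : Set G) ≤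
      S' ⊓ Subgroup.centralizer (S' : Set G) := by
    rintro z ⟨hzP, hzC⟩
    have hzS : z ∈ Subgroup.centralizer (S' : Set G) := Subgroup.centralizer_le hSP hzC
    refine ⟨hmaxS z hzP ?_, hzS⟩
    refine Subgroup.mem_normalizer_iff.mpr fun x => ?_
    have hzi : z⁻¹ ∈ Subgroup.centralizer (S' : Set G) := Subgroup.inv_mem _ hzS
    constructor
    · intro hx
      rwa [← Subgroup.mem_centralizer_iff.mp hzS x (hUS hx), mul_inv_cancel_right]
    · intro hx
      have h2 : z * x * z⁻¹ * z⁻¹ = z⁻¹ * (z * x * z⁻¹) :=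
        Subgroup.mem_centralizer_iff.mp hzi _ (hUS hx)
      have : x = z * x * z⁻¹ := by
        calc x = z⁻¹ * (z * x * z⁻¹) * z := by group
          _ = z * x * z⁻¹ * z⁻¹ * z := by rw [h2]
          _ = _ := by group
      rwa [this]
  have hC : Cfsg.HasNormalPComplement p
      (Subgroup.centralizer ((S' ⊓ Subgroup.centralizer (S' : Set G) : Subgroup G) : Set G)) :=
    hnpc_of_le (Subgroup.centralizer_le hZ) hP.2
  apply hUbad
  refine hind H hH S (F.hyp_of_injective H.subtype H.subtype_injective ⟨?_, hC⟩)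
  change Cfsg.HasNormalPComplement p (Subgroup.normalizer (F.W S' : Set G))
  by_cases hSeq : S' = (P : Subgroup G)
  · rw [hSeq]; exact hP.1
  by_contra hbadJ
  have hS1 : S' ≠ ⊥ := fun h => hU1 (le_bot_iff.mp (h ▸ hUS))
  have hJp : IsPGroup p (F.W S') :=
    hS'.to_le (F.le S')
  have hle := hmax (F.W S')
    ⟨hJp, F.ne_bot hS' hS1, hbadJ⟩
  -- but the normalizer of `S'` in `P` is larger than `S'`
  let T := (P : Subgroup G) ⊓ Subgroup.normalizer (S' : Set G)
  have hT : IsPGroup p T := P.2.to_le inf_le_left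
  have hlt : S' < T := by
    refine lt_of_le_of_ne (le_inf hSP Subgroup.le_normalizer) fun he => ?_
    have hnc := Group.normalizerCondition_of_isNilpotent (h := P.2.isNilpotent)
    have hne : S'.subgroupOf (P : Subgroup G) ≠ ⊤ := fun h =>
      hSeq (le_antisymm hSP (Subgroup.subgroupOf_eq_top.mp h))
    obtain ⟨x, hx, hxn⟩ := SetLike.exists_of_lt (hnc _ (lt_top_iff_ne_top.mpr hne))
    refine hxn ?_
    change (x : G) ∈ S'
    have hxT : (x : G) ∈ T := by
      refine ⟨x.2, Subgroup.mem_normalizer_iff.mpr fun y => ?_⟩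
      constructor
      · intro hy
        exact (Subgroup.mem_normalizer_iff.mp hx ⟨y, hSP hy⟩).mp hy
      · intro hy
        have hyP : y ∈ (P : Subgroup G) := by
          have := (P : Subgroup G).mul_mem ((P : Subgroup G).mul_mem
            ((P : Subgroup G).inv_mem x.2) (hSP hy)) x.2
          simpa [mul_assoc] using this
        exact (Subgroup.mem_normalizer_iff.mp hx ⟨y, hyP⟩).mpr hy
    rwa [← he] at hxT
  have hTJ : T ≤ Subgroup.normalizer (F.W S' : Set G) :=
    inf_le_right.trans (F.normalizer_le S')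
  obtain ⟨k, hk⟩ := IsPGroup.iff_card.mp hT
  obtain ⟨j, hj⟩ := IsPGroup.iff_card.mp hS'
  have hjk : j < k := by
    have : Nat.card S' < Nat.card T := lt_of_le_of_ne (Subgroup.card_le_of_le hlt.le)
      fun h => hlt.ne (Subgroup.eq_of_le_of_card_ge hlt.le h.ge)
    rw [hj, hk] at this
    exact (Nat.pow_lt_pow_iff_right hp.out.one_lt).mp this
  have hk' := (hp.out.pow_dvd_iff_le_factorization Nat.card_pos.ne').mp
    (hk ▸ Subgroup.card_dvd_of_le hTJ)
  have hj' : j = (Nat.card H).factorization p := by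
    have h1 := S.card_eq_multiplicity
    have h2 : Nat.card S' = Nat.card (S : Subgroup H) := Subgroup.card_subtype _ _
    rw [hj, h1] at h2
    exact Nat.pow_right_injective hp.out.two_le h2
  have hle' : (Nat.card (Subgroup.normalizer (F.W S' : Set G))).factorization p
      ≤ (Nat.card H).factorization p := hle
  omega


/-- The inductive step: everything below `G` is done. -/
theorem exists_core {G : Type u} [Group G] [Finite G] (F : PFunctor.{u} p) (hG : ¬ Cfsg.HasNormalPComplement p G) (P : Sylow p G)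
    (hP : F.Hyp (P : Subgroup G))
    (hsub : ∀ H : Subgroup G, H ≠ ⊤ → ∀ S : Sylow p H, F.Hyp (S : Subgroup H) →
      Cfsg.HasNormalPComplement p H)
    (hquot : ∀ (N : Subgroup G) [N.Normal], N ≠ ⊥ → ∀ S : Sylow p (G ⧸ N),
      F.Hyp (S : Subgroup (G ⧸ N)) → Cfsg.HasNormalPComplement p (G ⧸ N)) :
    ∃ (Q : Subgroup G) (_ : Q.Normal) (U : Subgroup G) (K : Subgroup (G ⧸ Q)),
      Core F P Q U K := by
  classical
  -- no normal `p'`-subgroup
  have hO' : Cfsg.pPrimeCore p G = ⊥ := by
    by_contra hne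
    apply hG
    let M := Cfsg.pPrimeCore p G
    let f := QuotientGroup.mk' M
    have hM : ¬ p ∣ Nat.card M := Cores.not_dvd_card_pPrimeCore p
    refine hasNormalPComplement_of_quotient_pPrime hM
      (hquot M hne (P.mapSurjective (QuotientGroup.mk'_surjective M)) ?_)
    have hinj : Function.Injective (f.comp (P : Subgroup G).subtype) := by
      rw [← MonoidHom.ker_eq_bot_iff, Subgroup.eq_bot_iff_forall]
      intro x hx
      exact Subtype.ext (Subgroup.disjoint_def.mp (disjoint_of_not_dvd hM P.2)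
        ((QuotientGroup.eq_one_iff (x : G)).mp hx) x.2)
    have hkerM : ¬ p ∣ Nat.card f.ker := by rwa [QuotientGroup.ker_mk']
    have hJp : IsPGroup p (F.W (P : Subgroup G)) :=
      P.2.to_le (F.le _)
    rw [Sylow.coe_mapSurjective]
    constructor
    · refine hnpc_map f (le_of_eq ?_) hP.1
      rw [Balance.map_normalizer_eq (QuotientGroup.mk'_surjective M) hkerM hJp,
        F.map_of_injOn f _ hinj]
    · refine hnpc_map f ?_ hP.2
      rw [← map_center_of_injOn f _ hinj]
      exact PSolvable.centralizer_map_le_map_centralizer M _ (Cores.pPrimeCore_coprime p)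
        (P.2.to_le inf_le_left)
  let Q := Cfsg.pCore p G
  have hQ1 : Q ≠ ⊥ := exists_pCore_ne_bot F hG P hP hsub
  have hQp : IsPGroup p Q := Cores.pCore_isPGroup p
  have hQP : Q ≤ (P : Subgroup G) := Cores.pCore_le_sylow P
  have hJtop : ∀ Q' : Subgroup G, Q'.Normal →
      F.W Q' = F.W (P : Subgroup G) → False := by
    intro Q' hQ' hJ
    refine hG (hnpc_of_top_le ?_ hP.1)
    rw [← hJ]
    refine le_trans ?_ (F.normalizer_le Q')
    rw [Subgroup.normalizer_eq_top_iff.mpr hQ']
  have hQne : Q ≠ (P : Subgroup G) := fun h => hJtop Q inferInstance (by rw [h])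
  let f := QuotientGroup.mk' Q
  have hfs : Function.Surjective f := QuotientGroup.mk'_surjective Q
  let Pb : Sylow p (G ⧸ Q) := P.mapSurjective hfs
  have hPbne : (Pb : Subgroup (G ⧸ Q)) ≠ ⊥ := by
    rw [Sylow.coe_mapSurjective, Ne, Subgroup.map_eq_bot_iff, QuotientGroup.ker_mk']
    exact fun h => hQne (le_antisymm hQP h)
  have hcore : Cfsg.pCore p (G ⧸ Q) = ⊥ := Cores.pCore_quotient_pCore p
  -- proper overgroups of `P`
  have hover : ∀ L : Subgroup G, (P : Subgroup G) ≤ L → L ≠ ⊤ → Cfsg.HasNormalPComplement p L := by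
    intro L hPL hL
    refine hsub L hL (P.subtype hPL) (F.hyp_of_injective L.subtype L.subtype_injective ?_)
    rw [Sylow.coe_subtype, Subgroup.subgroupOf_map_subtype, inf_eq_left.mpr hPL]
    exact hP
  have hPbK : ∀ K : Subgroup (G ⧸ Q), (Pb : Subgroup (G ⧸ Q)) ≤ K → K ≠ ⊤ →
      Cfsg.HasNormalPComplement p K := by
    intro K hK hK1
    refine hnpc_map f (A := K.comap f) (by rw [Subgroup.map_comap_eq_self_of_surjective hfs])
      (hover _ ?_ ?_)
    · exact fun x hx => hK (Subgroup.mem_map_of_mem f hx)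
    · intro h
      apply hK1
      rw [← Subgroup.map_comap_eq_self_of_surjective hfs K, h, Subgroup.map_top_of_surjective f hfs]
  have hGb : Cfsg.HasNormalPComplement p (G ⧸ Q) := by
    refine hquot Q hQ1 Pb ⟨hPbK _ ?_ ?_, hPbK _ ?_ ?_⟩
    · exact Subgroup.le_normalizer.trans (F.normalizer_le _)
    · intro h
      have := Subgroup.normalizer_eq_top_iff.mp h
      refine F.ne_bot Pb.2 hPbne (le_bot_iff.mp (hcore ▸ Cores.le_pCore ?_))
      exact Pb.2.to_le (F.le _)
    · intro x hx
      exact Subgroup.mem_centralizer_iff.mpr fun z hz =>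
        (Subgroup.mem_centralizer_iff.mp hz.2 x hx).symm
    · intro h
      have hn : ((Pb : Subgroup (G ⧸ Q)) ⊓
          Subgroup.centralizer ((Pb : Subgroup (G ⧸ Q)) : Set (G ⧸ Q))).Normal := by
        refine ⟨fun z hz g => ?_⟩
        have : g ∈ Subgroup.centralizer (((Pb : Subgroup (G ⧸ Q)) ⊓
            Subgroup.centralizer ((Pb : Subgroup (G ⧸ Q)) : Set (G ⧸ Q)) : Subgroup (G ⧸ Q)) :
              Set (G ⧸ Q)) := h.ge (Subgroup.mem_top g)
        rwa [← Subgroup.mem_centralizer_iff.mp this z hz, mul_inv_cancel_right]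
      exact inf_centralizer_ne_bot Pb.2 hPbne
        (le_bot_iff.mp (hcore ▸ Cores.le_pCore (Pb.2.to_le inf_le_left)))
  let K := pResidual p (G ⧸ Q)
  have hKp : ¬ p ∣ Nat.card K := hasNormalPComplement_iff_not_dvd.mp hGb
  have hsol : Cfsg.IsPSolvable p G :=
    PSolvable.isPSolvable_of_extension Q (PSolvable.isPSolvable_of_isPGroup hQp)
      (PSolvable.isPSolvable_of_extension K
        (PSolvable.isPSolvable_of_coprime (hp.out.coprime_iff_not_dvd.mpr hKp).symm)
        (PSolvable.isPSolvable_of_isPGroup isPGroup_quotient))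
  have hCQ : Subgroup.centralizer (Q : Set G) ≤ Q := PSolvable.centralizer_pCore_le hsol hO'
  have hKPtop : K ⊔ (Pb : Subgroup (G ⧸ Q)) = ⊤ := sup_sylow_eq_top Pb
  -- invariant subgroups of `K` are trivial or everything
  have hY : ∀ Y : Subgroup (G ⧸ Q), Y ≤ K →
      (Pb : Subgroup (G ⧸ Q)) ≤ Subgroup.normalizer (Y : Set (G ⧸ Q)) → Y = ⊥ ∨ Y = K := by
    intro Y hYK hPY
    have hYp : ¬ p ∣ Nat.card Y := fun h => hKp (h.trans (Subgroup.card_dvd_of_le hYK))
    by_cases hL : (Pb : Subgroup (G ⧸ Q)) ⊔ Y = ⊤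
    · right
      refine Subgroup.eq_of_le_of_card_ge hYK (le_of_eq ?_)
      have h1 := Lib.Coprime.card_sup_of_disjoint hPY (disjoint_of_not_dvd hYp Pb.2).symm
      rw [hL, Subgroup.card_top, ← (isComplement'_pResidual hGb Pb).card_mul_card, mul_comm] at h1
      exact Nat.eq_of_mul_eq_mul_left Nat.card_pos h1
    left
    let L := ((Pb : Subgroup (G ⧸ Q)) ⊔ Y).comap f
    have hPL : (P : Subgroup G) ≤ L := fun x hx =>
      le_sup_left (b := Y) (Subgroup.mem_map_of_mem f hx : f x ∈ (Pb : Subgroup (G ⧸ Q)))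
    have hLne : L ≠ ⊤ := by
      intro h
      apply hL
      rw [← Subgroup.map_comap_eq_self_of_surjective hfs ((Pb : Subgroup (G ⧸ Q)) ⊔ Y)]
      change L.map f = ⊤
      rw [h, Subgroup.map_top_of_surjective f hfs]
    have hLc := hover L hPL hLne
    -- its complement centralises `Q`
    have hres : ∀ x : G, x ∈ L → (orderOf x).Coprime p → x = 1 := by
      intro x hx hxp
      have hxC : x ∈ Subgroup.centralizer (Q : Set G) := by
        have h1 := Transfer.Frobenius.mem_centralizer_of_hasNormalPComplement hLc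
          (Q := Q.subgroupOf L) hQp.comap_subtype (g := ⟨x, hx⟩)
          (Subgroup.mem_normalizer_iff.mpr fun y => by
            refine ⟨fun hy => Subgroup.Normal.conj_mem (inferInstance : Q.Normal) (y : G) hy x, fun hy => ?_⟩
            have h2 : x⁻¹ * (x * y * x⁻¹) * x⁻¹⁻¹ ∈ Q :=
              Subgroup.Normal.conj_mem (inferInstance : Q.Normal) _ hy x⁻¹
            simpa [mul_assoc, Subgroup.mem_subgroupOf] using h2)
          (by rwa [Subgroup.orderOf_mk])
        refine Subgroup.mem_centralizer_iff.mpr fun y hy => congrArg Subtype.val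
          (Subgroup.mem_centralizer_iff.mp h1 ⟨y, hPL (hQP hy)⟩ hy)
      exact congrArg Subtype.val
        (eq_one_of_pGroup_of_coprime hQp (a := (⟨x, hCQ hxC⟩ : Q)) (by rwa [Subgroup.orderOf_mk]))
    have hLp : IsPGroup p L := by
      rw [IsPGroup.iff_orderOf]
      intro x
      obtain ⟨a, b, ha, hb, hab, -, ⟨k, hk⟩, hbp⟩ :=
        exists_pPart_mul_pPrimePart (p := p) x (isOfFinOrder_of_finite x)
      have hb1 : (b : G) = 1 := hres b b.2 (by rwa [Subgroup.orderOf_coe])
      rw [show b = 1 from Subtype.ext hb1, mul_one] at hab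
      subst hab
      obtain ⟨i, -, hi⟩ := (Nat.dvd_prime_pow hp.out).mp (orderOf_dvd_of_pow_eq_one hk)
      exact ⟨i, hi⟩
    have hYP : IsPGroup p Y := by
      refine (hLp.map f).to_le ?_
      change Y ≤ L.map f
      rw [Subgroup.map_comap_eq_self_of_surjective hfs]
      exact le_sup_right
    obtain ⟨k, hk⟩ := IsPGroup.iff_card.mp hYP
    rw [← Subgroup.card_eq_one, hk]
    rcases Nat.eq_zero_or_pos k with h0 | h0
    · rw [h0, pow_zero]
    · exact absurd (hk ▸ dvd_pow_self p h0.ne') hYp
  have hKne : K ≠ ⊥ := by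
    intro h
    rw [h, bot_sup_eq] at hKPtop
    have hpg : IsPGroup p (G ⧸ Q) := by
      rw [← Cores.pCore_eq_top_iff]
      exact top_le_iff.mp (hKPtop ▸ Cores.le_pCore (hN := by rw [hKPtop]; infer_instance) Pb.2)
    rw [← Cores.pCore_eq_top_iff, hcore] at hpg
    exact hPbne (le_bot_iff.mp (hpg ▸ le_top))
  -- `K` is a `q`-group
  obtain ⟨q, hq, hqd⟩ := Nat.exists_prime_and_dvd (fun h => hKne (Subgroup.card_eq_one.mp h))
  have := Fact.mk hq
  obtain ⟨W⟩ : Nonempty (Sylow q K) := inferInstance
  let W' : Subgroup (G ⧸ Q) := (W : Subgroup K).map K.subtype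
  have hWN : Subgroup.normalizer (W' : Set (G ⧸ Q)) ⊔ K = ⊤ := Sylow.normalizer_sup_eq_top W
  have hidx : ¬ p ∣ (Subgroup.normalizer (W' : Set (G ⧸ Q))).index := by
    intro h
    apply hKp
    refine h.trans ⟨Nat.card (K ⊓ Subgroup.normalizer (W' : Set (G ⧸ Q)) : Subgroup (G ⧸ Q)), ?_⟩
    let N := Subgroup.normalizer (W' : Set (G ⧸ Q))
    have h1 := Subgroup.relIndex_mul_relIndex (⊥ : Subgroup (G ⧸ Q)) (K ⊓ N) N bot_le inf_le_right
    rw [Subgroup.relIndex_bot_left, Subgroup.relIndex_bot_left, Subgroup.inf_relIndex_right] at h1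
    have h2 : K.relIndex N = K.index := by
      rw [← Subgroup.relIndex_top_right K, ← hWN, Subgroup.relIndex_sup_right]
    have h3 := N.index_mul_card
    have h4 := K.index_mul_card
    rw [h2] at h1
    rw [← h1] at h3
    refine Nat.eq_of_mul_eq_mul_left (Nat.pos_of_ne_zero (K.index_ne_zero_of_finite)) ?_
    rw [h4, ← h3]
    ring
  obtain ⟨S⟩ : Nonempty (Sylow p (Subgroup.normalizer (W' : Set (G ⧸ Q)))) := inferInstance
  have hSp : IsPGroup p ((S : Subgroup _).map (Subgroup.normalizer (W' : Set (G ⧸ Q))).subtype) :=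
    S.2.map _
  have hSidx : ¬ p ∣ ((S : Subgroup _).map
      (Subgroup.normalizer (W' : Set (G ⧸ Q))).subtype).index := by
    rw [Subgroup.index_map_subtype, hp.out.dvd_mul]
    exact not_or_intro S.not_dvd_index hidx
  obtain ⟨g, hg⟩ := MulAction.exists_smul_eq (G ⧸ Q) (hSp.toSylow hSidx) Pb
  let W'' : Subgroup (G ⧸ Q) := W'.map (MulAut.conj g).toMonoidHom
  have hW'' : W'' ≤ K := by
    rintro _ ⟨w, hw, rfl⟩
    exact Subgroup.Normal.conj_mem inferInstance w (Subgroup.map_subtype_le _ hw) g
  have hPW : (Pb : Subgroup (G ⧸ Q)) ≤ Subgroup.normalizer (W'' : Set (G ⧸ Q)) := by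
    rw [← hg]
    exact (Subgroup.map_mono (Subgroup.map_subtype_le _)).trans (Subgroup.le_normalizer_map _)
  have hWq : IsPGroup q W'' := (W.2.map _).map _
  have hKq : IsPGroup q K := by
    rcases hY W'' hW'' hPW with h | h
    · exfalso
      have hc : Nat.card W'' = Nat.card (W : Subgroup K) := by
        rw [Subgroup.card_map_of_injective (MulAut.conj g).injective, Subgroup.card_subtype]
      rw [h, Subgroup.card_bot] at hc
      exact W.not_dvd_index (by
        have := (W : Subgroup K).index_mul_card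
        rw [← hc, mul_one] at this
        rw [this]; exact hqd)
    · exact h ▸ hWq
  have hKc : ∀ x ∈ K, ∀ y ∈ K, x * y = y * x := by
    have := hKq.isNilpotent
    have : Group.IsSolvable K := inferInstance
    rcases hY ⁅K, K⁆ (Subgroup.commutator_le_self K)
        (by rw [Subgroup.normalizer_eq_top_iff.mpr inferInstance]; exact le_top) with h | h
    · exact fun x hx y hy => commutatorElement_eq_one_iff_mul_comm.mp
        (Subgroup.mem_bot.mp (h ▸ Subgroup.commutator_mem_commutator hx hy))
    · exfalso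
      have : Group.IsPerfect K := Subgroup.isPerfect_iff.mpr h
      have : Nontrivial K := (Subgroup.nontrivial_iff_ne_bot K).mpr hKne
      exact Group.IsPerfect.not_isSolvable K inferInstance
  have hPbfaith : ∀ a ∈ (Pb : Subgroup (G ⧸ Q)), (∀ x ∈ K, Commute a x) → a = 1 := by
    intro a ha hax
    let D := (Pb : Subgroup (G ⧸ Q)) ⊓ Subgroup.centralizer (K : Set (G ⧸ Q))
    have hD : D.Normal := by
      rw [← Subgroup.normalizer_eq_top_iff, eq_top_iff, ← hKPtop]
      refine sup_le (fun k hk => Subgroup.mem_normalizer_iff.mpr fun d => ?_) ?_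
      · constructor
        · intro hd
          have : k * d * k⁻¹ = d := by
            rw [Subgroup.mem_centralizer_iff.mp hd.2 k hk, mul_inv_cancel_right]
          rwa [this]
        · intro hd
          have h1 := Subgroup.mem_centralizer_iff.mp hd.2 k hk
          have : d = k * d * k⁻¹ := by
            calc d = k⁻¹ * (k * d * k⁻¹ * k) := by group
              _ = k⁻¹ * (k * (k * d * k⁻¹)) := by rw [h1]
              _ = _ := by group
          rwa [this]
      · refine le_trans (le_inf Subgroup.le_normalizer ?_) Subgroup.inf_normalizer_le_normalizer_inf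
        rw [Subgroup.normalizer_eq_top_iff.mpr inferInstance]
        exact le_top
    have hm : a ∈ D := ⟨ha, Subgroup.mem_centralizer_iff.mpr fun x hx => (hax x hx).eq.symm⟩
    exact Subgroup.mem_bot.mp (hcore ▸ Cores.le_pCore (hN := hD) (Pb.2.to_le inf_le_left) hm)
  -- `Ω₁` of the centre of `Q`
  have hZc : ∀ x ∈ Subgroup.centralizer (Q : Set G), ∀ y ∈ Subgroup.centralizer (Q : Set G),
      x * y = y * x := fun x hx y hy => Subgroup.mem_centralizer_iff.mp hy x (hCQ hx)
  let Ω : Subgroup G :=
    { carrier := {x | x ∈ Subgroup.centralizer (Q : Set G) ∧ x ^ p = 1}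
      mul_mem' := fun {x y} hx hy => ⟨mul_mem hx.1 hy.1, by
        rw [Commute.mul_pow (hZc x hx.1 y hy.1), hx.2, hy.2, one_mul]⟩
      one_mem' := ⟨one_mem _, one_pow p⟩
      inv_mem' := fun {x} hx => ⟨inv_mem hx.1, by rw [inv_pow, hx.2, inv_one]⟩ }
  have hΩn : Ω.Normal := ⟨fun x hx g => ⟨Subgroup.Normal.conj_mem inferInstance x hx.1 g,
    by rw [conj_pow, hx.2]; group⟩⟩
  have hΩc : IsMulCommutative Ω := ⟨⟨fun x y => Subtype.ext (hZc x x.2.1 y y.2.1)⟩⟩
  have hQker : Q ≤ Subgroup.centralizer (Ω : Set G) := fun x hx =>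
    Subgroup.mem_centralizer_iff.mpr fun w hw => (Subgroup.mem_centralizer_iff.mp hw.1 x hx).symm
  -- `K` acts faithfully on it
  have hKf : (Subgroup.centralizer (Ω : Set G)).map f ⊓ K = ⊥ := by
    rcases hY ((Subgroup.centralizer (Ω : Set G)).map f ⊓ K) inf_le_right (by
      have : ((Subgroup.centralizer (Ω : Set G)).map f).Normal :=
        (inferInstance : (Subgroup.centralizer (Ω : Set G)).Normal).map f hfs
      have h2 : ((Subgroup.centralizer (Ω : Set G)).map f ⊓ K).Normal := inferInstance
      rw [Subgroup.normalizer_eq_top_iff.mpr h2]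
      exact le_top) with h | h
    · exact h
    exfalso
    apply hG
    refine hnpc_of_top_le ?_ hP.2
    rw [← sup_sylow_eq_top (p := p) P]
    refine sup_le (pResidual_le_iff.mpr fun g hg => Subgroup.mem_centralizer_iff.mpr ?_) ?_
    · rintro z ⟨hzP, hzC⟩
      have hgΩ : g ∈ Subgroup.centralizer (Ω : Set G) := by
        have hgK : f g ∈ K := mem_pResidual (hg.coprime_dvd_left (orderOf_map_dvd f g))
        rw [← h] at hgK
        obtain ⟨c, hc, hcg⟩ := hgK.1
        have : c⁻¹ * g ∈ Q := (QuotientGroup.eq).mp hcg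
        simpa using mul_mem hc (hQker this)
      have hfix := centralizes_of_fixes_omega (V := Subgroup.centralizer (Q : Set G))
        (hQp.to_le hCQ) hZc hg (fun x hx => Subgroup.Normal.conj_mem inferInstance x hx g)
        (fun x hx hxp => by
          rw [← Subgroup.mem_centralizer_iff.mp hgΩ x ⟨hx, hxp⟩, mul_inv_cancel_right]) z
        (Subgroup.centralizer_le hQP hzC)
      exact (mul_inv_eq_iff_eq_mul.mp hfix).symm
    · intro x hx
      exact Subgroup.mem_centralizer_iff.mpr fun z hz =>
        (Subgroup.mem_centralizer_iff.mp hz.2 x hx).symm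
  have hCU : Subgroup.centralizer (Ω : Set G) = Q := by
    refine le_antisymm ?_ hQker
    let N' := (Subgroup.centralizer (Ω : Set G)).map f
    have hN' : N'.Normal := (inferInstance : (Subgroup.centralizer (Ω : Set G)).Normal).map f hfs
    have hN'p : IsPGroup p N' := by
      refine isPGroup_quotient.of_injective
        ((QuotientGroup.mk' (pResidual p (G ⧸ Q))).comp N'.subtype) ?_
      rw [← MonoidHom.ker_eq_bot_iff, Subgroup.eq_bot_iff_forall]
      intro x hx
      exact Subtype.ext (Subgroup.mem_bot.mp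
        (hKf ▸ ⟨x.2, (QuotientGroup.eq_one_iff _).mp hx⟩))
    have hN'bot : N' = ⊥ := le_bot_iff.mp (hcore ▸ Cores.le_pCore hN'p)
    exact fun x hx => (QuotientGroup.eq_one_iff x).mp
      (Subgroup.mem_bot.mp (hN'bot ▸ Subgroup.mem_map_of_mem f hx : f x ∈ (⊥ : Subgroup (G ⧸ Q))))
  exact ⟨Q, inferInstance, Ω, K,
    { not_normal := hJtop
      isPGroup := hQp
      le_sylow := hQP
      centralizer_le := hCQ
      normal_U := hΩn
      U_le := fun w hw => hCQ hw.1
      comm_U := fun x hx y hy => hZc x hx.1 y hy.1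
      exp_U := fun w hw => hw.2
      centralizer_U := hCU
      normal_K := inferInstance
      K_ne_bot := hKne
      comm_K := hKc
      coprime_K := hKp
      faithful := hPbfaith }⟩

/-- Induction: a class `Good` closed under subgroups and quotients, without a `Core`. -/
theorem hasNormalPComplement_of_no_core (F : PFunctor.{u} p)
    (Good : ∀ (G : Type u) [Group G], Prop)
    (hGsub : ∀ (G : Type u) [Group G] (H : Subgroup G), Good G → Good H)
    (hGquot : ∀ (G : Type u) [Group G] (N : Subgroup G) [N.Normal], Good G → Good (G ⧸ N))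
    (hfinal : ∀ (G : Type u) [Group G] [Finite G] (P : Sylow p G) (Q : Subgroup G) [Q.Normal]
      (U : Subgroup G) (K : Subgroup (G ⧸ Q)), Good G → Core F P Q U K → False) :
    ∀ {G : Type u} [Group G] [Finite G], Good G → ∀ P : Sylow p G, F.Hyp (P : Subgroup G) →
      Cfsg.HasNormalPComplement p G := by
  suffices ∀ (n : ℕ) (G : Type u) [Group G] [Finite G], Nat.card G ≤ n → Good G →
      ∀ P : Sylow p G, F.Hyp (P : Subgroup G) → Cfsg.HasNormalPComplement p G from
    fun {G} _ _ hg P hP => this _ G le_rfl hg P hP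
  intro n
  induction n with
  | zero => intro G _ _ h; exact absurd h (not_le.mpr Nat.card_pos)
  | succ n ih =>
    intro G _ _ hn hg P hP
    by_contra hG
    obtain ⟨Q, hQ, U, K, hcore⟩ := exists_core F hG P hP
      (fun H hH => ih H (by
        have hlt : Nat.card H < Nat.card G := lt_of_le_of_ne (Subgroup.card_le_card_group H)
          fun h => hH (Subgroup.eq_top_of_card_eq H h)
        omega) (hGsub G H hg))
      (fun N _ hN => ih (G ⧸ N) (by
        have h1 := Subgroup.card_eq_card_quotient_mul_card_subgroup N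
        have h2 : 2 ≤ Nat.card N := (Subgroup.one_lt_card_iff_ne_bot N).mpr hN
        have h3 : Nat.card (G ⧸ N) * 2 ≤ Nat.card G := h1 ▸ Nat.mul_le_mul_left _ h2
        have : 0 < Nat.card (G ⧸ N) := Nat.card_pos
        omega) (hGquot G N hg))
    exact hfinal G P Q U K hg hcore

end Cfsg.Agent.Lib.Transfer.FunctorReduction
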