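import Cfsg.Agent.Lib.Transfer.AbelianJ
import Cfsg.Agent.Lib.FourFree.Section
import Cfsg.Agent.Lib.Involutions.BaerSuzuki
import Cfsg.Agent.Lib.PGroups.Frattini
import Cfsg.Agent.Lib.FusionSystem.ControlResults
import Cfsg.Agent.Lib.FusionSystem.Hyperfocal

/-!
# The local step of `Z(N(J))` controlling the centre

`L` has the normal `p`-subgroup `Q`, `V` is normal abelian in `Q` and centralised by it, `z ∈ V` is
fixed by the Sylow subgroup `T`, and `N_L(R) ≤ C(z)` for `T`-invariant `R` with `Q < R ≤ T`.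

* `central_of_agemo` : a quadratic element outside `Q` and `z` in `℧¹(V)` make `z` central.
* `central_of_offender` : for `p` odd or `L` free of `Sym(4)`, an abelian subgroup of largest order
  outside `Q` makes `z` central (product over the orbit of `z` modulo `℧¹(V)`).
-/

set_option autoImplicit false
set_option linter.unusedSectionVars false

namespace Cfsg.Agent.Lib.Transfer.OffenderNorm

open Subgroup
open scoped Pointwise

universe u

section Agemo

variable {L : Type u} [Group L] {p : ℕ}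

/-- The subgroup generated by the `p`-th powers of `V`. -/
def agemo (p : ℕ) (V : Subgroup L) : Subgroup L := closure ((fun v => v ^ p) '' (V : Set L))

theorem agemo_le (V : Subgroup L) : agemo p V ≤ V :=
  (closure_le _).mpr fun _ ⟨_, hv, e⟩ => e ▸ pow_mem hv p

theorem agemo_normal (V : Subgroup L) [V.Normal] : (agemo p V).Normal := by
  refine ⟨fun x hx g => ?_⟩
  have : agemo p V ≤ (agemo p V).comap (MulAut.conj g).toMonoidHom := by
    refine (closure_le _).mpr ?_
    rintro _ ⟨v, hv, rfl⟩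
    refine subset_closure ⟨g * v * g⁻¹, Normal.conj_mem inferInstance v hv g, ?_⟩
    show (g * v * g⁻¹) ^ p = _
    rw [conj_pow]; rfl
  exact this hx

theorem pow_conj_of_quadratic {g v : L}
    (hq : g * (g * v * g⁻¹ * v⁻¹) * g⁻¹ = g * v * g⁻¹ * v⁻¹) :
    ∀ n : ℕ, g ^ n * v * (g ^ n)⁻¹ = (g * v * g⁻¹ * v⁻¹) ^ n * v := by
  intro n
  induction n with
  | zero => simp
  | succ n ih =>
    calc g ^ (n + 1) * v * (g ^ (n + 1))⁻¹ = g * (g ^ n * v * (g ^ n)⁻¹) * g⁻¹ := by
          rw [pow_succ']; group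
      _ = (g * (g * v * g⁻¹ * v⁻¹) * g⁻¹) ^ n * (g * v * g⁻¹) := by rw [ih, conj_pow]; group
      _ = (g * v * g⁻¹ * v⁻¹) ^ n * ((g * v * g⁻¹ * v⁻¹) * v) := by
          rw [hq, inv_mul_cancel_right]
      _ = _ := by rw [← mul_assoc, ← pow_succ]

end Agemo

variable {L : Type u} [Group L] [Finite L] {p : ℕ} [hp : Fact p.Prime]

/-- The data of the local step. -/
structure Setting (T : Sylow p L) (Q V : Subgroup L) (z : L) : Prop where
  normalQ : Q.Normal
  normalV : V.Normal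
  Q_le : Q ≤ (T : Subgroup L)
  V_le : V ≤ Q
  comm : ∀ q ∈ Q, ∀ v ∈ V, q * v = v * q
  mem : z ∈ V
  fixed : ∀ t ∈ (T : Subgroup L), t * z = z * t
  norm : ∀ R : Subgroup L, R ≤ (T : Subgroup L) →
    (T : Subgroup L) ≤ normalizer (R : Set L) → Q < R →
    normalizer (R : Set L) ≤ centralizer ({z} : Set L)

variable {T : Sylow p L} {Q V : Subgroup L} {z : L}

theorem mem_center_of_le (h : ⊤ ≤ centralizer ({z} : Set L)) : z ∈ center L :=
  mem_center_iff.mpr fun g => mem_centralizer_singleton_iff.mp (h (mem_top g))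

namespace Setting

theorem sylow_le (s : Setting T Q V z) : (T : Subgroup L) ≤ centralizer ({z} : Set L) :=
  fun t ht => mem_centralizer_singleton_iff.mpr (s.fixed t ht)

/-- Frattini argument with a normal subgroup fixing `z`. -/
theorem central_of_normal (s : Setting T Q V z) (K : Subgroup L) [K.Normal]
    (hK : K ≤ centralizer ({z} : Set L)) (h : ¬ (T : Subgroup L) ⊓ K ≤ Q) : z ∈ center L := by
  have := s.normalQ
  obtain ⟨P, hP⟩ := FS.exists_sylow_inf_normal_hyp T K
  set X := (T : Subgroup L) ⊓ K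
  have hX : (P : Subgroup K).map K.subtype = X := by
    rw [hP, map_subgroupOf_eq_of_le inf_le_right]
  have hTX : (T : Subgroup L) ≤ normalizer (X : Set L) := fun t ht =>
    mem_normalizer_fintype fun x hx =>
      ⟨(T : Subgroup L).mul_mem ((T : Subgroup L).mul_mem ht hx.1) (inv_mem ht),
        Normal.conj_mem inferInstance x hx.2 t⟩
  have hN : normalizer (X : Set L) ≤ normalizer ((X ⊔ Q : Subgroup L) : Set L) := by
    intro g hg
    refine mem_normalizer_fintype fun x hx => ?_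
    have hle : X ⊔ Q ≤ (X ⊔ Q).comap (MulAut.conj g).toMonoidHom :=
      sup_le (fun y hy => mem_sup_left ((mem_normalizer_iff.mp hg y).mp hy))
        (fun y hy => mem_sup_right (Normal.conj_mem inferInstance y hy g))
    exact hle hx
  have hR := s.norm (X ⊔ Q) (sup_le inf_le_left s.Q_le) (hTX.trans hN) (right_lt_sup.mpr h)
  refine mem_center_of_le ?_
  rw [← Sylow.normalizer_sup_eq_top P, hX]
  exact sup_le (hN.trans hR) hK

/-- A normal subgroup whose elements of order prime to `p` fix `z`. -/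
theorem normal_le (s : Setting T Q V z) (X : Subgroup L) [X.Normal]
    (h : ∀ x ∈ X, ¬ p ∣ orderOf x → x * z = z * x) : X ≤ centralizer ({z} : Set L) := by
  obtain ⟨P, hP⟩ := FS.exists_sylow_inf_normal_hyp T X
  have hH : (centralizer ({z} : Set L)).subgroupOf X = ⊤ := by
    refine FS.Control.eq_top_of_sylow_le P (fun x hx => ?_) fun x hx => ?_
    · exact s.sylow_le (mem_subgroupOf.mp (hP.le hx)).1
    · exact mem_centralizer_singleton_iff.mpr (h x x.2 (by rwa [Subgroup.orderOf_coe]))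
  exact subgroupOf_eq_top.mp hH

end Setting

/-- A quadratic element with `p`-th power in `Q` centralises `℧¹(V)`. -/
theorem mem_centralizer_agemo (hQV : ∀ q ∈ Q, ∀ v ∈ V, q * v = v * q) (hV : V.Normal)
    (hVc : ∀ u ∈ V, ∀ v ∈ V, u * v = v * u) {g : L} (hgp : g ^ p ∈ Q)
    (hq : ∀ v ∈ V, g * (g * v * g⁻¹ * v⁻¹) * g⁻¹ = g * v * g⁻¹ * v⁻¹) :
    g ∈ centralizer (agemo p V : Set L) := by
  rw [agemo, centralizer_closure, mem_centralizer_iff]
  rintro _ ⟨v, hv, rfl⟩
  have hc : g * v * g⁻¹ * v⁻¹ ∈ V := mul_mem (hV.conj_mem v hv g) (inv_mem hv)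
  have hcp : (g * v * g⁻¹ * v⁻¹) ^ p = 1 := by
    have := pow_conj_of_quadratic (hq v hv) p
    rw [hQV _ hgp v hv, mul_inv_cancel_right] at this
    exact mul_eq_right.mp this.symm
  have hh : g * v ^ p * g⁻¹ = v ^ p := by
    rw [← conj_pow, show g * v * g⁻¹ = (g * v * g⁻¹ * v⁻¹) * v by group,
      Commute.mul_pow (hVc _ hc v hv), hcp, one_mul]
  exact (mul_inv_eq_iff_eq_mul.mp hh).symm

theorem exists_mem_centralizer_agemo (s : Setting T Q V z) {g : L} (hgT : g ∈ (T : Subgroup L))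
    (hgQ : g ∉ Q) (hq : ∀ v ∈ V, g * (g * v * g⁻¹ * v⁻¹) * g⁻¹ = g * v * g⁻¹ * v⁻¹) :
    ¬ (T : Subgroup L) ⊓ centralizer (agemo p V : Set L) ≤ Q := by
  classical
  have hVc : ∀ u ∈ V, ∀ v ∈ V, u * v = v * u := fun u hu v hv => s.comm u (s.V_le hu) v hv
  have hex : ∃ j : ℕ, g ^ p ^ j ∈ Q := by
    obtain ⟨j, hj⟩ := T.isPGroup' ⟨g, hgT⟩
    exact ⟨j, by rw [show g ^ p ^ j = 1 from congrArg Subtype.val hj]; exact one_mem Q⟩
  obtain ⟨j, hj⟩ : ∃ j, Nat.find hex = j + 1 := Nat.exists_eq_succ_of_ne_zero fun h => hgQ (by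
    have := Nat.find_spec hex
    rwa [h, pow_zero, pow_one] at this)
  refine fun hle => Nat.find_min hex (by omega : j < Nat.find hex)
    (hle ⟨pow_mem hgT _, mem_centralizer_agemo s.comm s.normalV hVc ?_ fun v hv => ?_⟩)
  · have := Nat.find_spec hex
    rwa [hj, pow_succ, pow_mul] at this
  · rw [pow_conj_of_quadratic (hq v hv), mul_inv_cancel_right, ← conj_pow]
    have hfix : ∀ n : ℕ, g ^ n * (g * v * g⁻¹ * v⁻¹) * (g ^ n)⁻¹ = g * v * g⁻¹ * v⁻¹ := by
      intro n
      induction n with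
      | zero => simp
      | succ n ih =>
        calc g ^ (n + 1) * (g * v * g⁻¹ * v⁻¹) * (g ^ (n + 1))⁻¹
            = g ^ n * (g * (g * v * g⁻¹ * v⁻¹) * g⁻¹) * (g ^ n)⁻¹ := by rw [pow_succ]; group
          _ = _ := by rw [hq v hv, ih]
    rw [hfix]

/-- A quadratic element outside `Q` makes an element of `℧¹(V)` central. -/
theorem central_of_agemo (s : Setting T Q V z) {g : L} (hgT : g ∈ (T : Subgroup L))
    (hgQ : g ∉ Q) (hq : ∀ v ∈ V, g * (g * v * g⁻¹ * v⁻¹) * g⁻¹ = g * v * g⁻¹ * v⁻¹)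
    (hz : z ∈ agemo p V) : z ∈ center L := by
  have := s.normalV
  haveI := agemo_normal (p := p) V
  refine s.central_of_normal (centralizer (agemo p V : Set L)) (fun k hk => ?_)
    (exists_mem_centralizer_agemo s hgT hgQ hq)
  exact mem_centralizer_singleton_iff.mpr (mem_centralizer_iff.mp hk z hz).symm

section Quadratic

/-- An abelian subgroup of largest order outside `Q` normalised by `V`. -/
theorem exists_maxAb (s : Setting T Q V z)
    (hA : ∃ A ∈ AbelianJ.maxAbIn (T : Subgroup L), ¬ A ≤ Q) :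
    ∃ A ∈ AbelianJ.maxAbIn (T : Subgroup L), ¬ A ≤ Q ∧ V ≤ normalizer (A : Set L) := by
  have hVn := s.normalV
  let 𝒜 : Set (Subgroup L) := {A | A ∈ AbelianJ.maxAbIn (T : Subgroup L) ∧ ¬ A ≤ Q}
  obtain ⟨A, ⟨hA, hAQ⟩, hmax⟩ := Set.exists_max_image 𝒜
    (fun A => Nat.card (A ⊓ V : Subgroup L)) (Set.toFinite _) (let ⟨A, h1, h2⟩ := hA; ⟨A, h1, h2⟩)
  have hVT : V ≤ (T : Subgroup L) := s.V_le.trans s.Q_le
  have hVcomm : IsMulCommutative V :=
    .of_setLike_mul_comm fun u hu v hv => s.comm u (s.V_le hu) v hv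
  let D := (A ⊓ Q) ⊔ V
  have hD : IsMulCommutative D :=
    LA5.Replacement.isMulCommutative_sup (AbelianJ.isMulCommutative_mono hA.2.1 inf_le_left)
      hVcomm fun x hx u hu => s.comm x hx.2 u hu
  have hDA : Nat.card D ≤ Nat.card A := hA.2.2 D (sup_le (inf_le_left.trans hA.1) hVT) hD
  refine ⟨A, hA, hAQ, ?_⟩
  by_contra hn
  obtain ⟨A', hA', h1, h2, h3⟩ := AbelianJ.exists_replacement_in T.isPGroup' hA hVT hVcomm
    (by rw [normalizer_eq_top_iff.mpr hVn]; exact le_top) hn
  have hA'Q : A' ≤ Q := by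
    by_contra hc
    have hle := hmax A' ⟨hA', hc⟩
    have hlt : Nat.card (A ⊓ V : Subgroup L) < Nat.card (A' ⊓ V : Subgroup L) :=
      lt_of_le_of_ne (card_le_of_le h3.le) fun he => h3.ne (eq_of_le_of_card_ge h3.le he.ge)
    exact absurd hle (not_le.mpr hlt)
  have hA'D : A' ≤ D := by
    intro x hx
    have hx' : x ∈ ((A ⊔ V : Subgroup L) : Set L) := h2 hx
    rw [Subgroup.mul_normal] at hx'
    obtain ⟨a, ha, u, hu, rfl⟩ := hx'
    refine mul_mem (mem_sup_left ⟨ha, ?_⟩) (mem_sup_right hu)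
    simpa using Q.mul_mem (hA'Q hx) (Q.inv_mem (s.V_le hu))
  have hDeq : A' = D := eq_of_le_of_card_ge hA'D (hDA.trans (hA'.2.2 A hA.1 hA.2.1))
  exact hn (le_sup_right.trans (hDeq ▸ h1))

theorem quadratic_of_normalizes {A : Subgroup L} (hAc : IsMulCommutative A)
    (hVA : V ≤ normalizer (A : Set L)) {a : L} (ha : a ∈ A) :
    ∀ v ∈ V, a * (a * v * a⁻¹ * v⁻¹) * a⁻¹ = a * v * a⁻¹ * v⁻¹ := by
  intro v hv
  have hmem : a * v * a⁻¹ * v⁻¹ ∈ A := by
    have h1 := (mem_normalizer_iff.mp (hVA hv) a⁻¹).mp (A.inv_mem ha)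
    simpa [mul_assoc] using A.mul_mem ha h1
  rw [show a * (a * v * a⁻¹ * v⁻¹) = (a * v * a⁻¹ * v⁻¹) * a from
    congrArg Subtype.val (hAc.is_comm.comm (⟨a, ha⟩ : A) ⟨_, hmem⟩), mul_inv_cancel_right]

theorem exists_quadratic (s : Setting T Q V z)
    (hA : ∃ A ∈ AbelianJ.maxAbIn (T : Subgroup L), ¬ A ≤ Q) :
    ∃ g ∈ (T : Subgroup L), g ∉ Q ∧
      ∀ v ∈ V, g * (g * v * g⁻¹ * v⁻¹) * g⁻¹ = g * v * g⁻¹ * v⁻¹ := by
  obtain ⟨A, hA, hAQ, hVA⟩ := exists_maxAb s hA
  obtain ⟨a, ha, haQ⟩ := SetLike.not_le_iff_exists.mp hAQ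
  exact ⟨a, hA.1 ha, haQ, quadratic_of_normalizes hA.2.1 hVA ha⟩

end Quadratic

section OrbitProduct

variable {R : Type*} [Group R] [Finite R] {U : Type*} [CommGroup U] [Finite U]

/-- Products over invariant sets without fixed points. -/
theorem prod_mem_of_no_fixed (hR : IsPGroup p R) (ρ : R →* MulAut U) (Z : Subgroup U)
    (h : ∀ R₁ : Subgroup R, R₁.Normal → R₁.index = p → ∃ a ∉ R₁,
      ∀ u : U, (∀ r ∈ R₁, ρ r u = u) → ∏ i ∈ Finset.range p, ρ (a ^ i) u ∈ Z) :
    ∀ O : Finset U, (∀ r, ∀ w ∈ O, ρ r w ∈ O) → (∀ w ∈ O, ∃ r, ρ r w ≠ w) →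
      ∏ w ∈ O, w ∈ Z := by
  classical
  have := Fintype.ofFinite R
  intro O
  induction O using Finset.strongInduction with
  | _ O ih =>
  intro hinv hfix
  rcases O.eq_empty_or_nonempty with rfl | ⟨w, hw⟩
  · simp [Z.one_mem]
  let St : Subgroup R := (MulAction.stabilizer (MulAut U) w).comap ρ
  have hSt : St ≠ ⊤ := fun he => by
    obtain ⟨r, hr⟩ := hfix w hw
    exact hr (show r ∈ St from he ▸ mem_top r)
  obtain ⟨R₁, hR₁, hle⟩ := (eq_top_or_exists_le_coatom St).resolve_left hSt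
  haveI := PGroups.coatom_normal hR hR₁
  have hidx := PGroups.coatom_index hR hR₁
  obtain ⟨a, haR, ha⟩ := h R₁ inferInstance hidx
  let O₀ : Finset U := Finset.univ.image fun r : R => ρ r w
  let O₁ : Finset U := (Finset.univ.filter fun r : R => r ∈ R₁).image fun r => ρ r w
  let u := ∏ v ∈ O₁, v
  have hfixu : ∀ r ∈ R₁, ρ r u = u := by
    intro r hr
    simp only [u, map_prod]
    refine Finset.prod_bij (fun v _ => ρ r v) ?_ (fun _ _ _ _ e => (ρ r).injective e) ?_ fun _ _ => rfl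
    · intro v hv
      obtain ⟨r', hr', rfl⟩ := Finset.mem_image.mp hv
      exact Finset.mem_image.mpr ⟨r * r', by simpa using R₁.mul_mem hr (by simpa using hr'), by
        rw [map_mul, MulAut.mul_apply]⟩
    · intro v hv
      obtain ⟨r', hr', rfl⟩ := Finset.mem_image.mp hv
      refine ⟨ρ (r⁻¹ * r') w, Finset.mem_image.mpr ⟨r⁻¹ * r', ?_, rfl⟩, ?_⟩
      · simpa using R₁.mul_mem (R₁.inv_mem hr) (by simpa using hr')
      · rw [← MulAut.mul_apply, ← map_mul, mul_inv_cancel_left]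
  -- the powers of `a` are a transversal
  have hq : orderOf (a : R ⧸ R₁) = p := by
    refine orderOf_eq_prime ?_ fun e => haR ((QuotientGroup.eq_one_iff a).mp e)
    rw [← hidx, index_eq_card]
    exact pow_card_eq_one'
  have hcover : ∀ r : R, ∃ i < p, ∃ r₁ ∈ R₁, r = a ^ i * r₁ := by
    intro r
    have htop : (zpowers (a : R ⧸ R₁)) = ⊤ :=
      eq_top_of_card_eq _ (by rw [Nat.card_zpowers, hq, ← index_eq_card, hidx])
    have hr : (r : R ⧸ R₁) ∈ zpowers (a : R ⧸ R₁) := htop ▸ mem_top _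
    rw [mem_zpowers_iff_mem_range_orderOf, hq, Finset.mem_image] at hr
    obtain ⟨i, hi, hie⟩ := hr
    refine ⟨i, Finset.mem_range.mp hi, (a ^ i)⁻¹ * r, QuotientGroup.eq.mp ?_,
      (mul_inv_cancel_left _ _).symm⟩
    rw [QuotientGroup.mk_pow]; exact hie
  have hdisj : Set.PairwiseDisjoint ↑(Finset.range p) fun i => O₁.image (ρ (a ^ i)) := by
    intro i hi j hj hij
    rw [Function.onFun, Finset.disjoint_left]
    intro v hv hv'
    obtain ⟨v₁, hv₁, rfl⟩ := Finset.mem_image.mp hv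
    obtain ⟨r, hr, rfl⟩ := Finset.mem_image.mp hv₁
    obtain ⟨v₂, hv₂, he⟩ := Finset.mem_image.mp hv'
    obtain ⟨r', hr', rfl⟩ := Finset.mem_image.mp hv₂
    have hs : (a ^ j * r')⁻¹ * (a ^ i * r) ∈ R₁ := hle (by
      show ρ ((a ^ j * r')⁻¹ * (a ^ i * r)) w = w
      rw [map_mul, MulAut.mul_apply, map_inv, map_mul, map_mul, MulAut.mul_apply, ← he]
      exact (ρ (a ^ j) * ρ r').symm_apply_apply w)
    have h1 : ((a ^ j * r' : R) : R ⧸ R₁) = ((a ^ i * r : R) : R ⧸ R₁) := QuotientGroup.eq.mpr hs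
    rw [QuotientGroup.mk_mul, QuotientGroup.mk_mul, (QuotientGroup.eq_one_iff r).mpr (by simpa using hr),
      (QuotientGroup.eq_one_iff r').mpr (by simpa using hr'), mul_one, mul_one,
      QuotientGroup.mk_pow, QuotientGroup.mk_pow] at h1
    rw [Finset.coe_range, Set.mem_Iio, ← hq] at hi hj
    exact hij (pow_injOn_Iio_orderOf hi hj h1.symm)
  have hO₀ : O₀ = (Finset.range p).biUnion fun i => O₁.image (ρ (a ^ i)) := by
    ext v
    constructor
    · intro hv
      obtain ⟨r, -, rfl⟩ := Finset.mem_image.mp hv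
      obtain ⟨i, hi, r₁, hr₁, rfl⟩ := hcover r
      exact Finset.mem_biUnion.mpr ⟨i, Finset.mem_range.mpr hi, Finset.mem_image.mpr
        ⟨ρ r₁ w, Finset.mem_image.mpr ⟨r₁, by simpa using hr₁, rfl⟩, by
          rw [map_mul, MulAut.mul_apply]⟩⟩
    · intro hv
      obtain ⟨i, -, hv⟩ := Finset.mem_biUnion.mp hv
      obtain ⟨v₁, hv₁, rfl⟩ := Finset.mem_image.mp hv
      obtain ⟨r, -, rfl⟩ := Finset.mem_image.mp hv₁
      exact Finset.mem_image.mpr ⟨a ^ i * r, Finset.mem_univ _, by rw [map_mul, MulAut.mul_apply]⟩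
  have h0 : ∏ v ∈ O₀, v ∈ Z := by
    rw [hO₀, Finset.prod_biUnion hdisj]
    have he : ∀ i ∈ Finset.range p, ∏ v ∈ O₁.image (ρ (a ^ i)), v = ρ (a ^ i) u := by
      intro i _
      rw [Finset.prod_image fun _ _ _ _ e => (ρ (a ^ i)).injective e, map_prod]
    rw [Finset.prod_congr rfl he]
    exact ha u hfixu
  have hsub : O₀ ⊆ O := fun v hv => by
    obtain ⟨r, -, rfl⟩ := Finset.mem_image.mp hv
    exact hinv r w hw
  have hlt : O \ O₀ ⊂ O := by
    refine Finset.sdiff_ssubset hsub ⟨w, Finset.mem_image.mpr ⟨1, Finset.mem_univ _, ?_⟩⟩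
    rw [map_one, MulAut.one_apply]
  have h1 := ih _ hlt (fun r v hv => ?_) fun v hv => hfix v (Finset.mem_sdiff.mp hv).1
  · rw [← Finset.prod_sdiff hsub]
    exact Z.mul_mem h1 h0
  · obtain ⟨hvO, hv0⟩ := Finset.mem_sdiff.mp hv
    refine Finset.mem_sdiff.mpr ⟨hinv r v hvO, fun hc => hv0 ?_⟩
    obtain ⟨r', -, he⟩ := Finset.mem_image.mp hc
    refine Finset.mem_image.mpr ⟨r⁻¹ * r', Finset.mem_univ _, ?_⟩
    rw [map_mul, MulAut.mul_apply, he, map_inv, MulAut.inv_apply_self]

end OrbitProduct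

section Pair

variable {U : Type*} [CommGroup U]

/-- Two involutions fixing subgroups of index two: a four-group section or a `2`-group. -/
theorem pair_dichotomy (hexp : ∀ u : U, u * u = 1) {σ τ : MulAut U}
    (hσ2 : ∀ u, σ (σ u) = u) (hτ2 : ∀ u, τ (τ u) = u)
    (hσ : ∀ u v, σ u ≠ u → σ v ≠ v → σ (u * v) = u * v)
    (hτ : ∀ u v, τ u ≠ u → τ v ≠ v → τ (u * v) = u * v) (hne : ∃ u, σ u ≠ u) :
    (∃ e f : U, e ≠ 1 ∧ f ≠ 1 ∧ e ≠ f ∧ σ e = e ∧ σ f = e * f ∧ τ f = f ∧ τ e = e * f) ∨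
      ∀ g ∈ closure ({σ, τ} : Set (MulAut U)), g ^ 4 = 1 := by
  have hinv : ∀ x : U, x⁻¹ = x := fun x => inv_eq_of_mul_eq_one_right (hexp x)
  -- the stabiliser of a chain `U > C > W`
  have chain : ∀ χ : MulAut U, (∀ u v, χ u ≠ u → χ v ≠ v → χ (u * v) = u * v) →
      (∀ g ∈ ({σ, τ} : Set (MulAut U)), ∀ c, χ c = c →
        χ (g c) = g c ∧ σ (g c * c) = g c * c ∧ τ (g c * c) = g c * c) →
      ∀ g ∈ closure ({σ, τ} : Set (MulAut U)), g ^ 4 = 1 := by
    intro χ hχ hgen g hg
    have hfixW : ∀ g ∈ closure ({σ, τ} : Set (MulAut U)), ∀ w, σ w = w → τ w = w → g w = w := by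
      intro g hg w h1 h2
      refine (closure_le (MulAction.stabilizer (MulAut U) w)).mpr ?_ hg
      rintro x (rfl | rfl)
      · exact h1
      · exact h2
    have hC : ∀ g ∈ closure ({σ, τ} : Set (MulAut U)), ∀ c, χ c = c →
        χ (g c) = g c ∧ σ (g c * c) = g c * c ∧ τ (g c * c) = g c * c := by
      intro g hg
      induction hg using closure_induction'' with
      | mem x hx => exact hgen x hx
      | inv_mem x hx =>
          have hx' : x⁻¹ = x := by
            refine inv_eq_of_mul_eq_one_right (MulEquiv.ext fun u => ?_)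
            rcases hx with rfl | rfl
            · exact hσ2 u
            · exact hτ2 u
          rw [hx']; exact hgen x hx
      | one => intro c hc; simp [hc, hexp]
      | mul x y hx hy ihx ihy =>
          intro c hc
          obtain ⟨a1, a2, a3⟩ := ihy c hc
          obtain ⟨b1, b2, b3⟩ := ihx (y c) a1
          refine ⟨b1, ?_⟩
          have e : (x * y) c * c = (x (y c) * y c) * (y c * c) := by
            rw [MulAut.mul_apply, mul_assoc, ← mul_assoc (y c), hexp, one_mul]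
          rw [e, map_mul σ, map_mul τ, b2, b3, a2, a3]
          exact ⟨rfl, rfl⟩
    have hidx : ∀ v, χ (g v * v) = g v * v := by
      intro v
      by_cases hv : χ v = v
      · rw [map_mul, hv, (hC g hg v hv).1]
      · refine hχ _ _ (fun h => hv ?_) hv
        obtain ⟨h', -, -⟩ := hC g⁻¹ (inv_mem hg) _ h
        rwa [MulAut.inv_apply_self] at h'
    refine MulEquiv.ext fun v => ?_
    set c := g v * v with hc
    obtain ⟨-, hw1, hw2⟩ := hC g hg c (hidx v)
    set w := g c * c with hwdef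
    have hgw : g w = w := hfixW g hg w hw1 hw2
    have h1 : g v = c * v := by rw [hc, mul_assoc, hexp, mul_one]
    have h2 : g c = w * c := by rw [hwdef, mul_assoc, hexp, mul_one]
    have h3 : g (g v) = w * v := by
      rw [h1, map_mul, h1, h2]
      calc w * c * (c * v) = w * (c * c) * v := by ac_rfl
        _ = w * v := by rw [hexp, mul_one]
    have h4 : g (g (g (g v))) = v := by
      rw [h3, map_mul, map_mul, hgw, hgw, h3, ← mul_assoc, hexp, one_mul]
    rw [show g ^ 4 = g * (g * (g * g)) by simp [pow_succ, mul_assoc]]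
    exact h4
  obtain ⟨f₀, hf₀⟩ := hne
  set e := σ f₀ * f₀ with he
  have hσe : σ e = e := by rw [he, map_mul, hσ2, mul_comm]
  have he1 : e ≠ 1 := fun h => hf₀ ((eq_inv_of_mul_eq_one_left h).trans (hinv f₀))
  have hσall : ∀ u, σ u ≠ u → σ u * u = e := by
    intro u hu
    have h1 := hσ u f₀ hu hf₀
    rw [map_mul] at h1
    calc σ u * u = σ u * σ f₀ * (σ f₀ * u) := by
          rw [mul_assoc, ← mul_assoc (σ f₀), hexp, one_mul]
      _ = u * f₀ * (σ f₀ * u) := by rw [h1]
      _ = (u * u) * (σ f₀ * f₀) := by ac_rfl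
      _ = e := by rw [hexp, one_mul]
  set f := τ e * e with hf
  have hτf : τ f = f := by rw [hf, map_mul, hτ2, mul_comm]
  by_cases hτe : τ e = e
  · -- `C_τ > W`
    refine Or.inr (chain τ hτ ?_)
    rintro x (rfl | rfl) c hc
    · by_cases hxc : x c = c
      · rw [hxc]; exact ⟨hc, by simp [hexp], by simp [hexp]⟩
      · have h1 := hσall c hxc
        refine ⟨?_, by rw [h1]; exact ⟨hσe, hτe⟩⟩
        rw [show x c = e * c by rw [← h1, mul_assoc, hexp, mul_one], map_mul, hτe, hc]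
    · rw [hc]; exact ⟨hc, by simp [hexp], by simp [hexp]⟩
  · by_cases hσf : σ f = f
    · -- `C_σ > W`
      refine Or.inr (chain σ hσ ?_)
      rintro x (rfl | rfl) c hc
      · rw [hc]; exact ⟨hc, by simp [hexp], by simp [hexp]⟩
      · by_cases hxc : x c = c
        · rw [hxc]; exact ⟨hc, by simp [hexp], by simp [hexp]⟩
        · have h1 := hτ c e hxc hτe
          rw [map_mul] at h1
          have h2 : x c * c = f := by
            calc x c * c = x c * x e * (x e * c) := by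
                  rw [mul_assoc, ← mul_assoc (x e), hexp, one_mul]
              _ = c * e * (x e * c) := by rw [h1]
              _ = (c * c) * (x e * e) := by ac_rfl
              _ = f := by rw [hexp, one_mul]
          refine ⟨?_, by rw [h2]; exact ⟨hσf, hτf⟩⟩
          rw [show x c = f * c by rw [← h2, mul_assoc, hexp, mul_one], map_mul, hσf, hc]
    · refine Or.inl ⟨e, f, he1, fun h => hσf (by rw [h, map_one]), fun h => hσf (h ▸ hσe), hσe,
        ?_, hτf, ?_⟩
      · rw [← hσall f hσf, mul_assoc, hexp, mul_one]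
      · rw [hf, ← mul_assoc, mul_comm e, mul_assoc, hexp, mul_one]

end Pair

/-- An element of odd order fixing the involutions of an abelian `2`-group fixes all of it. -/
theorem fixed_of_omega [V.Normal] (hVc : ∀ u ∈ V, ∀ v ∈ V, u * v = v * u) (hV : IsPGroup 2 V) {x : L}
    (hx : ¬ 2 ∣ orderOf x) (h : ∀ v ∈ V, v ^ 2 = 1 → x * v = v * x) :
    ∀ v ∈ V, x * v = v * x := by
  suffices H : ∀ k : ℕ, ∀ v ∈ V, v ^ 2 ^ k = 1 → x * v = v * x by
    intro v hv
    obtain ⟨k, hk⟩ := hV ⟨v, hv⟩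
    exact H k v hv (congrArg Subtype.val hk)
  intro k
  induction k with
  | zero => intro v _ hk; rw [pow_zero, pow_one] at hk; simp [hk]
  | succ k ih =>
    intro v hv hk
    have hconj : x * v * x⁻¹ ∈ V := Normal.conj_mem inferInstance v hv x
    have h2 := ih (v ^ 2) (pow_mem hv 2) (by rwa [← pow_mul, ← pow_succ'])
    set c := x * v * x⁻¹ * v⁻¹ with hc
    have hcV : c ∈ V := mul_mem hconj (inv_mem hv)
    have hc2 : c ^ 2 = 1 := by
      rw [hc, Commute.mul_pow (hVc _ hconj _ (inv_mem hv)), conj_pow, h2, mul_inv_cancel_right,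
        inv_pow, mul_inv_cancel]
    have h1 := pow_conj_of_quadratic (g := x) (v := v) (by
      rw [← hc, h c hcV hc2, mul_inv_cancel_right]) (orderOf x)
    rw [pow_orderOf_eq_one, one_mul, inv_one, mul_one] at h1
    have h3 : c ^ orderOf x = 1 := mul_eq_right.mp h1.symm
    have h4 := pow_gcd_eq_one.mpr ⟨hc2, h3⟩
    rw [(Nat.prime_two.coprime_iff_not_dvd.mpr hx).gcd_eq_one, pow_one] at h4
    rw [hc] at h4
    exact mul_inv_eq_iff_eq_mul.mp (mul_inv_eq_one.mp h4)

/-- An element of `T ∖ Q` fixing a subgroup of index two of `V` gives `Sym(4)`. -/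
theorem involves_of_transvection [Fact (Nat.Prime 2)] {T : Sylow 2 L} (s : Setting T Q V z)
    (hK : ∀ K : Subgroup L, K.Normal → K ≤ centralizer ({z} : Set L) → (T : Subgroup L) ⊓ K ≤ Q)
    {a : L} (haT : a ∈ (T : Subgroup L)) (haQ : a ∉ Q) (ha2 : a ^ 2 ∈ Q)
    (htr : ∀ u ∈ V, ∀ v ∈ V, a * u ≠ u * a → a * v ≠ v * a → a * (u * v) = u * v * a) :
    Cfsg.Involves (Equiv.Perm (Fin 4)) L := by
  classical
  have hVn := s.normalV
  have hVc : ∀ u ∈ V, ∀ v ∈ V, u * v = v * u := fun u hu v hv => s.comm u (s.V_le hu) v hv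
  have hV2 : IsPGroup 2 V := T.isPGroup'.to_le (s.V_le.trans s.Q_le)
  let W : Subgroup L :=
    { carrier := {v | v ∈ V ∧ v ^ 2 = 1}
      mul_mem' := fun {x y} hx hy => ⟨mul_mem hx.1 hy.1, by
        rw [Commute.mul_pow (hVc x hx.1 y hy.1), hx.2, hy.2, one_mul]⟩
      one_mem' := ⟨one_mem _, one_pow 2⟩
      inv_mem' := fun {x} hx => ⟨inv_mem hx.1, by rw [inv_pow, hx.2, inv_one]⟩ }
  have hWn : W.Normal := ⟨fun x hx g => ⟨hVn.conj_mem x hx.1 g, by rw [conj_pow, hx.2]; group⟩⟩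
  letI iW : CommGroup W :=
    { W.toGroup with mul_comm := fun x y => Subtype.ext (hVc _ x.2.1 _ y.2.1) }
  let μ : L →* MulAut W := MulAut.conjNormal
  have hμ : ∀ (g : L) (w : W), (μ g w : L) = g * w * g⁻¹ := MulAut.conjNormal_apply
  have hexp : ∀ w : W, w * w = 1 := fun w => Subtype.ext ((pow_two (w : L)).symm.trans w.2.2)
  have hfixiff : ∀ (g : L) (w : W), μ g w = w ↔ g * w = w * g := fun g w => by
    rw [Subtype.ext_iff, hμ, mul_inv_eq_iff_eq_mul]
  -- normal subgroups acting as `2`-groups lie in `Q` on `T`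
  have hker : ∀ X : Subgroup L, X.Normal → IsPGroup 2 (X.map μ) →
      (T : Subgroup L) ⊓ X ≤ Q := by
    intro X hX hXp
    refine hK X hX (s.normal_le X fun x hx hodd => ?_)
    refine fixed_of_omega hVc hV2 hodd (fun v hv hv2 => ?_) z s.mem
    obtain ⟨k, hk⟩ := hXp ⟨μ x, mem_map_of_mem μ hx⟩
    have hk' : μ x ^ 2 ^ k = 1 := congrArg Subtype.val hk
    have h1 : μ x = 1 := orderOf_eq_one_iff.mp (Nat.eq_one_of_dvd_coprimes
      (Nat.Coprime.pow_right k ((Nat.prime_two.coprime_iff_not_dvd.mpr hodd).symm))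
      (orderOf_map_dvd μ x) (orderOf_dvd_of_pow_eq_one hk'))
    exact (hfixiff x ⟨v, hv, hv2⟩).mp (by rw [h1]; rfl)
  have hμQ : ∀ q ∈ Q, μ q = 1 := fun q hq => MulEquiv.ext fun w =>
    (hfixiff q w).mpr (s.comm q hq _ w.2.1)
  have ha1 : μ a ≠ 1 := by
    intro h
    refine haQ (hker μ.ker inferInstance (IsPGroup.of_card (n := 0) ?_) ⟨haT, h⟩)
    rw [show μ.ker.map μ = ⊥ from (eq_bot_iff_forall _).mpr fun _ ⟨_, hx, e⟩ => e ▸ hx, card_bot,
      pow_zero]
  let M := μ.range
  let x : M := ⟨μ a, a, rfl⟩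
  have hx2 : x ^ 2 = 1 := Subtype.ext (by
    show μ a ^ 2 = 1
    rw [← map_pow, hμQ _ ha2])
  have hxord : orderOf x = 2 := orderOf_eq_prime hx2 fun h => ha1 (congrArg Subtype.val h)
  have hxp : IsPGroup 2 (zpowers x) := IsPGroup.of_card (n := 1) (by rw [Nat.card_zpowers, hxord, pow_one])
  obtain ⟨g, hg⟩ : ∃ g : M, ¬ IsPGroup 2 (closure ({x, g * x * g⁻¹} : Set M)) := by
    by_contra hc
    push Not at hc
    obtain ⟨N, hN, hNp, hxN⟩ := Involutions.BaerSuzuki.baer_suzuki_elem hxp hc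
    haveI := hN
    refine haQ (hker (N.comap μ.rangeRestrict) inferInstance ?_ ⟨haT, hxN⟩)
    refine (hNp.map M.subtype).to_le ?_
    rintro _ ⟨l, hl, rfl⟩
    exact ⟨μ.rangeRestrict l, hl, rfl⟩
  obtain ⟨_, k, rfl⟩ := g
  let b := k * a * k⁻¹
  have htrμ : ∀ u v : W, μ a u ≠ u → μ a v ≠ v → μ a (u * v) = u * v := fun u v hu hv =>
    (hfixiff a (u * v)).mpr (htr _ u.2.1 _ v.2.1 (mt (hfixiff a u).mpr hu) (mt (hfixiff a v).mpr hv))
  have hσ2 : ∀ u, μ a (μ a u) = u := fun u => by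
    rw [← MulAut.mul_apply, ← pow_two, ← map_pow, hμQ _ ha2, MulAut.one_apply]
  have hb : ∀ u, μ b u = μ k (μ a (μ k⁻¹ u)) := fun u => by
    rw [map_mul, map_mul, MulAut.mul_apply, MulAut.mul_apply]
  have hkk : ∀ u, μ k⁻¹ (μ k u) = u := fun u => by
    rw [← MulAut.mul_apply, ← map_mul, inv_mul_cancel, map_one, MulAut.one_apply]
  have hkk' : ∀ u, μ k (μ k⁻¹ u) = u := fun u => by
    rw [← MulAut.mul_apply, ← map_mul, mul_inv_cancel, map_one, MulAut.one_apply]
  have hτ2 : ∀ u, μ b (μ b u) = u := fun u => by rw [hb, hb u, hkk, hσ2, hkk']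
  have hτ : ∀ u v, μ b u ≠ u → μ b v ≠ v → μ b (u * v) = u * v := by
    intro u v hu hv
    rw [hb, map_mul (μ k⁻¹), htrμ _ _ (fun h => hu (by rw [hb, h, hkk']))
      (fun h => hv (by rw [hb, h, hkk'])), map_mul, hkk', hkk']
  have hne : ∃ u, μ a u ≠ u := by
    by_contra hc
    push Not at hc
    exact ha1 (MulEquiv.ext hc)
  rcases pair_dichotomy hexp hσ2 hτ2 htrμ hτ hne with
      ⟨e, f, he, hf, hef, h1, h2, h3, h4⟩ | h4
  · refine FourFree.Section.involves_s4 (a := a) (b := b) (e := (e : L)) (f := (f : L))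
      ((pow_two (e : L)).symm.trans e.2.2) ((pow_two (f : L)).symm.trans f.2.2)
      (hVc _ e.2.1 _ f.2.1) (fun h => he (Subtype.ext h)) (fun h => hf (Subtype.ext h))
      (fun h => hef (Subtype.ext h)) ?_ ?_ ?_ ?_
    · rw [← hμ]; exact congrArg Subtype.val h1
    · rw [← hμ]; exact congrArg Subtype.val h2
    · rw [← hμ]; exact congrArg Subtype.val h3
    · rw [← hμ]; exact congrArg Subtype.val h4
  · refine absurd (fun y => ⟨2, Subtype.ext (Subtype.ext ?_)⟩) hg
    show ((y : M) : MulAut W) ^ 4 = 1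
    refine h4 _ ?_
    have hle : closure ({x, (⟨μ k, k, rfl⟩ : M) * x * (⟨μ k, k, rfl⟩ : M)⁻¹} : Set M) ≤
        (closure ({μ a, μ b} : Set (MulAut W))).comap M.subtype := by
      refine (closure_le _).mpr ?_
      rintro _ (rfl | rfl)
      · exact subset_closure (Or.inl rfl)
      · refine subset_closure (Or.inr ?_)
        show μ k * μ a * (μ k)⁻¹ = μ b
        rw [map_mul, map_mul, map_inv]
    exact hle y.2

section Main

/-- The members of the family: offenders on `V` containing `Q`. -/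
def offenders (T Q V : Subgroup L) : Set (Subgroup L) :=
  {B | Q < B ∧ B ≤ T ∧
    Nat.card V ≤ Q.relIndex B * Nat.card (V ⊓ centralizer (B : Set L) : Subgroup L)}

theorem map_conj_mem_offenders {T Q V B : Subgroup L} [Q.Normal] [V.Normal]
    (hB : B ∈ offenders T Q V) {g : L} (hg : B.map (MulAut.conj g).toMonoidHom ≤ T) :
    B.map (MulAut.conj g).toMonoidHom ∈ offenders T Q V := by
  set f := (MulAut.conj g).toMonoidHom
  have hf : Function.Injective f := (MulAut.conj g).injective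
  have hn : ∀ N : Subgroup L, N.Normal → N.map f = N := fun N hN => by
    ext x
    constructor
    · rintro ⟨y, hy, rfl⟩; exact hN.conj_mem y hy g
    · intro hx
      refine ⟨g⁻¹ * x * g, by simpa using hN.conj_mem x hx g⁻¹, ?_⟩
      show g * (g⁻¹ * x * g) * g⁻¹ = x
      group
  refine ⟨?_, hg, hB.2.2.trans (Nat.mul_le_mul ?_ ?_)⟩
  · rw [← hn Q inferInstance]
    exact (map_lt_map_iff_of_injective hf).mpr hB.1
  · rw [← relIndex_map_map_of_injective Q B hf, hn Q inferInstance]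
  · refine Nat.card_le_card_of_injective (fun v => ⟨f v, ?_, ?_⟩) fun u v h =>
      Subtype.ext (hf (congrArg Subtype.val h))
    · exact (inferInstance : V.Normal).conj_mem v v.2.1 g
    · refine mem_centralizer_iff.mpr ?_
      rintro _ ⟨b, hb, rfl⟩
      rw [← map_mul, ← map_mul, mem_centralizer_iff.mp v.2.2 b hb]

theorem maxAb_mem_offenders (s : Setting T Q V z) {A : Subgroup L}
    (hA : A ∈ AbelianJ.maxAbIn (T : Subgroup L)) (hAQ : ¬ A ≤ Q) :
    A ⊔ Q ∈ offenders (T : Subgroup L) Q V := by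
  have := s.normalQ
  have := s.normalV
  have hVT : V ≤ (T : Subgroup L) := s.V_le.trans s.Q_le
  refine ⟨right_lt_sup.mpr hAQ, sup_le hA.1 s.Q_le, ?_⟩
  let D := (A ⊓ Q) ⊔ V
  have hD : IsMulCommutative D :=
    LA5.Replacement.isMulCommutative_sup (AbelianJ.isMulCommutative_mono hA.2.1 inf_le_left)
      (.of_setLike_mul_comm fun u hu v hv => s.comm u (s.V_le hu) v hv)
      fun x hx u hu => s.comm x hx.2 u hu
  have hDA : Nat.card D ≤ Nat.card A := hA.2.2 D (sup_le (inf_le_left.trans hA.1) hVT) hD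
  have h1 := relIndex_mul_relIndex (⊥ : Subgroup L) (A ⊓ Q) A bot_le inf_le_left
  rw [relIndex_bot_left, relIndex_bot_left, inf_relIndex_left] at h1
  have h3 := relIndex_mul_relIndex (⊥ : Subgroup L) V D bot_le le_sup_right
  rw [relIndex_bot_left, relIndex_bot_left, relIndex_sup_right] at h3
  have h4 := relIndex_mul_relIndex (⊥ : Subgroup L) (A ⊓ Q ⊓ V) (A ⊓ Q) bot_le inf_le_left
  rw [relIndex_bot_left, relIndex_bot_left, inf_relIndex_left] at h4
  have h5 : Nat.card V ≤ Q.relIndex A * Nat.card (A ⊓ Q ⊓ V : Subgroup L) := by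
    refine Nat.le_of_mul_le_mul_right (c := Nat.card (A ⊓ Q : Subgroup L)) ?_ Nat.card_pos
    calc Nat.card V * Nat.card (A ⊓ Q : Subgroup L)
        = Nat.card D * Nat.card (A ⊓ Q ⊓ V : Subgroup L) := by rw [← h3, ← h4]; ring
      _ ≤ Nat.card A * Nat.card (A ⊓ Q ⊓ V : Subgroup L) := Nat.mul_le_mul_right _ hDA
      _ = _ := by rw [← h1]; ring
  rw [relIndex_sup_right]
  refine h5.trans (Nat.mul_le_mul_left _ (card_le_of_le ?_))
  rintro v ⟨⟨hvA, -⟩, hvV⟩
  refine ⟨hvV, ?_⟩
  have hle : A ⊔ Q ≤ centralizer ({v} : Set L) :=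
    sup_le (fun a ha => mem_centralizer_singleton_iff.mpr
        (congrArg Subtype.val (hA.2.1.is_comm.comm (⟨a, ha⟩ : A) ⟨v, hvA⟩)))
      (fun q hq => mem_centralizer_singleton_iff.mpr (s.comm q hq v hvV))
  exact mem_centralizer_iff.mpr fun b hb => mem_centralizer_singleton_iff.mp (hle hb)

/-- The contribution of one orbit of a subgroup of index `p`. -/
theorem prod_conj_mem (s : Setting T Q V z) (hp2 : p ≠ 2 ∨ ¬ Cfsg.Involves (Equiv.Perm (Fin 4)) L)
    (hK : ∀ K : Subgroup L, K.Normal → K ≤ centralizer ({z} : Set L) → (T : Subgroup L) ⊓ K ≤ Q)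
    {A : Subgroup L} (hA : Minimal (· ∈ offenders (T : Subgroup L) Q V) A)
    {B : Subgroup L} (hBA : B ≤ A) (hQB : Q ≤ B) (hidx : B.relIndex A = p) {a : L} (haA : a ∈ A)
    (haB : a ∉ B) (hap : a ^ p ∈ B) (hgen : ∀ x ∈ A, ∃ i : ℕ, ∃ b ∈ B, x = a ^ i * b)
    {u : L} (hu : u ∈ V) (huB : ∀ b ∈ B, b * u = u * b) :
    ((List.range p).map fun i => a ^ i * u * (a ^ i)⁻¹).prod ∈ agemo p V := by
  classical
  have := s.normalQ
  have := s.normalV
  have hVc : ∀ u ∈ V, ∀ v ∈ V, u * v = v * u := fun u hu v hv => s.comm u (s.V_le hu) v hv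
  set CA := V ⊓ centralizer (A : Set L) with hCA
  set CB := V ⊓ centralizer (B : Set L) with hCB
  have hCle : CA ≤ CB := inf_le_inf_left _ (centralizer_le hBA)
  by_cases hua : a * u = u * a
  · -- `u` is fixed by `A`
    have he : ∀ i : ℕ, a ^ i * u * (a ^ i)⁻¹ = u := fun i => by
      rw [mul_inv_eq_iff_eq_mul]; exact (Commute.pow_left hua i).eq
    simp only [he, List.map_const', List.length_range, List.prod_replicate]
    exact subset_closure ⟨u, hu, rfl⟩
  have hV : IsPGroup p V := T.isPGroup'.to_le (s.V_le.trans s.Q_le)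
  have hstrict : p * Nat.card CA ≤ Nat.card CB := by
    obtain ⟨k, hk⟩ := IsPGroup.iff_card.mp (hV.to_le (inf_le_left : CB ≤ V))
    obtain ⟨j, hj, hj'⟩ := (Nat.dvd_prime_pow hp.out).mp (hk ▸ card_dvd_of_le hCle)
    have hne : j ≠ k := fun e => by
      have hmem : u ∈ CA := (eq_of_le_of_card_ge hCle (by rw [hj', e, hk])).symm ▸
        (⟨hu, mem_centralizer_iff.mpr fun b hb => huB b hb⟩ : u ∈ CB)
      exact hua (mem_centralizer_iff.mp hmem.2 a haA)
    rw [hk, hj', ← pow_succ']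
    exact Nat.pow_le_pow_right hp.out.pos (by omega)
  have hmul : B.relIndex A * Q.relIndex B = Q.relIndex A := by
    rw [mul_comm]; exact relIndex_mul_relIndex Q B A hQB hBA
  have hbound : Nat.card V ≤ p * (Q.relIndex B * Nat.card CA) := by
    rw [← mul_assoc, ← hidx, hmul]; exact hA.1.2.2
  have hBeq : B = Q := by
    by_contra hne
    have hBmem : B ∈ offenders (T : Subgroup L) Q V :=
      ⟨lt_of_le_of_ne hQB (Ne.symm hne), hBA.trans hA.1.2.1, hbound.trans (by
        rw [mul_left_comm]; exact Nat.mul_le_mul_left _ hstrict)⟩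
    exact haB (hA.2 hBmem hBA haA)
  rw [hBeq, relIndex_self, one_mul] at hbound
  rw [hBeq] at hap haB
  -- `v ↦ [a, v]`
  let δ : V →* L :=
    { toFun := fun v => a * v * a⁻¹ * (v : L)⁻¹
      map_one' := by simp
      map_mul' := fun v w => by
        show a * (v * w : L) * a⁻¹ * ((v : L) * w)⁻¹ = _
        rw [show a * ((v : L) * w) * a⁻¹ = (a * v * a⁻¹) * (a * w * a⁻¹) by group, mul_inv_rev,
          mul_assoc, mul_assoc (a * v * a⁻¹), ← mul_assoc (a * (w : L) * a⁻¹)]
        congr 1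
        rw [hVc _ (mul_mem (Normal.conj_mem inferInstance _ w.2 a) (inv_mem w.2)) _ (inv_mem v.2)] }
  have hkerCA : δ.ker.map V.subtype ≤ CA := by
    rintro _ ⟨v, hv, rfl⟩
    refine ⟨v.2, mem_centralizer_iff.mpr fun x hx => ?_⟩
    obtain ⟨i, b, hb, rfl⟩ := hgen x hx
    have h1 : Commute a (v : L) :=
      mul_inv_eq_iff_eq_mul.mp (mul_inv_eq_one.mp (MonoidHom.mem_ker.mp hv))
    have h2 : Commute b (v : L) := s.comm b (hBeq ▸ hb) v v.2
    exact ((h1.pow_left i).mul_left h2).eq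
  have hrange : Nat.card δ.range ≤ p := by
    have h1 := δ.ker.index_mul_card
    rw [index_ker] at h1
    refine Nat.le_of_mul_le_mul_right (c := Nat.card δ.ker) ?_ Nat.card_pos
    calc Nat.card δ.range * Nat.card δ.ker = Nat.card V := h1
      _ ≤ p * Nat.card CA := hbound
      _ ≤ p * Nat.card δ.ker := by
        refine Nat.mul_le_mul_left _ ?_
        refine Nat.card_le_card_of_injective (fun v => ⟨⟨v, v.2.1⟩, ?_⟩) fun x y h =>
          Subtype.ext (congrArg (fun w => ((w : V) : L)) (congrArg Subtype.val h))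
        show a * (v : L) * a⁻¹ * (v : L)⁻¹ = 1
        rw [mem_centralizer_iff.mp v.2.2 a haA, mul_inv_cancel_right, mul_inv_cancel]
  set c := δ ⟨u, hu⟩ with hc
  have hcV : c ∈ V := mul_mem (Normal.conj_mem inferInstance u hu a) (inv_mem hu)
  have hcne : c ≠ 1 := fun h => hua (mul_inv_eq_iff_eq_mul.mp (mul_inv_eq_one.mp h))
  have hcp : orderOf c = p := by
    have h1 : orderOf c ∣ Nat.card δ.range := δ.range.orderOf_dvd_natCard ⟨_, rfl⟩
    obtain ⟨k, hk⟩ := hV ⟨c, hcV⟩
    obtain ⟨j, -, hj⟩ := (Nat.dvd_prime_pow hp.out).mp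
      (orderOf_dvd_of_pow_eq_one (show c ^ p ^ k = 1 from congrArg Subtype.val hk))
    have h3 : j ≠ 0 := fun e => hcne (orderOf_eq_one_iff.mp (by rw [hj, e, pow_zero]))
    have h4 : p ^ j ≤ p ^ 1 := by
      rw [pow_one, ← hj]; exact (Nat.le_of_dvd Nat.card_pos h1).trans hrange
    have h5 := (Nat.pow_le_pow_iff_right hp.out.one_lt).mp h4
    rw [hj, show j = 1 by omega, pow_one]
  -- `a` fixes `c`
  have hac : a * c * a⁻¹ = c := by
    have hd : δ ⟨c, hcV⟩ ∈ zpowers c := by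
      have hr : zpowers c = δ.range := eq_of_le_of_card_ge (zpowers_le.mpr ⟨_, rfl⟩)
        (by rw [Nat.card_zpowers, hcp]; exact hrange)
      rw [hr]; exact ⟨_, rfl⟩
    have hmem : a * c * a⁻¹ ∈ zpowers c := by
      have := mul_mem hd (mem_zpowers c)
      rwa [show δ ⟨c, hcV⟩ * c = a * c * a⁻¹ from inv_mul_cancel_right _ _] at this
    rw [mem_zpowers_iff_mem_range_orderOf, Finset.mem_image] at hmem
    obtain ⟨k, -, hk⟩ := hmem
    have hiter : ∀ n : ℕ, a ^ n * c * (a ^ n)⁻¹ = c ^ k ^ n := by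
      intro n
      induction n with
      | zero => simp
      | succ n ih =>
        calc a ^ (n + 1) * c * (a ^ (n + 1))⁻¹ = a * (a ^ n * c * (a ^ n)⁻¹) * a⁻¹ := by
              rw [pow_succ']; group
          _ = _ := by rw [ih, ← conj_pow, ← hk, ← pow_mul, pow_succ']
    have h1 := hiter p
    rw [s.comm _ hap c hcV, mul_inv_cancel_right] at h1
    rw [← hk]
    have h2 : ((k ^ p : ℕ) : ZMod p) = (1 : ℕ) := by
      have h3 := pow_eq_pow_iff_modEq.mp (h1.symm.trans (pow_one c).symm)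
      rw [hcp] at h3
      exact (ZMod.natCast_eq_natCast_iff _ _ p).mpr h3
    rw [Nat.cast_pow, ZMod.pow_card, ZMod.natCast_eq_natCast_iff] at h2
    exact (pow_eq_pow_iff_modEq.mpr (by rw [hcp]; exact h2)).trans (pow_one c)
  by_cases hp2' : p = 2
  · -- a transvection
    exfalso
    subst hp2'
    refine (hp2.resolve_left fun h => h rfl) (involves_of_transvection s hK (hA.1.2.1 haA) haB hap ?_)
    intro v hv w hw hv1 hw1
    have key : ∀ x, ∀ hx : x ∈ V, a * x ≠ x * a → δ ⟨x, hx⟩ = c := by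
      intro x hx hxne
      have hr : zpowers c = δ.range := eq_of_le_of_card_ge (zpowers_le.mpr ⟨_, rfl⟩)
        (by rw [Nat.card_zpowers, hcp]; exact hrange)
      have hmem : δ ⟨x, hx⟩ ∈ zpowers c := hr ▸ ⟨_, rfl⟩
      rw [mem_zpowers_iff_mem_range_orderOf, hcp, Finset.mem_image] at hmem
      obtain ⟨i, hi, hie⟩ := hmem
      rw [Finset.mem_range] at hi
      have hi1 : i = 1 := by
        by_contra h
        have hi0 : i = 0 := by omega
        rw [hi0, pow_zero] at hie
        exact hxne (mul_inv_eq_iff_eq_mul.mp (mul_inv_eq_one.mp hie.symm))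
      rw [← hie, hi1, pow_one]
    have hvw : δ (⟨v, hv⟩ * ⟨w, hw⟩) = 1 := by
      rw [map_mul, key v hv hv1, key w hw hw1, ← pow_two, ← hcp, pow_orderOf_eq_one]
    exact mul_inv_eq_iff_eq_mul.mp (mul_inv_eq_one.mp hvw)
  · -- `p` odd
    have hq : a * (a * u * a⁻¹ * u⁻¹) * a⁻¹ = a * u * a⁻¹ * u⁻¹ := hac
    have hprod : ∀ n : ℕ, ((List.range n).map fun i => a ^ i * u * (a ^ i)⁻¹).prod =
        c ^ (∑ i ∈ Finset.range n, i) * u ^ n := by
      intro n
      induction n with
      | zero => simp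
      | succ n ih =>
        rw [List.range_succ, List.map_append, List.prod_append, List.map_singleton,
          List.prod_singleton, ih, pow_conj_of_quadratic hq, show a * u * a⁻¹ * u⁻¹ = c from rfl,
          Finset.sum_range_succ, pow_add, pow_succ, mul_assoc (c ^ _) (u ^ n),
          ← mul_assoc (u ^ n), hVc _ (pow_mem hu n) _ (pow_mem hcV n)]
        simp only [mul_assoc]
    rw [hprod, Finset.sum_range_id, Nat.mul_div_assoc _ ?_]
    swap
    · obtain ⟨j, hj⟩ := (hp.out.odd_of_ne_two hp2')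
      exact ⟨j, by omega⟩
    rw [pow_mul, ← hcp, pow_orderOf_eq_one, one_pow, one_mul, hcp]
    exact subset_closure ⟨u, hu, rfl⟩

/-- **The local step**: an element of `V` whose stabiliser contains the normalisers of all
`T`-invariant subgroups properly above `Q` is central. -/
theorem central_of_offender (s : Setting T Q V z)
    (hp2 : p ≠ 2 ∨ ¬ Cfsg.Involves (Equiv.Perm (Fin 4)) L)
    (hA : ∃ A ∈ AbelianJ.maxAbIn (T : Subgroup L), ¬ A ≤ Q) : z ∈ center L := by
  classical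
  by_contra hz
  have hK : ∀ K : Subgroup L, K.Normal → K ≤ centralizer ({z} : Set L) →
      (T : Subgroup L) ⊓ K ≤ Q := fun K hKn hKz => by
    by_contra h
    haveI := hKn
    exact hz (s.central_of_normal K hKz h)
  have := s.normalQ
  have hVn := s.normalV
  have := Fintype.ofFinite L
  have hVc : ∀ u ∈ V, ∀ v ∈ V, u * v = v * u := fun u hu v hv => s.comm u (s.V_le hu) v hv
  obtain ⟨A₀, hA₀, hA₀Q⟩ := hA
  let 𝒪 := {B : Subgroup L | Minimal (· ∈ offenders (T : Subgroup L) Q V) B}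
  obtain ⟨B₀, -, hB₀⟩ := (Set.toFinite (offenders (T : Subgroup L) Q V)).exists_le_minimal
    (maxAb_mem_offenders s hA₀ hA₀Q)
  let R := sSup 𝒪
  have hRT : R ≤ (T : Subgroup L) := sSup_le fun B hB => hB.1.2.1
  have hQR : Q < R := hB₀.1.1.trans_le (le_sSup hB₀)
  have hconj : ∀ g : L, R.map (MulAut.conj g).toMonoidHom ≤ (T : Subgroup L) →
      R.map (MulAut.conj g).toMonoidHom ≤ R := by
    intro g hg
    rw [map_le_iff_le_comap]
    refine sSup_le fun B hB => map_le_iff_le_comap.mp (le_sSup ?_)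
    have hgB := (map_mono (le_sSup hB)).trans hg
    refine ⟨map_conj_mem_offenders hB.1 hgB, fun D hD hle => ?_⟩
    have hD' : D.map (MulAut.conj g⁻¹).toMonoidHom ≤ B := by
      rintro _ ⟨d, hd, rfl⟩
      obtain ⟨b, hb, rfl⟩ := hle hd
      show g⁻¹ * (g * b * g⁻¹) * g⁻¹⁻¹ ∈ B
      simpa [mul_assoc] using hb
    have heq := le_antisymm hD' (hB.2 (map_conj_mem_offenders hD (hD'.trans hB.1.2.1)) hD')
    rintro _ ⟨b, hb, rfl⟩
    obtain ⟨d, hd, hde⟩ := heq.ge hb
    rw [← hde]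
    show g * (g⁻¹ * d * g⁻¹⁻¹) * g⁻¹ ∈ D
    simpa [mul_assoc] using hd
  have hTR : (T : Subgroup L) ≤ normalizer (R : Set L) := fun t ht =>
    mem_normalizer_fintype fun x hx => hconj t (by
      rintro _ ⟨y, hy, rfl⟩
      exact (T : Subgroup L).mul_mem ((T : Subgroup L).mul_mem ht (hRT hy)) (inv_mem ht))
      ⟨x, hx, rfl⟩
  have hNR := s.norm R hRT hTR hQR
  -- `z` is the only conjugate of `z` fixed by `R`
  have hfix : ∀ x : L, (∀ r ∈ R, r * (x * z * x⁻¹) = x * z * x⁻¹ * r) → x * z * x⁻¹ = z := by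
    intro x hx
    let H := centralizer ({z} : Set L)
    have hle : R.map (MulAut.conj x⁻¹).toMonoidHom ≤ H := by
      rintro _ ⟨r, hr, rfl⟩
      show x⁻¹ * r * x⁻¹⁻¹ ∈ H
      refine mem_centralizer_singleton_iff.mpr ?_
      calc x⁻¹ * r * x⁻¹⁻¹ * z = x⁻¹ * (r * (x * z * x⁻¹)) * x := by group
        _ = x⁻¹ * (x * z * x⁻¹ * r) * x := by rw [hx r hr]
        _ = z * (x⁻¹ * r * x⁻¹⁻¹) := by group
    let X := R.map (MulAut.conj x⁻¹).toMonoidHom
    have hXp : IsPGroup p (X.subgroupOf H) :=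
      IsPGroup.of_equiv ((T.isPGroup'.to_le hRT).map _) (subgroupOfEquivOfLe hle).symm
    obtain ⟨P, hP⟩ := hXp.exists_le_sylow
    obtain ⟨h, hh⟩ := MulAction.exists_smul_eq H P (T.subtype s.sylow_le)
    have hmap : R.map (MulAut.conj ((h : L) * x⁻¹)).toMonoidHom ≤ (T : Subgroup L) := by
      rintro _ ⟨r, hr, rfl⟩
      have h1 : (⟨_, hle ⟨r, hr, rfl⟩⟩ : H) ∈ (P : Subgroup H) := hP ⟨r, hr, rfl⟩
      have h2 : h * ⟨_, hle ⟨r, hr, rfl⟩⟩ * h⁻¹ ∈ ((T.subtype s.sylow_le : Sylow p H) : Subgroup H) := by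
        rw [← hh]
        exact Subgroup.smul_mem_pointwise_smul _ (MulAut.conj h) _ h1
      rw [Sylow.coe_subtype, mem_subgroupOf] at h2
      show (h : L) * x⁻¹ * r * ((h : L) * x⁻¹)⁻¹ ∈ (T : Subgroup L)
      convert h2 using 1
      simp [MulAut.conj_apply, mul_assoc]
    have h3 : (h : L) * x⁻¹ ∈ normalizer (R : Set L) :=
      mem_normalizer_fintype fun r hr => hconj _ hmap ⟨r, hr, rfl⟩
    have h4 : x⁻¹ ∈ H := (H.mul_mem_cancel_left h.2).mp (hNR h3)
    have h5 := mem_centralizer_singleton_iff.mp (inv_mem_iff.mp h4)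
    rw [h5, mul_inv_cancel_right]
  -- the orbit of `z`
  letI iV : CommGroup V :=
    { V.toGroup with mul_comm := fun x y => Subtype.ext (hVc _ x.2 _ y.2) }
  let ρ : L →* MulAut V := MulAut.conjNormal
  have hρ : ∀ (g : L) (v : V), (ρ g v : L) = g * v * g⁻¹ := MulAut.conjNormal_apply
  let Ω : Finset V := Finset.univ.image fun x => ρ x ⟨z, s.mem⟩
  have hzΩ : (⟨z, s.mem⟩ : V) ∈ Ω := Finset.mem_image.mpr ⟨1, Finset.mem_univ _, by simp⟩
  have hinvΩ : ∀ g, ∀ w ∈ Ω, ρ g w ∈ Ω := fun g w hw => by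
    obtain ⟨x, -, rfl⟩ := Finset.mem_image.mp hw
    exact Finset.mem_image.mpr ⟨g * x, Finset.mem_univ _, by rw [map_mul, MulAut.mul_apply]⟩
  set P := ∏ w ∈ Ω, w with hPdef
  have hPfix : ∀ g, ρ g P = P := fun g => by
    rw [hPdef, map_prod]
    refine Finset.prod_bij (fun w _ => ρ g w) (fun w hw => hinvΩ g w hw)
      (fun _ _ _ _ e => (ρ g).injective e) (fun w hw => ⟨ρ g⁻¹ w, hinvΩ _ w hw, ?_⟩) fun _ _ => rfl
    rw [← MulAut.mul_apply, ← map_mul, mul_inv_cancel, map_one, MulAut.one_apply]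
  let Zag : Subgroup V := (agemo p V).subgroupOf V
  have hrest : ∏ w ∈ Ω.erase ⟨z, s.mem⟩, w ∈ Zag := by
    refine prod_mem_of_no_fixed (R := R) (T.isPGroup'.to_le hRT) (ρ.comp R.subtype) Zag ?_ _ ?_ ?_
    · intro R₁ hR₁ hidx
      haveI := hR₁
      obtain ⟨A, hA, hAR⟩ : ∃ A ∈ 𝒪, ¬ A.subgroupOf R ≤ R₁ := by
        by_contra hc
        push Not at hc
        have htop : R₁ = ⊤ := top_le_iff.mp fun r _ => by
          have hle : R ≤ R₁.map R.subtype := sSup_le fun A hA a ha =>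
            ⟨⟨a, le_sSup hA ha⟩, hc A hA ha, rfl⟩
          obtain ⟨r', hr', e⟩ := hle r.2
          rwa [Subtype.ext e] at hr'
        rw [htop, index_top] at hidx
        exact hp.out.one_lt.ne hidx
      obtain ⟨a, haA, haR⟩ := SetLike.not_le_iff_exists.mp hAR
      refine ⟨a, haR, fun u hu => ?_⟩
      have hAR' : A ≤ R := le_sSup hA
      let B := A ⊓ R₁.map R.subtype
      have hQ1 : ∀ q : R, (q : L) ∈ Q → ρ q u = u := fun q hq =>
        Subtype.ext (by rw [hρ, s.comm q hq u u.2, mul_inv_cancel_right])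
      -- we may enlarge `R₁` by `Q`
      have haux : ∀ b ∈ B ⊔ Q, b * (u : L) = u * b := by
        have hle : B ⊔ Q ≤ centralizer ({(u : L)} : Set L) := by
          refine sup_le ?_ fun q hq => mem_centralizer_singleton_iff.mpr (s.comm q hq u u.2)
          rintro _ ⟨-, r, hr, rfl⟩
          refine mem_centralizer_singleton_iff.mpr ?_
          have := congrArg Subtype.val (hu r hr)
          rw [MonoidHom.comp_apply, hρ] at this
          exact mul_inv_eq_iff_eq_mul.mp this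
        exact fun b hb => mem_centralizer_singleton_iff.mp (hle hb)
      by_cases haBQ : (a : L) ∈ B ⊔ Q
      · -- `a` fixes `u`
        have he : ∀ i : ℕ, (ρ.comp R.subtype) (a ^ i) u = u := fun i => Subtype.ext (by
          rw [MonoidHom.comp_apply, hρ, map_pow, mul_inv_eq_iff_eq_mul]
          exact (Commute.pow_left (haux _ haBQ) i).eq)
        rw [Finset.prod_congr rfl fun i _ => he i, Finset.prod_const, Finset.card_range]
        exact mem_subgroupOf.mpr (subset_closure ⟨u, u.2, rfl⟩)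
      · have hpow : ∀ x ∈ A, ∃ i : ℕ, ∃ b ∈ B ⊔ Q, x = (a : L) ^ i * b := by
          intro x hx
          have hq : (⟨x, hAR' hx⟩ : R) ∈ zpowers a ⊔ R₁ := by
            have htop : zpowers (a : R ⧸ R₁) = ⊤ := by
              refine eq_top_of_card_eq _ ?_
              rw [Nat.card_zpowers, ← index_eq_card, hidx]
              exact orderOf_eq_prime (by rw [← hidx, index_eq_card]; exact pow_card_eq_one')
                fun e => haR ((QuotientGroup.eq_one_iff a).mp e)
            have h1 : ((⟨x, hAR' hx⟩ : R) : R ⧸ R₁) ∈ zpowers (a : R ⧸ R₁) := htop ▸ mem_top _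
            rw [mem_zpowers_iff] at h1
            obtain ⟨i, hi⟩ := h1
            have h2 := mul_mem (mem_sup_left (T := R₁) (zpow_mem (mem_zpowers a) i))
              (mem_sup_right (S := zpowers a) (QuotientGroup.eq.mp
                (show ((a ^ i : R) : R ⧸ R₁) = _ from (QuotientGroup.mk_zpow R₁ a i).trans hi)))
            rwa [mul_inv_cancel_left] at h2
          have hq' : (⟨x, hAR' hx⟩ : R) ∈ ((zpowers a ⊔ R₁ : Subgroup R) : Set R) := hq
          rw [mul_normal] at hq'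
          obtain ⟨y, hy, r, hr, he⟩ := hq'
          obtain ⟨i, -, rfl⟩ := Finset.mem_image.mp (mem_zpowers_iff_mem_range_orderOf.mp hy)
          have he' : (a : L) ^ i * (r : L) = x := congrArg Subtype.val he
          refine ⟨i, r, mem_sup_left ⟨?_, r, hr, rfl⟩, he'.symm⟩
          rw [← eq_inv_mul_iff_mul_eq] at he'
          rw [he']
          exact A.mul_mem (A.inv_mem (A.pow_mem haA i)) hx
        have hQA : Q ≤ A := hA.1.1.le
        have hap : (a : L) ^ p ∈ B := ⟨pow_mem haA p, a ^ p, by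
          rw [← hidx]; exact R₁.pow_index_mem a, rfl⟩
        have hrel : (B ⊔ Q).relIndex A = p := by
          have h1 : (B ⊔ Q).relIndex A ∣ p := by
            refine (relIndex_dvd_of_le_left A (le_sup_left : B ≤ B ⊔ Q)).trans ?_
            show (A ⊓ R₁.map R.subtype).relIndex A ∣ p
            rw [inf_relIndex_left, ← hidx]
            refine dvd_trans (dvd_of_eq ?_) (relIndex_dvd_index_of_normal R₁ (A.subgroupOf R))
            rw [← relIndex_map_map_of_injective R₁ (A.subgroupOf R) R.subtype_injective,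
              map_subgroupOf_eq_of_le hAR']
          rcases (Nat.dvd_prime hp.out).mp h1 with h | h
          · exact absurd (relIndex_eq_one.mp h haA) haBQ
          · exact h
        have hfin := prod_conj_mem s hp2 hK hA (sup_le inf_le_left hQA) le_sup_right hrel haA haBQ
          (mem_sup_left hap) hpow u.2 haux
        refine mem_subgroupOf.mpr ?_
        have hcoe : ∀ n : ℕ, ((∏ i ∈ Finset.range n, (ρ.comp R.subtype) (a ^ i) u : V) : L) =
            ((List.range n).map fun i => (a : L) ^ i * u * ((a : L) ^ i)⁻¹).prod := by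
          intro n
          induction n with
          | zero => simp
          | succ n ih =>
            rw [Finset.prod_range_succ, List.range_succ, List.map_append, List.prod_append,
              List.map_singleton, List.prod_singleton, Subgroup.coe_mul, ih, MonoidHom.comp_apply,
              hρ, map_pow]
            rfl
        rw [hcoe]; exact hfin
    · intro r w hw
      obtain ⟨hne, hw'⟩ := Finset.mem_erase.mp hw
      refine Finset.mem_erase.mpr ⟨fun e => hne ?_, hinvΩ r w hw'⟩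
      have h1 : ρ r (⟨z, s.mem⟩ : V) = ⟨z, s.mem⟩ := Subtype.ext (by
        rw [hρ, s.fixed r (hRT r.2), mul_inv_cancel_right])
      exact (ρ r).injective (e.trans h1.symm)
    · intro w hw
      obtain ⟨hne, hw'⟩ := Finset.mem_erase.mp hw
      obtain ⟨x, -, rfl⟩ := Finset.mem_image.mp hw'
      by_contra hc
      push Not at hc
      refine hne (Subtype.ext ?_)
      rw [hρ]
      refine hfix x fun r hr => ?_
      have := congrArg Subtype.val (hc ⟨r, hr⟩)
      rw [MonoidHom.comp_apply, hρ, hρ] at this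
      exact mul_inv_eq_iff_eq_mul.mp this
  obtain ⟨g, hgT, hgQ, hq⟩ := exists_quadratic s ⟨A₀, hA₀, hA₀Q⟩
  haveI := agemo_normal (p := p) V
  refine exists_mem_centralizer_agemo s hgT hgQ hq
    (hK _ inferInstance fun k hk => mem_centralizer_singleton_iff.mpr ?_)
  have h1 : (k * (P : L)) = P * k := by
    have := congrArg Subtype.val (hPfix k)
    rw [hρ] at this
    exact mul_inv_eq_iff_eq_mul.mp this
  have h2 := (mem_centralizer_iff.mp hk _ (mem_subgroupOf.mp hrest)).symm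
  have hzeq : z = (P : L) * ((∏ w ∈ Ω.erase ⟨z, s.mem⟩, w : V) : L)⁻¹ := by
    rw [hPdef, ← Finset.mul_prod_erase Ω _ hzΩ, Subgroup.coe_mul, mul_inv_cancel_right]
  rw [hzeq]
  exact (Commute.mul_right h1 (Commute.inv_right h2)).eq

end Main

end Cfsg.Agent.Lib.Transfer.OffenderNorm
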