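import Cfsg.Agent.Lib.Transfer.FusionThompson
import Cfsg.Agent.Lib.Transfer.OffenderNorm
import Cfsg.Agent.Lib.FusionAlperin.Join

/-!
# Central elements of a saturated fusion system by downward induction on normalisers

* `fix_all` : an element of `Z(S)` is fixed by all maps when it is fixed in every local step.
* `fix_all_functor`, `fix_all_thompson` : the steps for a functor with quadratic elements and for the
  abelian Thompson subgroup.
-/

set_option autoImplicit false
set_option linter.unusedSectionVars false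

namespace Cfsg.Agent.Lib.Transfer.FusionFix

open Cfsg Cfsg.FusionSystem Cfsg.Agent.Lib.FS Cfsg.Agent.Lib.Transfer.FusionLocal

universe u

variable {Ω : Type u} [Group Ω] {S : Subgroup Ω} [Finite S] {p : ℕ} [hp : Fact p.Prime]
  {F : FusionSystem S}

/-- `Aut_F(X)` fixes `z`. -/
def Fixes (F : FusionSystem S) (z : Ω) (X : Subgroup Ω) : Prop :=
  ∀ α ∈ F.autGroup X, ∀ x : X, (x : Ω) = z → (α x : Ω) = z

/-- An automorphism of a fully normalized subgroup which is not centric extends. -/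
theorem exists_aut_extend (hS : IsPGroup p S) (hF : F.IsSaturated p) {R : Subgroup Ω}
    (hR : F.IsFullyNormalized R) (hc : ¬ F.IsCentric R) {α : MulAut R} (hα : α ∈ F.autGroup R) :
    ∃ U : Subgroup Ω, U ≤ S ∧ R < U ∧ normalizerIn S R ≤ normalizerIn S U ∧
      ∃ β ∈ F.autGroup U, ∃ h : R ≤ U, ∀ x : R, ((β ⟨x, h x.2⟩ : U) : Ω) = (α x : Ω) := by
  obtain ⟨hfc, -, hrec⟩ := fullyNormalized_props hS hF hR
  let C := centralizerIn S R
  let U := R ⊔ C
  have hUS : U ≤ S := sup_le hR.1 (centralizerIn_le R)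
  have hlt : R < U := left_lt_sup.mpr fun h =>
    hc (FusionP3.Induction.isCentric_of_centralizerIn_le hfc h)
  have hN : normalizerIn S R ≤ normalizerIn S U := by
    rintro g ⟨hg, hgX⟩
    haveI := finite_sub hUS
    refine ⟨hg, mem_normalizer_of_conj_mem fun x hx => ?_⟩
    have hle : U ≤ U.comap (MulAut.conj g).toMonoidHom := by
      refine sup_le (fun y hy => Subgroup.mem_sup_left ((Subgroup.mem_normalizer_iff.mp hgX y).mp hy))
        (fun y hy => Subgroup.mem_sup_right (mem_centralizerIn.mpr ?_))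
      obtain ⟨hyS, hyc⟩ := mem_centralizerIn.mp hy
      refine ⟨S.mul_mem (S.mul_mem hg hyS) (S.inv_mem hg), fun z hz => ?_⟩
      have h1 := hyc _ ((Subgroup.mem_normalizer_iff''.mp hgX z).mp hz)
      calc z * (g * y * g⁻¹) = g * ((g⁻¹ * z * g) * y) * g⁻¹ := by group
        _ = g * (y * (g⁻¹ * z * g)) * g⁻¹ := by rw [h1]
        _ = (g * y * g⁻¹) * z := by group
    exact hle hx
  obtain ⟨φ, hφ, hr, he⟩ := exists_hom_of_aut hR.1 hα
  obtain ⟨ψ, hψ, hext⟩ := hrec.2 R φ hφ hr
  have hUe : U ≤ extender S R φ :=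
    sup_le (le_extender hR.1 (apply_mem hφ)) (centralizerIn_le_extender R φ)
  obtain ⟨χ, hχ, hχe⟩ := exists_restrict hψ hUe
  have hχX : ∀ (x : R), χ (Subgroup.inclusion le_sup_left x) = φ x := fun x => by
    rw [hχe]; exact hext x x.2 (hUe (Subgroup.mem_sup_left x.2))
  have hχU : ∀ u : U, χ u ∈ U := by
    have hle : (⊤ : Subgroup U) ≤ U.comap χ := by
      rw [← Subgroup.subgroupOf_self U]
      show (R ⊔ C).subgroupOf U ≤ _
      rw [Subgroup.subgroupOf_sup le_sup_left le_sup_right]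
      refine sup_le (fun x hx => ?_) (fun c hc => Subgroup.mem_sup_right ?_)
      · exact Subgroup.mem_sup_left (by
          rw [show x = Subgroup.inclusion le_sup_left ⟨(x : Ω), hx⟩ from rfl, hχX]
          exact hr.le ⟨_, rfl⟩)
      · refine mem_centralizerIn.mpr ⟨apply_mem hχ c, fun y hy => ?_⟩
        obtain ⟨x, rfl⟩ := hr.ge hy
        rw [← hχX, ← map_mul, ← map_mul]
        exact congrArg χ (Subtype.ext ((mem_centralizerIn.mp hc).2 (x : Ω) x.2))
    exact fun u => hle (Subgroup.mem_top u)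
  haveI := finite_sub hUS
  let β : MulAut U := MulEquiv.ofBijective (χ.codRestrict U hχU)
    (Finite.injective_iff_bijective.mp fun a b h =>
      F.injective_of_mem hχ (congrArg Subtype.val h))
  exact ⟨U, hUS, hlt, hN, β, mem_autGroup_of_hom hχ fun _ => rfl, le_sup_left,
    fun x => (hχX x).trans (he x)⟩

/-- The downward induction. -/
theorem fix_all (hS : IsPGroup p S) (hF : F.IsSaturated p) {z : Ω} (hzS : z ∈ S)
    (hzc : ∀ s ∈ S, s * z = z * s)
    (step : ∀ Q : Subgroup Ω, F.IsFullyNormalized Q → F.IsCentric Q →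
      (∀ X : Subgroup Ω, X ≤ S → Nat.card (normalizerIn S Q) ≤ Nat.card (normalizerIn S X) →
        (Nat.card (normalizerIn S Q) < Nat.card (normalizerIn S X) ∨ Nat.card Q < Nat.card X) →
        Fixes F z X) → Fixes F z Q) :
    ∀ (P : Subgroup Ω) (φ : P →* Ω), φ ∈ F.Hom P → ∀ x : P, (x : Ω) = z → φ x = z := by
  have H : ∀ (d e : ℕ) (X : Subgroup Ω), X ≤ S →
      Nat.card S - Nat.card (normalizerIn S X) = d → Nat.card S - Nat.card X = e →
      Fixes F z X := by
    intro d
    induction d using Nat.strong_induction_on with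
    | _ d ihd =>
    intro e
    induction e using Nat.strong_induction_on with
    | _ e ihe =>
    intro X hXS hd he
    haveI := finite_sub hXS
    have hbig : ∀ Y : Subgroup Ω, Y ≤ S →
        Nat.card (normalizerIn S X) ≤ Nat.card (normalizerIn S Y) →
        (Nat.card (normalizerIn S X) < Nat.card (normalizerIn S Y) ∨ Nat.card X < Nat.card Y) →
        Fixes F z Y := by
      intro Y hY h1 h2
      have h3 : Nat.card (normalizerIn S Y) ≤ Nat.card S :=
        Subgroup.card_le_of_le (normalizerIn_le Y)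
      by_cases h4 : Nat.card (normalizerIn S X) < Nat.card (normalizerIn S Y)
      · exact ihd _ (by omega) _ Y hY rfl rfl
      · have h5 := h2.resolve_left h4
        have h6 : Nat.card Y ≤ Nat.card S := Subgroup.card_le_of_le hY
        exact ihe (Nat.card S - Nat.card Y) (by omega) Y hY (by omega) rfl
    by_cases hXeq : X = S
    · subst hXeq
      refine step X (isFullyNormalized_base F) ⟨le_rfl, fun R hR => ?_⟩ hbig
      have : R = X := Subgroup.eq_of_le_of_card_ge (isConj_le_right hR) (isConj_card hR).ge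
      rw [this]; exact centralizerIn_le X
    have hXlt : X < S := lt_of_le_of_ne hXS hXeq
    have hcardX : Nat.card X < Nat.card S := lt_of_le_of_ne (Subgroup.card_le_of_le hXS)
      fun h => hXeq (Subgroup.eq_of_le_of_card_ge hXS h.ge)
    -- maps with large source fix `z`
    set k := Nat.card (normalizerIn S X)
    have hkS : k ≤ Nat.card S := Subgroup.card_le_of_le (normalizerIn_le X)
    have hmaps : ∀ (P : Subgroup Ω) (φ : P →* Ω), φ ∈ F.Hom P → k ≤ Nat.card P →
        ∀ x : P, (x : Ω) = z → φ x = z := by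
      refine essential_induction hS hF (M := fun P φ => k ≤ Nat.card P → ∀ x : P, (x : Ω) = z → φ x = z)
        ?_ ?_ ?_
      · intro P Q φ ψ χ hφ hψ hv hχ h1 h2 hk x hx
        rw [hχ]
        refine h2 ?_ _ (h1 hk x hx)
        haveI := finite_sub (src_le hψ)
        exact hk.trans (Nat.card_le_card_of_injective (fun y => (⟨φ y, hv y⟩ : Q))
          fun a b h => F.injective_of_mem hφ (congrArg Subtype.val h))
      · intro P Q φ ψ hle hψ heq h1 hk x hx
        haveI := finite_sub (src_le hψ)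
        rw [heq]
        exact h1 (hk.trans (Subgroup.card_le_of_le hle)) _ hx
      · intro P hP α hα hk x hx
        have hPS : P ≤ S := by
          rcases hP with rfl | h
          · exact le_rfl
          · exact h.2.1.1
        haveI := finite_sub (normalizerIn_le (S := S) P)
        refine hbig P hPS ?_ ?_ α hα x hx
        · exact hk.trans (Subgroup.card_le_of_le (le_normalizerIn hPS))
        · rcases eq_or_lt_of_le hPS with rfl | hlt
          · exact Or.inr hcardX
          · haveI := finite_sub (normalizerIn_le (S := S) P)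
            have h1 := normalizerIn_ne_of_lt hS hlt
            exact Or.inl (lt_of_le_of_lt hk (lt_of_le_of_ne (Subgroup.card_le_of_le h1.le)
              fun h => h1.ne (Subgroup.eq_of_le_of_card_ge h1.le h.ge)))
    intro α hα x hx
    obtain ⟨R, hXR, hRn⟩ := exists_isFullyNormalized F hXS
    haveI := finite_sub hRn.1
    have hnR := hRn.2 X (isConj_symm hXR)
    have hcR := isConj_card hXR
    have hRfix : Fixes F z R := by
      by_cases hlt : k < Nat.card (normalizerIn S R)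
      · exact hbig R hRn.1 hnR (Or.inl hlt)
      by_cases hRc : F.IsCentric R
      · exact step R hRn hRc fun Y hY h1 h2 => hbig Y hY (hnR.trans h1) (by omega)
      intro β hβ y hy
      obtain ⟨U, hUS, hRU, hNU, γ, hγ, hle, hγe⟩ := exists_aut_extend hS hF hRn hRc hβ
      rw [← hγe]
      haveI := finite_sub hUS
      haveI := finite_sub (normalizerIn_le (S := S) U)
      refine hbig U hUS (hnR.trans (Subgroup.card_le_of_le hNU)) (Or.inr ?_) γ hγ _ hy
      rw [← hcR]
      exact lt_of_le_of_ne (Subgroup.card_le_of_le hRU.le)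
        fun h => hRU.ne (Subgroup.eq_of_le_of_card_ge hRU.le h.ge)
    -- transport along a map defined on `N_S(X)`
    obtain ⟨ψ, hψ, -, hψX⟩ := exists_normalizer_map hS hF hRn hXR
    obtain ⟨φ, hφ, hφe⟩ := exists_restrict hψ (le_normalizerIn hXS)
    have hr : φ.range = R := by
      rw [← hψX]
      ext w
      constructor
      · rintro ⟨y, rfl⟩; exact ⟨⟨y, le_normalizerIn hXS y.2⟩, y.2, (hφe y).symm⟩
      · rintro ⟨y, hy, rfl⟩; exact ⟨⟨y, hy⟩, hφe _⟩
    have hφz : φ x = z := by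
      rw [hφe]; exact hmaps _ ψ hψ le_rfl _ hx
    let e := homEquiv hφ hr
    have hβ : e.symm.trans ((α : X ≃* X).trans e) ∈ F.autGroup R := by
      have hm := congr_mem_autGroup hφ hr hα
      exact hm
    have h1 := hRfix _ hβ (e x) hφz
    have h2 : φ (α x) = φ x := by
      rw [hφz, ← h1]
      show φ (α x) = φ (α (e.symm (e x)))
      rw [MulEquiv.symm_apply_apply]
    rw [F.injective_of_mem hφ h2]
    exact hx
  intro P φ hφ x hx
  refine essential_induction hS hF (M := fun P φ => ∀ x : P, (x : Ω) = z → φ x = z)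
    ?_ ?_ ?_ P φ hφ x hx
  · intro P Q φ ψ χ _ _ hv hχ h1 h2 x hx
    rw [hχ]; exact h2 _ (h1 x hx)
  · intro P Q φ ψ hle _ heq h1 x hx
    rw [heq]; exact h1 _ hx
  · intro P hP α hα x hx
    have hPS : P ≤ S := by
      rcases hP with rfl | h
      · exact le_rfl
      · exact h.2.1.1
    exact H _ _ P hPS rfl rfl α hα x hx

/-- Elements fixed by all maps lie in the centre. -/
theorem le_center_of_fixed (hS : IsPGroup p S) (hF : F.IsSaturated p) {Z : Subgroup Ω} (hZ : Z ≤ S)
    (h : ∀ z ∈ Z, ∀ (P : Subgroup Ω) (φ : P →* Ω), φ ∈ F.Hom P → ∀ x : P, (x : Ω) = z → φ x = z) :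
    Z ≤ F.center :=
  le_sSup ((isCentral_iff hS hF).mpr ⟨hZ, fun x hx y ⟨φ, hφ, hy⟩ =>
    hy ▸ h x hx _ φ hφ ⟨x, Subgroup.mem_zpowers x⟩ rfl⟩)

/-! ### The centre of `N_F(X)` -/

theorem mem_center_normalizerSystem {X : Subgroup Ω} {N : FusionSystem (normalizerIn S X)} {z : Ω}
    (hz : z ∈ N.center) :
    z ∈ normalizerIn S X ∧ ∀ (P : Subgroup Ω) (φ : P →* Ω), φ ∈ N.Hom P →
      ∀ x : P, (x : Ω) = z → φ x = z := by
  haveI : Finite (normalizerIn S X) := finite_sub (normalizerIn_le X)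
  have hcen := FusionAlperin.Join.isCentral_center N
  refine ⟨hcen.1 hz, fun P φ hφ x hx => ?_⟩
  obtain ⟨ψ, -, he, hfix⟩ := hcen.2 P φ hφ
  rw [← he, show (Subgroup.inclusion le_sup_left x : ↥(P ⊔ N.center)) =
    Subgroup.inclusion le_sup_right ⟨z, hz⟩ from Subtype.ext hx]
  exact hfix ⟨z, hz⟩

theorem fixes_of_mem_center {X : Subgroup Ω} (hX : X ≤ S) (hSX : S ≤ Subgroup.normalizer (X : Set Ω))
    {N : FusionSystem (normalizerIn S X)} (hN : F.IsNormalizerSystem X N) {z : Ω}
    (hz : z ∈ N.center) : (z ∈ S ∧ ∀ s ∈ S, s * z = z * s) ∧ Fixes F z X := by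
  obtain ⟨hzN, hfix⟩ := mem_center_normalizerSystem hz
  refine ⟨⟨hzN.1, fun s hs => ?_⟩, fun α hα x hx => ?_⟩
  · have h1 := hfix _ (conjHom (Subgroup.zpowers z) s)
      (N.conj_mem (Subgroup.zpowers_le.mpr hzN) ⟨hs, hSX hs⟩) ⟨z, Subgroup.mem_zpowers z⟩ rfl
    exact mul_inv_eq_iff_eq_mul.mp h1
  · refine hfix X (X.subtype.comp α.toMonoidHom) ?_ x hx
    rw [hN X]
    exact FusionLocal.aut_mem_normalizerHom hX hα

/-- `Z(F) ≤ Z(N_F(X))` when `S` normalises `X`. -/
theorem center_le_normalizerSystem {X : Subgroup Ω} (hX : X ≤ S)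
    (hSX : S ≤ Subgroup.normalizer (X : Set Ω)) {N : FusionSystem (normalizerIn S X)}
    (hN : F.IsNormalizerSystem X N) : F.center ≤ N.center := by
  have hcen := FusionAlperin.Join.isCentral_center F
  set Z := F.center
  have hle : ∀ {P : Subgroup Ω}, P ≤ S → P ≤ normalizerIn S X := fun hP => le_inf hP (hP.trans hSX)
  refine le_sSup ⟨hle hcen.1, fun P φ hφ => ?_⟩
  rw [hN P] at hφ
  obtain ⟨-, hP, -, ψ, hψ, he, hXψ⟩ := hφ
  obtain ⟨χ, hχ, hce, hcfix⟩ := hcen.2 (P ⊔ X) ψ hψ
  have hPZ : P ⊔ Z ≤ (P ⊔ X) ⊔ Z := sup_le_sup_right le_sup_left _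
  obtain ⟨φ', hφ', hφe⟩ := exists_restrict hχ hPZ
  refine ⟨φ', ?_, fun x => ?_, fun x => ?_⟩
  · rw [hN]
    have hle2 : (P ⊔ Z) ⊔ X ≤ (P ⊔ X) ⊔ Z :=
      sup_le hPZ (le_sup_right.trans le_sup_left)
    obtain ⟨χ', hχ', hχe⟩ := exists_restrict hχ hle2
    refine ⟨hφ', hle (src_le hφ'), fun x => ⟨apply_mem hφ' x, hSX (apply_mem hφ' x)⟩, χ', hχ',
      fun x => ?_, ?_⟩
    · rw [hχe, hφe]; rfl
    · conv_rhs => rw [← hXψ]
      ext y
      constructor
      · rintro ⟨w, hw, rfl⟩
        refine ⟨⟨w, Subgroup.mem_sup_right hw⟩, hw, ?_⟩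
        rw [hχe, ← hce]; rfl
      · rintro ⟨w, hw, rfl⟩
        refine ⟨⟨w, Subgroup.mem_sup_right hw⟩, hw, ?_⟩
        rw [hχe, ← hce]; rfl
  · rw [hφe, ← he, ← hce]; rfl
  · rw [hφe]; exact hcfix x

/-! ### The local steps -/

section Step

variable {Q : Subgroup Ω} {G : Type u} [Group G] {ι : normalizerIn S Q →* G} {z : Ω}

theorem fixes_of_central (L : Local F p Q ι) (hQS : Q ≤ S) (hzQ : z ∈ Q)
    (h : ι ⟨z, L.le hzQ⟩ ∈ Subgroup.center G) : Fixes F z Q := by
  intro α hα x hx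
  obtain ⟨g, hg⟩ := L.lift α hα
  have h1 := hg x (L.le x.2) (L.le (α x).2)
  rw [show (⟨(x : Ω), L.le x.2⟩ : normalizerIn S Q) = ⟨z, L.le hzQ⟩ from Subtype.ext hx,
    Subgroup.mem_center_iff.mp h g, mul_inv_cancel_right] at h1
  exact congrArg Subtype.val (L.injective h1)

/-- The normaliser of the image of a subgroup with `Fixes` centralises `z`. -/
theorem commute_of_fixes (L : Local F p Q ι) {X : Subgroup Ω} (hX : X ≤ normalizerIn S Q)
    (hzX : z ∈ X) (hfix : Fixes F z X) :
    Subgroup.normalizer (((X.subgroupOf (normalizerIn S Q)).map ι : Subgroup G) : Set G) ≤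
      Subgroup.centralizer ({ι ⟨z, hX hzX⟩} : Set G) := by
  intro g hg
  obtain ⟨φ, hφ, hr, he⟩ := L.hom X hX g hg
  have h1 := he ⟨z, hzX⟩ (hX hzX) (hφ.2.2.1 _)
  have h2 : φ ⟨z, hzX⟩ = z :=
    hfix _ (homEquiv_mem_autGroup hφ.1 hr) ⟨z, hzX⟩ rfl
  simp only [h2] at h1
  exact Subgroup.mem_centralizer_singleton_iff.mpr (mul_inv_eq_iff_eq_mul.mp h1.symm)

theorem map_le_pCore (L : Local F p Q ι) (hS : IsPGroup p S) :
    (Q.subgroupOf (normalizerIn S Q)).map ι ≤ Cfsg.pCore p G := by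
  haveI := L.finite
  haveI := L.normal
  exact Cores.le_pCore (((hS.to_le (normalizerIn_le Q)).to_subgroup _).map ι)

theorem setting_of_local (L : Local F p Q ι) (hS : IsPGroup p S) (hQS : Q ≤ S) (hzQ : z ∈ Q)
    (hzc : ∀ s ∈ S, s * z = z * s)
    (hind : ∀ X : Subgroup Ω, X ≤ S → Nat.card (normalizerIn S Q) ≤ Nat.card (normalizerIn S X) →
      (Nat.card (normalizerIn S Q) < Nat.card (normalizerIn S X) ∨ Nat.card Q < Nat.card X) →
      Fixes F z X) :
    haveI := L.finite
    ∀ T : Sylow p G, (T : Subgroup G) = ι.range →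
      OffenderNorm.Setting T (Cfsg.pCore p G)
        (Cfsg.pCore p G ⊓ Subgroup.centralizer (Cfsg.pCore p G : Set G)) (ι ⟨z, L.le hzQ⟩) := by
  haveI := L.finite
  intro T hT
  have hcT : Cfsg.pCore p G ≤ (T : Subgroup G) := Cores.pCore_le_sylow T
  have hfixed : ∀ t ∈ (T : Subgroup G), t * ι ⟨z, L.le hzQ⟩ = ι ⟨z, L.le hzQ⟩ * t := by
    intro t ht
    obtain ⟨s, rfl⟩ := hT.le ht
    rw [← map_mul, ← map_mul]
    exact congrArg ι (Subtype.ext (hzc s s.2.1))
  refine ⟨inferInstance, inferInstance, hcT, inf_le_left,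
    fun q hq v hv => Subgroup.mem_centralizer_iff.mp hv.2 q hq, ⟨map_le_pCore L hS ⟨_, hzQ, rfl⟩, ?_⟩,
    hfixed, fun R hR hTR hlt => ?_⟩
  · exact Subgroup.mem_centralizer_iff.mpr fun q hq => hfixed q (hcT hq)
  let X := (R.comap ι).map (normalizerIn S Q).subtype
  have hXT : X ≤ normalizerIn S Q := Subgroup.map_subtype_le _
  have hXeq : (X.subgroupOf (normalizerIn S Q)).map ι = R := by
    rw [Subgroup.subgroupOf, Subgroup.comap_map_eq_self_of_injective
      (normalizerIn S Q).subtype_injective, Subgroup.map_comap_eq_self (hR.trans hT.le)]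
  have hQX : Q < X := by
    refine lt_of_le_of_ne (fun x hx =>
      ⟨⟨x, L.le hx⟩, hlt.le (map_le_pCore L hS ⟨_, hx, rfl⟩), rfl⟩) fun he => ?_
    rw [← hXeq, ← he] at hlt
    exact hlt.not_ge (map_le_pCore L hS)
  haveI := finite_sub (hXT.trans (normalizerIn_le Q))
  haveI := finite_sub (normalizerIn_le (S := S) X)
  have hN : normalizerIn S Q ≤ normalizerIn S X := by
    intro s hs
    refine ⟨hs.1, mem_normalizer_of_conj_mem ?_⟩
    rintro _ ⟨x, hx, rfl⟩
    refine ⟨⟨s, hs⟩ * x * (⟨s, hs⟩ : normalizerIn S Q)⁻¹, ?_, rfl⟩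
    show ι _ ∈ R
    rw [map_mul, map_mul, map_inv]
    exact (Subgroup.mem_normalizer_iff.mp (hTR (hT.ge ⟨_, rfl⟩)) _).mp hx
  have hfix := hind X (hXT.trans (normalizerIn_le Q)) (Subgroup.card_le_of_le hN)
    (Or.inr (lt_of_le_of_ne (Subgroup.card_le_of_le hQX.le)
      fun h => hQX.ne (Subgroup.eq_of_le_of_card_ge hQX.le h.ge)))
  have := commute_of_fixes L hXT (hQX.le hzQ) hfix
  rwa [hXeq] at this

theorem central_of_normal_image (L : Local F p Q ι) {X : Subgroup Ω} (hX : X ≤ normalizerIn S Q)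
    (hzX : z ∈ X) (hfix : Fixes F z X)
    (hn : ((X.subgroupOf (normalizerIn S Q)).map ι).Normal) :
    ι ⟨z, hX hzX⟩ ∈ Subgroup.center G := by
  haveI := L.finite
  refine OffenderNorm.mem_center_of_le ?_
  rw [← Subgroup.normalizer_eq_top_iff.mpr hn]
  exact commute_of_fixes L hX hzX hfix

end Step

theorem hind_lt {Q X : Subgroup Ω} {z : Ω}
    (hS : IsPGroup p S) (hTS : normalizerIn S Q ≠ S) (hX : X ≤ S)
    (hN : normalizerIn S (normalizerIn S Q) ≤ normalizerIn S X)
    (hind : ∀ X : Subgroup Ω, X ≤ S → Nat.card (normalizerIn S Q) ≤ Nat.card (normalizerIn S X) →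
      (Nat.card (normalizerIn S Q) < Nat.card (normalizerIn S X) ∨ Nat.card Q < Nat.card X) →
      Fixes F z X) : Fixes F z X := by
  haveI := finite_sub (normalizerIn_le (S := S) (normalizerIn S Q))
  haveI := finite_sub (normalizerIn_le (S := S) X)
  have hlt := normalizerIn_ne_of_lt hS (lt_of_le_of_ne (normalizerIn_le Q) hTS)
  have h1 : Nat.card (normalizerIn S Q) < Nat.card (normalizerIn S X) :=
    lt_of_lt_of_le (lt_of_le_of_ne (Subgroup.card_le_of_le hlt.le)
      fun h => hlt.ne (Subgroup.eq_of_le_of_card_ge hlt.le h.ge)) (Subgroup.card_le_of_le hN)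
  exact hind X hX h1.le (Or.inl h1)

/-- A product of `p`-th powers of elements of `Z(S)` is one of `V = Z(O_p(G))` in a model. -/
theorem mem_agemo_of_local {Q : Subgroup Ω} {G : Type u} [Group G] {ι : normalizerIn S Q →* G}
    {z : Ω} (L : Local F p Q ι) (hS : IsPGroup p S) (hQc : F.IsCentric Q) (hzQ : z ∈ Q)
    (hz : z ∈ OffenderNorm.agemo p (S ⊓ Subgroup.centralizer (S : Set Ω))) :
    ι ⟨z, L.le hzQ⟩ ∈ OffenderNorm.agemo p
      (Cfsg.pCore p G ⊓ Subgroup.centralizer (Cfsg.pCore p G : Set G)) := by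
  haveI := L.finite
  obtain ⟨T, hT⟩ := L.sylow
  set V := Cfsg.pCore p G ⊓ Subgroup.centralizer (Cfsg.pCore p G : Set G)
  have hle : OffenderNorm.agemo p (S ⊓ Subgroup.centralizer (S : Set Ω)) ≤
      ((OffenderNorm.agemo p V).comap ι).map (normalizerIn S Q).subtype := by
    refine (Subgroup.closure_le _).mpr ?_
    rintro _ ⟨v, hv, rfl⟩
    have hvQ := FusionThompson.center_le_of_centric hQc hv
    refine ⟨⟨v, L.le hvQ⟩ ^ p, ?_, rfl⟩
    show ι _ ∈ OffenderNorm.agemo p V
    rw [map_pow]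
    refine Subgroup.subset_closure ⟨_, ⟨map_le_pCore L hS ⟨_, hvQ, rfl⟩, ?_⟩, rfl⟩
    refine Subgroup.mem_centralizer_iff.mpr fun q hq => ?_
    obtain ⟨s, rfl⟩ := hT.le (Cores.pCore_le_sylow T hq)
    rw [← map_mul, ← map_mul]
    exact congrArg ι (Subtype.ext (Subgroup.mem_centralizer_iff.mp hv.2 s s.2.1))
  obtain ⟨x, hx, hxe⟩ := hle hz
  rwa [show (⟨z, L.le hzQ⟩ : normalizerIn S Q) = x from Subtype.ext hxe.symm]

/-- A functor with quadratic elements outside `O_p` controls `℧¹(Z(S))` in the centre. -/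
theorem fix_all_functor (W : ∀ (Q : Type u) [Group Q], Subgroup Q)
    (hW2 : ∀ (Q R : Type u) [Group Q] [Group R] [Finite Q], IsPGroup p Q → ∀ φ : Q ≃* R,
      (W Q).map φ.toMonoidHom = W R)
    (hWZ : ∀ (Q : Type u) [Group Q] [Finite Q], IsPGroup p Q → Subgroup.center Q ≤ W Q)
    (hq : ∀ (G : Type u) [Group G] [Finite G] (P : Sylow p G),
      ¬ (((W ↥(P : Subgroup G)).map (P : Subgroup G).subtype : Subgroup G)).Normal →
      ∃ g : G, g ∈ (P : Subgroup G) ∧ g ∉ Cfsg.pCore p G ∧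
        ⁅⁅Subgroup.center ↥(Cfsg.pCore p G) |>.map (Cfsg.pCore p G).subtype,
          Subgroup.zpowers g⁆, Subgroup.zpowers g⁆ = ⊥)
    (hS : IsPGroup p S) (hF : F.IsSaturated p) {z : Ω} (hzS : z ∈ S)
    (hzc : ∀ s ∈ S, s * z = z * s)
    (hz : z ∈ OffenderNorm.agemo p (S ⊓ Subgroup.centralizer (S : Set Ω)))
    (hbase : Fixes F z (Control.wOf W S)) :
    ∀ (P : Subgroup Ω) (φ : P →* Ω), φ ∈ F.Hom P → ∀ x : P, (x : Ω) = z → φ x = z := by
  refine fix_all hS hF hzS hzc fun Q hQn hQc hind => ?_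
  obtain ⟨G, hG, ι, L⟩ := exists_local hS hF hQn hQc
  haveI := L.finite
  obtain ⟨T, hT⟩ := L.sylow
  have hzQ : z ∈ Q := FusionThompson.center_le_of_centric hQc
    ⟨hzS, Subgroup.mem_centralizer_iff.mpr hzc⟩
  refine fixes_of_central L hQn.1 hzQ ?_
  have hset := setting_of_local L hS hQn.1 hzQ hzc hind T hT
  haveI := finite_sub (normalizerIn_le (S := S) Q)
  have hT₀ : IsPGroup p (normalizerIn S Q) := hS.to_le (normalizerIn_le Q)
  by_cases hn : (((W ↥(T : Subgroup G)).map (T : Subgroup G).subtype : Subgroup G)).Normal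
  · -- `W(T)` is normal
    have hzW : z ∈ Control.wOf W (normalizerIn S Q) :=
      ⟨⟨z, L.le hzQ⟩, hWZ _ hT₀ (Subgroup.mem_center_iff.mpr fun s =>
        Subtype.ext (hzc s s.2.1)), rfl⟩
    have hfix : Fixes F z (Control.wOf W (normalizerIn S Q)) := by
      by_cases hTS : normalizerIn S Q = S
      · rw [hTS]; exact hbase
      · refine hind_lt hS hTS ((Control.wOf_le (normalizerIn S Q)).trans (normalizerIn_le Q)) ?_ hind
        exact inf_le_inf_left S (Control.normalizer_le_normalizer_wOf hW2 hT₀)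
    refine central_of_normal_image L (Control.wOf_le (normalizerIn S Q)) hzW hfix ?_
    have he : ((Control.wOf W (normalizerIn S Q)).subgroupOf (normalizerIn S Q)).map ι = Control.wOf W (T : Subgroup G) := by
      rw [hT, Control.wOf_sylow hW2 hT₀ L.injective, Control.wOf, Subgroup.subgroupOf,
        Subgroup.comap_map_eq_self_of_injective (normalizerIn S Q).subtype_injective]
    rw [he]; exact hn
  · obtain ⟨g, hgT, hgQ, hgq⟩ := hq G T hn
    refine OffenderNorm.central_of_agemo hset hgT hgQ (fun v hv => ?_)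
      (mem_agemo_of_local L hS hQc hzQ hz)
    have hv' : v ∈ (Subgroup.center ↥(Cfsg.pCore p G)).map (Cfsg.pCore p G).subtype :=
      ⟨⟨v, hv.1⟩, Subgroup.mem_center_iff.mpr fun q =>
        Subtype.ext (Subgroup.mem_centralizer_iff.mp hv.2 q q.2), rfl⟩
    have hc : g * v * g⁻¹ * v⁻¹ ∈ ⁅(Subgroup.center ↥(Cfsg.pCore p G)).map
        (Cfsg.pCore p G).subtype, Subgroup.zpowers g⁆ := by
      rw [Subgroup.commutator_comm]
      exact Subgroup.commutator_mem_commutator (Subgroup.mem_zpowers g) hv'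
    have h1 := Subgroup.mem_centralizer_iff.mp
      (Subgroup.commutator_eq_bot_iff_le_centralizer.mp hgq hc) g (Subgroup.mem_zpowers g)
    rw [h1, mul_inv_cancel_right]

theorem mem_thompsonAOf_of_central {G : Type*} [Group G] [Finite G] {P : Subgroup G} {x : G}
    (hxP : x ∈ P) (hx : ∀ y ∈ P, y * x = x * y) : x ∈ Cfsg.thompsonSubgroupAOf P := by
  obtain ⟨A, hA⟩ := AbelianJ.maxAbIn_nonempty P
  refine AbelianJ.le_thompsonSubgroupAOf hA ?_
  have hle : A ⊔ Subgroup.zpowers x ≤ P := sup_le hA.1 (Subgroup.zpowers_le.mpr hxP)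
  have hc : IsMulCommutative ↥(A ⊔ Subgroup.zpowers x) :=
    LA5.Replacement.isMulCommutative_sup hA.2.1 inferInstance fun a ha y hy => by
      obtain ⟨k, rfl⟩ := Subgroup.mem_zpowers_iff.mp hy
      exact (Commute.zpow_right (hx a (hA.1 ha) : Commute a x) k).eq
  rw [Subgroup.eq_of_le_of_card_ge (le_sup_left : A ≤ A ⊔ Subgroup.zpowers x)
    (hA.2.2 _ hle hc)]
  exact Subgroup.mem_sup_right (Subgroup.mem_zpowers x)

/-- The abelian Thompson subgroup controls the centre. -/
theorem fix_all_thompson (hS : IsPGroup p S) (hF : F.IsSaturated p) {z : Ω} (hzS : z ∈ S)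
    (hzc : ∀ s ∈ S, s * z = z * s)
    (hgood : z ∈ OffenderNorm.agemo p (S ⊓ Subgroup.centralizer (S : Set Ω)) ∨
      ∀ {Q : Subgroup Ω} {G : Type u} [Group G] {ι : normalizerIn S Q →* G}, Local F p Q ι →
        p ≠ 2 ∨ ¬ Cfsg.Involves (Equiv.Perm (Fin 4)) G)
    (hbase : Fixes F z (Cfsg.thompsonSubgroupAOf S)) :
    ∀ (P : Subgroup Ω) (φ : P →* Ω), φ ∈ F.Hom P → ∀ x : P, (x : Ω) = z → φ x = z := by
  refine fix_all hS hF hzS hzc fun Q hQn hQc hind => ?_
  obtain ⟨G, hG, ι, L⟩ := exists_local hS hF hQn hQc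
  haveI := L.finite
  obtain ⟨T, hT⟩ := L.sylow
  have hzQ : z ∈ Q := FusionThompson.center_le_of_centric hQc
    ⟨hzS, Subgroup.mem_centralizer_iff.mpr hzc⟩
  refine fixes_of_central L hQn.1 hzQ ?_
  have hset := setting_of_local L hS hQn.1 hzQ hzc hind T hT
  haveI := finite_sub (normalizerIn_le (S := S) Q)
  by_cases hA : ∃ A ∈ AbelianJ.maxAbIn (T : Subgroup G), ¬ A ≤ Cfsg.pCore p G
  · rcases hgood with h | h
    · obtain ⟨g, hgT, hgQ, hgq⟩ := OffenderNorm.exists_quadratic hset hA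
      exact OffenderNorm.central_of_agemo hset hgT hgQ hgq (mem_agemo_of_local L hS hQc hzQ h)
    · exact OffenderNorm.central_of_offender hset (h L) hA
  · -- `J(T) ≤ O_p(G)`
    push Not at hA
    have hJeq : Cfsg.thompsonSubgroupAOf (Cfsg.pCore p G) =
        Cfsg.thompsonSubgroupAOf (T : Subgroup G) := by
      refine AbelianJ.thompsonSubgroupAOf_eq_of_le (Cores.pCore_le_sylow T) ?_
      rw [AbelianJ.thompsonSubgroupAOf_eq]
      exact sSup_le hA
    have hzJ : z ∈ Cfsg.thompsonSubgroupAOf (normalizerIn S Q) := by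
      have h1 : (⟨z, L.le hzQ⟩ : (normalizerIn S Q)) ∈ Cfsg.thompsonSubgroupAOf (⊤ : Subgroup (normalizerIn S Q)) :=
        mem_thompsonAOf_of_central (Subgroup.mem_top _) fun y _ => Subtype.ext (hzc y y.2.1)
      have h2 := AbelianJ.map_thompsonSubgroupAOf (normalizerIn S Q).subtype (normalizerIn S Q).subtype_injective ⊤
      rw [← MonoidHom.range_eq_map, (normalizerIn S Q).range_subtype] at h2
      exact h2 ▸ ⟨_, h1, rfl⟩
    have hfix : Fixes F z (Cfsg.thompsonSubgroupAOf (normalizerIn S Q)) := by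
      by_cases hTS : normalizerIn S Q = S
      · rw [hTS]; exact hbase
      · refine hind_lt hS hTS ((AbelianJ.thompsonSubgroupAOf_le _).trans (normalizerIn_le Q)) ?_ hind
        exact normalizerIn_le_of_char (AbelianJ.thompsonSubgroupAOf_le _)
          (CharHyp.characteristic_thompsonAOf _)
    refine central_of_normal_image L (AbelianJ.thompsonSubgroupAOf_le (normalizerIn S Q)) hzJ hfix ?_
    rw [FusionThompson.map_subgroupOf_functor (fun {_} _ P => Cfsg.thompsonSubgroupAOf P)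
      (fun f hf P => AbelianJ.map_thompsonSubgroupAOf f hf P) ι L.injective, ← hT, ← hJeq]
    refine ⟨fun x hx g => ?_⟩
    have h1 := AbelianJ.map_thompsonSubgroupAOf (MulAut.conj g).toMonoidHom
      (MulAut.conj g).injective (Cfsg.pCore p G)
    have h2 : (Cfsg.pCore p G).map (MulAut.conj g).toMonoidHom = Cfsg.pCore p G :=
      Subgroup.eq_of_le_of_card_ge (by
          rintro _ ⟨y, hy, rfl⟩
          exact Subgroup.Normal.conj_mem inferInstance y hy g)
        (Subgroup.card_map_of_injective (MulAut.conj g).injective).ge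
    rw [h2] at h1
    exact h1 ▸ ⟨x, hx, rfl⟩

end Cfsg.Agent.Lib.Transfer.FusionFix
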