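import Cfsg.Agent.Lib.FusionP3.Transfer
import Cfsg.Agent.Lib.FusionAlperin.Join
import Mathlib.GroupTheory.Abelianization.Defs

/-!
# The transfer of a saturated fusion system and its centre

`focal_inf_center_le` : `foc(F) ∩ Z(F) ≤ S'`.
-/

set_option autoImplicit false

namespace Cfsg.Agent.Lib.Transfer.FusionFocal

open Cfsg Cfsg.FusionSystem Cfsg.Agent.Lib.FS Cfsg.Agent.Lib.FusionP3.Biset
  Cfsg.Agent.Lib.FusionP3.Transfer MulAction

open scoped commutatorElement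

universe u

variable {Ω : Type u} [Group Ω] {S : Subgroup Ω} [Finite S] {F : FusionSystem S}

/-- An invariant homomorphism agreeing with `θ ^ m` on the elements fixed by every map. -/
theorem exists_invariant_hom_fixed {p : ℕ} [Fact p.Prime] (hS : IsPGroup p S)
    (hF : F.IsSaturated p) :
    ∃ m : ℕ, ¬ p ∣ m ∧ ∀ {A : Type u} [CommGroup A] (θ : S →* A),
      ∃ τ : S →* A, (∀ (P : Subgroup Ω) (φ : P →* Ω) (hφ : φ ∈ F.Hom P) (x : P),
        τ ⟨φ x, apply_mem hφ x⟩ = τ ⟨x, src_le hφ x.2⟩) ∧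
      ∀ a : S, (∀ (P : Subgroup Ω) (φ : P →* Ω), φ ∈ F.Hom P → ∀ (x : P) (k : ℕ),
        (x : Ω) = (a : Ω) ^ k → φ x = x) → τ a = θ a ^ m := by
  obtain ⟨X, iX, fX, hg, hst, m, hm, hpm⟩ := exists_biset hS hF
  refine ⟨m, hpm, fun {A} _ θ => ?_⟩
  have hne : Nonempty X := by
    refine (Nat.card_pos_iff.mp ?_).1
    rw [hm]
    exact Nat.mul_pos Nat.card_pos (Nat.pos_of_ne_zero fun h => hpm (h ▸ dvd_zero p))
  obtain ⟨z₀⟩ := hne
  let ψ := MonoidHom.id (equivGroup S X)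
  haveI : (orbitStab ψ z₀).FiniteIndex := Subgroup.finiteIndex_of_finite
  have hidx : (orbitStab ψ z₀).index = m := by
    have := card_eq hg ψ z₀ (transitive_equivGroup hg z₀)
    rw [hm] at this
    exact (Nat.eq_of_mul_eq_mul_left Nat.card_pos this).symm
  let tr := MonoidHom.transfer (θ.comp (ev hg ψ z₀))
  refine ⟨tr.comp (lft S X), fun P φ hφ x => ?_, fun a ha => ?_⟩
  · obtain ⟨ε, hε⟩ := exists_twist hst hφ
    have : lft S X ⟨φ x, apply_mem hφ x⟩ * ε = ε * lft S X ⟨x, src_le hφ x.2⟩ :=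
      Subtype.ext (Equiv.ext fun z => (hε x 1 z).symm)
    have h := congrArg tr this
    rw [map_mul, map_mul, mul_comm (tr ε)] at h
    exact mul_right_cancel h
  · classical
    haveI := (orbitStab ψ z₀).fintypeQuotientOfFiniteIndex
    show tr (lft S X a) = _
    simp only [tr, MonoidHom.transfer_eq_prod_quotient_orbitRel_zpowers_quot]
    rw [← hidx, Subgroup.index_eq_sum_minimalPeriod (orbitStab ψ z₀) (lft S X a),
      ← Finset.prod_pow_eq_pow_sum]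
    refine Finset.prod_congr rfl fun q _ => ?_
    have hf := factor_fixed hg ψ z₀ (a := a) (â := lft S X a) rfl _ _
      (QuotientGroup.out_conj_pow_minimalPeriod_mem (orbitStab ψ z₀) (lft S X a) q.out)
    obtain ⟨P, φ, hφ, x, hx, hxs⟩ := exists_of_mem_stab hg hf
    refine Eq.trans ?_ (map_pow θ a _)
    refine congrArg θ (Subtype.ext ?_)
    rw [← hxs, ha P φ hφ x _ (by rw [hx, SubmonoidClass.coe_pow]), hx]

theorem apply_of_isCentral {Q : Subgroup Ω} (hQ : F.IsCentral Q) {P : Subgroup Ω} {φ : P →* Ω}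
    (hφ : φ ∈ F.Hom P) (x : P) (hx : (x : Ω) ∈ Q) : φ x = x := by
  obtain ⟨ψ, -, hψP, hψQ⟩ := hQ.2 P φ hφ
  rw [← hψP x]
  exact (congrArg ψ (Subtype.ext rfl)).trans (hψQ ⟨x, hx⟩)

theorem focal_inf_center_le {p : ℕ} [Fact p.Prime] (hS : IsPGroup p S) (hF : F.IsSaturated p) :
    F.focalSubgroup ⊓ F.center ≤ ⁅S, S⁆ := by
  intro z ⟨hzf, hzc⟩
  have hcen : F.IsCentral F.center := FusionAlperin.Join.isCentral_center F
  obtain ⟨m, hm, hτ⟩ := exists_invariant_hom_fixed hS hF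
  obtain ⟨τ, hinv, hfix⟩ := hτ (Abelianization.of (G := S))
  have hle : F.focalSubgroup ≤ (τ.ker).map S.subtype := by
    refine (Subgroup.closure_le _).mpr ?_
    rintro _ ⟨P, φ, x, hφ, rfl⟩
    refine ⟨(⟨x, src_le hφ x.2⟩ : S)⁻¹ * ⟨φ x, apply_mem hφ x⟩, ?_, rfl⟩
    show τ _ = 1
    rw [map_mul, map_inv, hinv P φ hφ x, inv_mul_cancel]
  obtain ⟨⟨z', hz'⟩, hker, rfl⟩ := hle hzf
  replace hzc : z' ∈ F.center := hzc
  have h1 : Abelianization.of (⟨z', hz'⟩ : S) ^ m = 1 := by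
    rw [← hfix ⟨z', hz'⟩ fun P φ hφ x k hx =>
      apply_of_isCentral hcen hφ x (hx ▸ pow_mem hzc k)]
    exact hker
  obtain ⟨k, hk⟩ := hS ⟨z', hz'⟩
  have h2 : Abelianization.of (⟨z', hz'⟩ : S) ^ p ^ k = 1 := by rw [← map_pow, hk, map_one]
  have h3 : Abelianization.of (⟨z', hz'⟩ : S) = 1 :=
    orderOf_eq_one_iff.mp (Nat.eq_one_of_dvd_coprimes
      (Nat.Coprime.pow_right k ((Nat.Prime.coprime_iff_not_dvd Fact.out).mpr hm).symm)
      (orderOf_dvd_of_pow_eq_one h1) (orderOf_dvd_of_pow_eq_one h2))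
  have h4 : (⟨z', hz'⟩ : S) ∈ commutator S := by
    rw [← Abelianization.ker_of]
    exact h3
  show z' ∈ ⁅S, S⁆
  rw [← Subgroup.map_subtype_commutator]
  exact ⟨_, h4, rfl⟩

theorem commutator_le_focal : ⁅S, S⁆ ≤ F.focalSubgroup := by
  rw [Subgroup.commutator_le]
  intro g hg h hh
  refine Subgroup.subset_closure ⟨Subgroup.zpowers g⁻¹, conjHom _ h,
    ⟨g⁻¹, Subgroup.mem_zpowers _⟩, F.conj_mem (Subgroup.zpowers_le.mpr (inv_mem hg)) hh, ?_⟩
  show ⁅g, h⁆ = g⁻¹⁻¹ * (h * g⁻¹ * h⁻¹)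
  rw [commutatorElement_def]; group

end Cfsg.Agent.Lib.Transfer.FusionFocal
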