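import Cfsg.Agent.Lib.Transfer.FusionLocal

/-!
# Thompson-type criteria for saturated fusion systems

* `Local.isPGroup_of_chars` : the local step from characteristic subgroups.
* `isPGroup_autGroup_of_char` : automisers of characteristic subgroups of `S`.
* `isPGroup_autGroup_of_thompson` : `C_F(Z(S))` and `Aut_F(J(S))`.
* `exists_normal_centric` : if some automiser is not a `p`-group then one of a normal centric
  subgroup is not.
-/

set_option autoImplicit false
set_option linter.unusedSectionVars false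

namespace Cfsg.Agent.Lib.Transfer.FusionThompson

open Cfsg Cfsg.FusionSystem Cfsg.Agent.Lib.FS Cfsg.Agent.Lib.Transfer.FusionLocal

universe u

variable {Ω : Type u} [Group Ω] {S : Subgroup Ω} [Finite S] {p : ℕ} [hp : Fact p.Prime]
  {F : FusionSystem S}

/-- A subgroup functor evaluated on a subgroup, read through an injective homomorphism. -/
theorem map_subgroupOf_functor (W : ∀ {G : Type u} [Group G], Subgroup G → Subgroup G)
    (hW : ∀ {G H : Type u} [Group G] [Group H] (f : G →* H), Function.Injective f →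
      ∀ P : Subgroup G, (W P).map f = W (P.map f))
    {T : Subgroup Ω} {G : Type u} [Group G] (ι : T →* G) (hι : Function.Injective ι) :
    ((W T).subgroupOf T).map ι = W ι.range := by
  have h1 : W T = (W (⊤ : Subgroup T)).map T.subtype := by
    rw [hW _ T.subtype_injective, ← MonoidHom.range_eq_map, T.range_subtype]
  rw [h1, Subgroup.subgroupOf, Subgroup.comap_map_eq_self_of_injective T.subtype_injective,
    hW _ hι, ← MonoidHom.range_eq_map]

theorem not_involves (hfree : p ≠ 2 ∨ F.IsSectionFree p (Equiv.Perm (Fin 4))) {Q : Subgroup Ω}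
    {G : Type u} [Group G] {ι : normalizerIn S Q →* G} (L : Local F p Q ι) :
    p ≠ 2 ∨ ¬ Cfsg.Involves (Equiv.Perm (Fin 4)) G :=
  hfree.imp_right fun h => L.sectionFree h

theorem isPGroup_of_chars (hS : IsPGroup p S) (hF : F.IsSaturated p)
    (hfree : p ≠ 2 ∨ F.IsSectionFree p (Equiv.Perm (Fin 4))) {Q : Subgroup Ω}
    (hQn : F.IsFullyNormalized Q) (hQc : F.IsCentric Q)
    (h : ∀ X : Subgroup Ω, X ≤ normalizerIn S Q →
      (X.subgroupOf (normalizerIn S Q)).Characteristic → IsPGroup p (F.autGroup X)) :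
    IsPGroup p (F.autGroup Q) := by
  obtain ⟨G, hG, ι, L⟩ := exists_local hS hF hQn hQc
  haveI := L.finite
  obtain ⟨T, hT⟩ := L.sylow
  refine L.isPGroup_autGroup hS
    (CharHyp.hasNormalPComplement_of_charHyp T (not_involves hfree L) ?_)
  intro X' hX' hchar g hg hgp x hx
  rw [hT] at hX' hchar
  let X₀ := X'.comap ι
  let e := MonoidHom.ofInjective L.injective
  have hX₀ : X₀.map ι = X' := Subgroup.map_comap_eq_self hX'
  have hc₀ : X₀.Characteristic := by
    have : X₀ = (X'.subgroupOf ι.range).map e.symm.toMonoidHom := by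
      ext z
      constructor
      · intro hz
        exact ⟨e z, hz, e.symm_apply_apply z⟩
      · rintro ⟨y, hy, rfl⟩
        show ι (e.symm y) ∈ X'
        rw [show ι (e.symm y) = (y : G) from congrArg Subtype.val (e.apply_symm_apply y)]
        exact hy
    rw [this]
    exact CharHyp.characteristic_map_equiv _ _
  let X := X₀.map (normalizerIn S Q).subtype
  have hXT : X ≤ normalizerIn S Q := Subgroup.map_subtype_le _
  have hXeq : X.subgroupOf (normalizerIn S Q) = X₀ :=
    Subgroup.comap_map_eq_self_of_injective (normalizerIn S Q).subtype_injective _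
  obtain ⟨y, hy, rfl⟩ := hX₀.ge hx
  exact L.centralizes_of_isPGroup hXT (h X hXT (hXeq.symm ▸ hc₀))
    (by rw [hXeq, hX₀]; exact hg) hgp y ⟨y, hy, rfl⟩

theorem isPGroup_autGroup_bot : IsPGroup p (F.autGroup (⊥ : Subgroup Ω)) := fun α =>
  ⟨0, Subtype.ext (MulEquiv.ext fun x => Subsingleton.elim _ _)⟩

theorem isPGroup_autGroup_of_char (hS : IsPGroup p S) (hF : F.IsSaturated p)
    (hfree : p ≠ 2 ∨ F.IsSectionFree p (Equiv.Perm (Fin 4)))
    (h : ∀ X : Subgroup Ω, X ≤ S → X ≠ ⊥ → (X.subgroupOf S).Characteristic →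
      IsPGroup p (F.autGroup X)) :
    ∀ X : Subgroup Ω, X ≤ S → IsPGroup p (F.autGroup X) := by
  refine isPGroup_autGroup_of_step hS hF fun Q hQn hQc hind =>
    isPGroup_of_chars hS hF hfree hQn hQc fun X hXT hXc => ?_
  by_cases hTS : normalizerIn S Q = S
  · by_cases hX : X = ⊥
    · subst hX; exact isPGroup_autGroup_bot
    · rw [hTS] at hXc hXT
      exact h X hXT hX hXc
  · exact hind hTS X hXT hXc

/-- An automorphism induced by conjugation with an element of `S`. -/
theorem isPGroup_zpowers_of_conj (hS : IsPGroup p S) {X : Subgroup Ω} {α : MulAut X} {s : Ω}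
    (hs : s ∈ S) (he : ∀ x : X, ((α x : X) : Ω) = s * (x : Ω) * s⁻¹) :
    ∃ k : ℕ, α ^ p ^ k = 1 := by
  obtain ⟨k, hk⟩ := hS ⟨s, hs⟩
  refine ⟨k, MulEquiv.ext fun x => Subtype.ext ?_⟩
  have hpow : ∀ (n : ℕ) (y : X), (((α ^ n) y : X) : Ω) = s ^ n * y * (s ^ n)⁻¹ := by
    intro n
    induction n with
    | zero => intro y; simp
    | succ n ih => intro y; rw [pow_succ, MulAut.mul_apply, ih, he, pow_succ]; group
  rw [hpow, show s ^ p ^ k = 1 from congrArg Subtype.val hk]
  simp

theorem center_le_of_centric {Q : Subgroup Ω} (hQ : F.IsCentric Q) :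
    S ⊓ Subgroup.centralizer (S : Set Ω) ≤ Q := fun z hz =>
  hQ.2 Q (isConj_refl F hQ.1) ⟨hz.1, Subgroup.centralizer_le hQ.1 hz.2⟩

/-- Automorphisms of a centric subgroup fixing `Z(S)` when `C_F(Z(S))` is inner. -/
theorem exists_pow_of_fixes_center (hS : IsPGroup p S)
    (hC : ∀ C : FusionSystem (centralizerIn S (S ⊓ Subgroup.centralizer (S : Set Ω))),
      F.IsCentralizerSystem (S ⊓ Subgroup.centralizer (S : Set Ω)) C → ∀ P : Subgroup Ω,
        C.Hom P = (innerFusionSystem (centralizerIn S (S ⊓ Subgroup.centralizer (S : Set Ω)))).Hom P)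
    {Q : Subgroup Ω} (hQ : F.IsCentric Q) {φ : Q →* Ω} (hφ : φ ∈ F.Hom Q) (hr : φ.range = Q)
    (hfix : ∀ x : Q, (x : Ω) ∈ S ⊓ Subgroup.centralizer (S : Set Ω) → φ x = x) :
    ∃ k : ℕ, (homEquiv hφ hr) ^ p ^ k = 1 := by
  set Z := S ⊓ Subgroup.centralizer (S : Set Ω)
  have hSC : S ≤ centralizerIn S Z := fun s hs =>
    ⟨hs, Subgroup.mem_centralizer_iff.mpr fun z hz =>
      (Subgroup.mem_centralizer_iff.mp hz.2 s hs).symm⟩
  obtain ⟨C, hCs⟩ := exists_centralizerSystem F (inf_le_left : Z ≤ S)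
  have hle : Q ⊔ Z ≤ Q := sup_le le_rfl (center_le_of_centric hQ)
  have hmem : φ ∈ C.Hom Q := by
    rw [hCs Q]
    refine ⟨hφ, hQ.1.trans hSC, fun x => hSC (apply_mem hφ x), φ.comp (Subgroup.inclusion hle),
      mem_of_restrict hφ hle fun _ => rfl, fun x => rfl, fun x => ?_⟩
    exact hfix ⟨x, center_le_of_centric hQ x.2⟩ x.2
  rw [hC C hCs Q] at hmem
  obtain ⟨-, s, hs, hse⟩ := hmem
  exact isPGroup_zpowers_of_conj hS (centralizerIn_le _ hs) fun x => hse x

theorem isPGroup_autGroup_of_thompson (hS : IsPGroup p S) (hF : F.IsSaturated p)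
    (hfree : p ≠ 2 ∨ F.IsSectionFree p (Equiv.Perm (Fin 4)))
    (hC : ∀ C : FusionSystem (centralizerIn S (S ⊓ Subgroup.centralizer (S : Set Ω))),
      F.IsCentralizerSystem (S ⊓ Subgroup.centralizer (S : Set Ω)) C → ∀ P : Subgroup Ω,
        C.Hom P = (innerFusionSystem (centralizerIn S (S ⊓ Subgroup.centralizer (S : Set Ω)))).Hom P)
    (hJ : IsPGroup p (F.autGroup (Cfsg.thompsonSubgroupAOf S))) :
    ∀ X : Subgroup Ω, X ≤ S → IsPGroup p (F.autGroup X) := by
  refine isPGroup_autGroup_of_step hS hF fun Q hQn hQc hind => ?_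
  set T₀ := normalizerIn S Q with hT₀
  obtain ⟨G, hG, ι, L⟩ := exists_local hS hF hQn hQc
  haveI := L.finite
  obtain ⟨T, hT⟩ := L.sylow
  have hJgood : IsPGroup p (F.autGroup (Cfsg.thompsonSubgroupAOf T₀)) := by
    by_cases hTS : T₀ = S
    · rw [hTS]; exact hJ
    · exact hind hTS _ (AbelianJ.thompsonSubgroupAOf_le _) (CharHyp.characteristic_thompsonAOf _)
  -- elements of order prime to `p` centralising `Z(S)` are trivial
  have hcZ : ∀ g : G, (orderOf g).Coprime p →
      (∀ z : T₀, (z : Ω) ∈ S ⊓ Subgroup.centralizer (S : Set Ω) → g * ι z * g⁻¹ = ι z) →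
      g = 1 := by
    intro g hgp hfix
    have hn := L.normal
    obtain ⟨φ, hφ, hr, he⟩ := L.hom Q L.le g
      (by rw [Subgroup.normalizer_eq_top_iff.mpr hn]; trivial)
    obtain ⟨k, hk⟩ := exists_pow_of_fixes_center hS hC hQc hφ.1 hr fun x hx => by
      have h1 := he x (L.le x.2) (hφ.2.2.1 x)
      rw [hfix _ hx] at h1
      exact congrArg Subtype.val (L.injective h1)
    set α := homEquiv hφ.1 hr
    have hpow : ∀ (n : ℕ) (y : Q), ι ⟨((α ^ n) y : Q), L.le ((α ^ n) y).2⟩ =
        g ^ n * ι ⟨y, L.le y.2⟩ * (g ^ n)⁻¹ := by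
      intro n
      induction n with
      | zero => intro y; simp
      | succ n ih =>
        intro y
        have h1 : ι ⟨(α y : Q), L.le (α y).2⟩ = g * ι ⟨y, L.le y.2⟩ * g⁻¹ :=
          he y (L.le y.2) (L.le (α y).2)
        calc ι ⟨((α ^ (n + 1)) y : Q), L.le ((α ^ (n + 1)) y).2⟩
            = ι ⟨((α ^ n) (α y) : Q), L.le ((α ^ n) (α y)).2⟩ := by congr 1
          _ = g ^ n * (g * ι ⟨y, L.le y.2⟩ * g⁻¹) * (g ^ n)⁻¹ := by rw [ih, h1]
          _ = g ^ (n + 1) * ι ⟨y, L.le y.2⟩ * (g ^ (n + 1))⁻¹ := by rw [pow_succ]; group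
    obtain ⟨m, hm⟩ := exists_pow_eq_self_of_coprime (n := p ^ k) (x := g)
      (Nat.Coprime.pow_left k hgp.symm)
    have h1 : g ^ p ^ k = 1 := by
      refine L.eq_one_of_centralizes hS (hgp.coprime_dvd_left (orderOf_pow_dvd _)) fun y hy => ?_
      have h := hpow (p ^ k) ⟨y, hy⟩
      simp only [hk] at h
      exact h.symm
    rw [← hm, h1, one_pow]
  have hJmap : Cfsg.thompsonSubgroupAOf (T : Subgroup G) =
      ((Cfsg.thompsonSubgroupAOf T₀).subgroupOf T₀).map ι := by
    rw [hT, map_subgroupOf_functor (fun {_} _ P => Cfsg.thompsonSubgroupAOf P)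
      (fun f hf P => AbelianJ.map_thompsonSubgroupAOf f hf P) ι L.injective]
  refine L.isPGroup_autGroup hS
    (ThompsonJA.hasNormalPComplement_of_thompsonAOf T (not_involves hfree L) ?_ ?_)
  · -- `C(Z(T))` has no nontrivial element of order prime to `p`
    refine Frobenius.hasNormalPComplement_of_forall_centralizes fun U _ _ g _ hgp => ?_
    have hg1 : g = 1 := by
      refine Subtype.ext (hcZ g (by rwa [Subgroup.orderOf_coe]) fun z hz => ?_)
      have hzT : ι z ∈ (T : Subgroup G) := hT ▸ ⟨z, rfl⟩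
      have hzc : ι z ∈ Subgroup.centralizer ((T : Subgroup G) : Set G) := by
        refine Subgroup.mem_centralizer_iff.mpr fun y hy => ?_
        obtain ⟨w, rfl⟩ := hT.le hy
        rw [← map_mul, ← map_mul]
        exact congrArg ι (Subtype.ext (Subgroup.mem_centralizer_iff.mp hz.2 w w.2.1))
      rw [← Subgroup.mem_centralizer_iff.mp g.2 (ι z) ⟨hzT, hzc⟩, mul_inv_cancel_right]
    rw [hg1]
    exact one_mem _
  · refine CharHyp.hasNormalPComplement_normalizer T fun g hg hgp x hx => ?_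
    rw [hJmap] at hg hx
    obtain ⟨y, hy, rfl⟩ := hx
    exact L.centralizes_of_isPGroup (AbelianJ.thompsonSubgroupAOf_le _) hJgood hg hgp y hy

/-- A normal centric subgroup with an automiser that is not a `p`-group. -/
theorem exists_normal_centric (hS : IsPGroup p S) (hF : F.IsSaturated p)
    (hfree : p ≠ 2 ∨ F.IsSectionFree p (Equiv.Perm (Fin 4)))
    (hne : ¬ ∀ X : Subgroup Ω, X ≤ S → IsPGroup p (F.autGroup X)) :
    ∃ Q : Subgroup Ω, F.IsFullyNormalized Q ∧ F.IsCentric Q ∧ normalizerIn S Q = S ∧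
      ¬ IsPGroup p (F.autGroup Q) := by
  by_contra hc
  push Not at hc
  refine hne (isPGroup_autGroup_of_step hS hF fun Q hQn hQc hind => ?_)
  by_cases hTS : normalizerIn S Q = S
  · exact hc Q hQn hQc hTS
  · exact isPGroup_of_chars hS hF hfree hQn hQc (hind hTS)

/-- An inner normalizer system makes the automiser a `p`-group. -/
theorem isPGroup_autGroup_of_normalizer_inner (hS : IsPGroup p S) {X : Subgroup Ω} (hX : X ≤ S)
    (hN : ∀ N : FusionSystem (normalizerIn S X), F.IsNormalizerSystem X N → ∀ P : Subgroup Ω,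
      N.Hom P = (innerFusionSystem (normalizerIn S X)).Hom P) :
    IsPGroup p (F.autGroup X) := by
  intro α
  obtain ⟨N, hNs⟩ := exists_normalizerSystem F hX
  have hmem : X.subtype.comp (α : MulAut X).toMonoidHom ∈ N.Hom X := by
    rw [hNs X]; exact aut_mem_normalizerHom hX α.2
  rw [hN N hNs X] at hmem
  obtain ⟨-, s, hs, hse⟩ := hmem
  obtain ⟨k, hk⟩ := isPGroup_zpowers_of_conj hS hs.1 (α := (α : MulAut X)) fun x => hse x
  exact ⟨k, Subtype.ext (by rw [SubmonoidClass.coe_pow, hk]; rfl)⟩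

theorem isPGroup_autGroup_innerFusionSystem (hS : IsPGroup p S) (X : Subgroup Ω) :
    IsPGroup p ((innerFusionSystem S).autGroup X) := by
  intro α
  by_cases hX : X ≤ S
  · obtain ⟨-, s, hs, hse⟩ := (mem_autGroup hX).1 α.2
    obtain ⟨k, hk⟩ := isPGroup_zpowers_of_conj hS hs (α := (α : MulAut X)) fun x => hse x
    exact ⟨k, Subtype.ext (by rw [SubmonoidClass.coe_pow, hk]; rfl)⟩
  · refine ⟨0, Subtype.ext ?_⟩
    have h := α.2
    simp only [autGroup_eq_bot hX, Subgroup.mem_bot] at h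
    rw [pow_zero, pow_one, h]; rfl

/-- The normalizer system of a subgroup normal in `S`, as a system over `S`. -/
theorem exists_system_on_base (hS : IsPGroup p S) (hF : F.IsSaturated p) {Q : Subgroup Ω}
    (hQn : F.IsFullyNormalized Q) (hQc : F.IsCentric Q) (hT : normalizerIn S Q = S) :
    ∃ E : FusionSystem S, E ≤ F ∧ E.IsSaturated p ∧ E.IsConstrained p ∧
      E.autGroup Q = F.autGroup Q := by
  obtain ⟨N, hN⟩ := exists_normalizerSystem F hQn.1
  obtain ⟨-, hNc⟩ := isConstrained_normalizerSystem hS hF hQn hQc hN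
  obtain ⟨E, hE, hEc⟩ : ∃ E : FusionSystem S, (∀ P, E.Hom P = F.normalizerHom Q P) ∧
      E.IsConstrained p := by
    have hN' : ∀ P, N.Hom P = F.normalizerHom Q P := hN
    clear hS hF hN
    revert N hN' hNc
    generalize hg : normalizerIn S Q = T
    intro N hNc hN
    obtain rfl : T = S := hg.symm.trans hT
    exact ⟨N, hN, hNc⟩
  refine ⟨E, fun P φ hφ => ((hE P).subset hφ).1, hEc.1, hEc, le_antisymm ?_ ?_⟩
  · refine (Subgroup.closure_le _).mpr fun α hα => Subgroup.subset_closure ?_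
    exact ((hE Q).subset hα).1
  · exact fun α hα => Subgroup.subset_closure ((hE Q).superset (aut_mem_normalizerHom hQn.1 hα))

end Cfsg.Agent.Lib.Transfer.FusionThompson
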