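import Cfsg.Agent.Lib.Transfer.FusionThompson
import Cfsg.Agent.S0659

/-!
# The Glauberman-Thompson criterion for fusion systems, `p` odd

`inner_iff_normalizer_centerThompson`.
-/

set_option autoImplicit false
set_option linter.unusedSectionVars false

namespace Cfsg.Agent.Lib.Transfer.FusionZJ

open Cfsg Cfsg.FusionSystem Cfsg.Agent.Lib.FS Cfsg.Agent.Lib.Transfer.FusionLocal
  Cfsg.Agent.Lib.Transfer.FusionThompson

universe u

variable {Ω : Type u} [Group Ω] {S : Subgroup Ω} [Finite S] {p : ℕ} [hp : Fact p.Prime]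
  {F : FusionSystem S}

theorem isPGroup_autGroup_of_zj (hS : IsPGroup p S) (hF : F.IsSaturated p) (hp2 : p ≠ 2)
    (hN : ∀ N : FusionSystem (normalizerIn S (Cfsg.centerThompsonAOf S)),
      F.IsNormalizerSystem (Cfsg.centerThompsonAOf S) N → ∀ P : Subgroup Ω,
        N.Hom P = (innerFusionSystem (normalizerIn S (Cfsg.centerThompsonAOf S))).Hom P) :
    ∀ X : Subgroup Ω, X ≤ S → IsPGroup p (F.autGroup X) := by
  refine isPGroup_autGroup_of_step hS hF fun Q hQn hQc hind => ?_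
  by_cases hTS : normalizerIn S Q = S
  swap
  · exact isPGroup_of_chars hS hF (Or.inl hp2) hQn hQc (hind hTS)
  set T₀ := normalizerIn S Q with hT₀
  obtain ⟨G, hG, ι, L⟩ := exists_local hS hF hQn hQc
  haveI := L.finite
  obtain ⟨T, hT⟩ := L.sylow
  refine L.isPGroup_autGroup hS (Cfsg.Agent.S0659.result hp2 T ?_)
  have hW : Cfsg.centerThompsonAOf (T : Subgroup G) =
      ((Cfsg.centerThompsonAOf T₀).subgroupOf T₀).map ι := by
    rw [hT, map_subgroupOf_functor (fun {_} _ P => Cfsg.centerThompsonAOf P)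
      (fun f hf P => ZJ.map_centerThompsonAOf f hf P) ι L.injective]
  refine Frobenius.hasNormalPComplement_of_forall_centralizes fun U _ _ g _ hgp => ?_
  suffices hg1 : g = 1 by rw [hg1]; exact one_mem _
  refine Subtype.ext ?_
  have hgp' : (orderOf (g : G)).Coprime p := by rwa [Subgroup.orderOf_coe]
  set Z := Cfsg.centerThompsonAOf S with hZdef
  have hZeq : Cfsg.centerThompsonAOf T₀ = Z := by rw [hZdef, hTS]
  have hZT : Z ≤ T₀ := hZeq ▸ ZJ.centerThompsonAOf_le _
  have hgZ : (g : G) ∈ Subgroup.normalizer (((Z.subgroupOf T₀).map ι : Subgroup G) : Set G) := by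
    rw [← hZeq, ← hW]; exact g.2
  let P := Q ⊔ Z
  have hPT : P ≤ T₀ := sup_le L.le hZT
  have hgP : (g : G) ∈ Subgroup.normalizer (((P.subgroupOf T₀).map ι : Subgroup G) : Set G) := by
    rw [show P.subgroupOf T₀ = Q.subgroupOf T₀ ⊔ Z.subgroupOf T₀ from
      Subgroup.subgroupOf_sup L.le hZT, Subgroup.map_sup]
    have hn := L.normal
    refine PGroups.mem_normalizer_of_map_conj_eq ?_
    rw [Subgroup.map_sup, PGroups.map_conj_eq_of_mem_normalizer hgZ,
      PGroups.map_conj_eq_of_mem_normalizer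
        (show (g : G) ∈ Subgroup.normalizer (((Q.subgroupOf T₀).map ι : Subgroup G) : Set G) by
          rw [Subgroup.normalizer_eq_top_iff.mpr hn]; trivial)]
  obtain ⟨φ, hφ, hr, he⟩ := L.hom P hPT g hgP
  -- `φ` is a map of `N_F(ZJ(S))`
  have hZS : S ≤ Subgroup.normalizer ((Z : Subgroup Ω) : Set Ω) :=
    Subgroup.le_normalizer.trans (ZJ.normalizer_le_normalizer_centerThompsonA S)
  have hSN : S ≤ normalizerIn S (Cfsg.centerThompsonAOf S) := le_inf le_rfl hZS
  obtain ⟨N, hNs⟩ := exists_normalizerSystem F (ZJ.centerThompsonAOf_le S)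
  have hle : P ⊔ Z ≤ P := sup_le le_rfl le_sup_right
  have hmem : φ ∈ N.Hom P := by
    rw [hNs P]
    refine ⟨hφ.1, (hPT.trans (normalizerIn_le Q)).trans hSN, fun x => hSN (apply_mem hφ.1 x),
      φ.comp (Subgroup.inclusion hle), mem_of_restrict hφ.1 hle fun _ => rfl, fun x => rfl, ?_⟩
    haveI := finite_sub (hZT.trans (normalizerIn_le (S := S) Q))
    refine Subgroup.eq_of_le_of_card_ge ?_ ?_
    · rintro _ ⟨z, hz, rfl⟩
      have hzT : ((Subgroup.inclusion hle z : P) : Ω) ∈ T₀ := hPT (Subgroup.inclusion hle z).2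
      have hy := hφ.2.2.1 (Subgroup.inclusion hle z)
      obtain ⟨w, hw, hwe⟩ := (Subgroup.mem_normalizer_iff.mp hgZ _).mp
        ⟨⟨_, hzT⟩, hz, rfl⟩
      have h1 := he (Subgroup.inclusion hle z) hzT hy
      rw [← hwe] at h1
      show φ (Subgroup.inclusion hle z) ∈ Z
      rw [show φ (Subgroup.inclusion hle z) = w from congrArg Subtype.val (L.injective h1)]
      exact hw
    · rw [Subgroup.card_map_of_injective
        (show Function.Injective (φ.comp (Subgroup.inclusion hle)) from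
          (F.injective_of_mem hφ.1).comp (Subgroup.inclusion_injective hle))]
      exact le_of_eq (Nat.card_congr (Subgroup.subgroupOfEquivOfLe (le_sup_right)).toEquiv).symm
  rw [hN N hNs P] at hmem
  obtain ⟨-, s, hs, hse⟩ := hmem
  obtain ⟨k, hk⟩ := hS ⟨s, hs.1⟩
  -- so some power of `g` centralises `Q`
  have hpow : ∀ (n : ℕ) (x : T₀) (hx : (x : Ω) ∈ P),
      ∃ hy : s ^ n * x * (s ^ n)⁻¹ ∈ T₀, s ^ n * x * (s ^ n)⁻¹ ∈ P ∧
        ι ⟨_, hy⟩ = (g : G) ^ n * ι x * ((g : G) ^ n)⁻¹ := by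
    intro n
    induction n with
    | zero => intro x hx; exact ⟨by simp, by simpa using hx, by simp⟩
    | succ n ih =>
      intro x hx
      obtain ⟨hy, hyP, he'⟩ := ih x hx
      have h1 : φ ⟨_, hyP⟩ = s * (s ^ n * x * (s ^ n)⁻¹) * s⁻¹ := hse _
      have h2 : s ^ (n + 1) * x * (s ^ (n + 1))⁻¹ = φ ⟨_, hyP⟩ := by rw [h1, pow_succ']; group
      have hy' := hφ.2.2.1 ⟨_, hyP⟩
      refine ⟨h2 ▸ hy', h2 ▸ hr.le ⟨_, rfl⟩, ?_⟩
      refine ((congrArg ι (Subtype.ext h2)).trans (he ⟨_, hyP⟩ hy hy')).trans ?_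
      rw [he', pow_succ']; group
  obtain ⟨m, hm⟩ := exists_pow_eq_self_of_coprime (n := p ^ k) (x := (g : G))
    (Nat.Coprime.pow_left k hgp'.symm)
  have hgk : (g : G) ^ p ^ k = 1 := by
    refine L.eq_one_of_centralizes hS (hgp'.coprime_dvd_left (orderOf_pow_dvd _)) fun x hx => ?_
    obtain ⟨hy, -, he'⟩ := hpow (p ^ k) x (Subgroup.mem_sup_left hx)
    rw [← he']
    refine congrArg ι (Subtype.ext ?_)
    show s ^ p ^ k * (x : Ω) * (s ^ p ^ k)⁻¹ = x
    rw [show s ^ p ^ k = 1 from congrArg Subtype.val hk]; simp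
  show (g : G) = 1
  rw [← hm, hgk, one_pow]

theorem normalizerHom_of_inner {X : Subgroup Ω} (hX : X ≤ S)
    (hXn : S ≤ Subgroup.normalizer (X : Set Ω))
    (hF : ∀ P : Subgroup Ω, F.Hom P = (innerFusionSystem S).Hom P) (P : Subgroup Ω) :
    F.normalizerHom X P = (innerFusionSystem (normalizerIn S X)).Hom P := by
  ext φ
  constructor
  · rintro ⟨hφ, hP, -, -⟩
    rw [hF P] at hφ
    obtain ⟨-, s, hs, hse⟩ := hφ
    exact ⟨hP, s, ⟨hs, hXn hs⟩, hse⟩
  · rintro ⟨hP, s, hs, hse⟩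
    have hPS : P ≤ S := hP.trans (normalizerIn_le X)
    refine ⟨mem_of_conj F hPS hs.1 hse, hP, fun x => ?_, conjHom _ s,
      F.conj_mem (sup_le hPS hX) hs.1, fun x => (hse x).symm, ?_⟩
    · rw [hse]
      exact Subgroup.mul_mem _ (Subgroup.mul_mem _ hs (hP x.2)) (Subgroup.inv_mem _ hs)
    · ext y
      constructor
      · rintro ⟨z, hz, rfl⟩
        exact (Subgroup.mem_normalizer_iff.mp hs.2 _).mp hz
      · intro hy
        exact ⟨⟨s⁻¹ * y * s, Subgroup.mem_sup_right ((Subgroup.mem_normalizer_iff''.mp hs.2 y).mp hy)⟩,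
          (Subgroup.mem_normalizer_iff''.mp hs.2 y).mp hy, by
            show s * (s⁻¹ * y * s) * s⁻¹ = y
            group⟩

end Cfsg.Agent.Lib.Transfer.FusionZJ
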