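import Cfsg.Agent.Lib.Transfer.AbelianJ
import Cfsg.Agent.Lib.Transfer.InvolvesS4
import Cfsg.Agent.Lib.Transfer.FunctorReduction
import Cfsg.Agent.Lib.Frobenius.QuadraticAbelian
import Cfsg.Agent.Lib.Coprime.Conjugacy

/-!
# Thompson's normal `p`-complement theorem for the abelian Thompson subgroup

`hasNormalPComplement_of_thompsonAOf` : if `p` is odd or `Sym(4)` is not involved in `G`, and
`C(Z(P))`, `N(J(P))` have normal `p`-complements, then so has `G`.

For `p = 2` the offender bound `sq_card_mul_card_fixed_le_of` leaves one configuration, an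
involution inverting an element of order three on a four-group section, which gives `Sym(4)`.
-/

set_option autoImplicit false
set_option linter.unusedSectionVars false

namespace Cfsg.Agent.Lib.Transfer.ThompsonJA

open Cfsg.Agent.Lib.Frobenius.QuadraticAbelian Cfsg.Agent.Lib.Transfer.AbelianJ
open scoped Pointwise

universe u

/-- The configuration left over for `p = 2`. -/
structure SymAction {U : Type*} [Group U] {M : Type*} [Group M] (ρ : M →* MulAut U) (U₁ W : Subgroup U) (a y : M) : Prop where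
  le : W ≤ U₁
  relIndex : W.relIndex U₁ = 4
  sq : a ^ 2 = 1
  cube : y ^ 3 = 1
  inv : a * y * a⁻¹ = y⁻¹
  stable : ∀ g ∈ Subgroup.closure ({a, y} : Set M), ∀ u ∈ U₁, ρ g u ∈ U₁
  fix : ∀ g ∈ Subgroup.closure ({a, y} : Set M), ∀ w ∈ W, ρ g w = w
  move_a : ∃ u ∈ U₁, ρ a u * u⁻¹ ∉ W
  move_y : ∃ u ∈ U₁, ρ y u * u⁻¹ ∉ W
  fixed_y : ∀ u ∈ U₁, ρ y u = u → u ∈ W

section Offender

variable {U : Type*} [CommGroup U] [Finite U] {M : Type*} [Group M] [Finite M] {p : ℕ}
  [hp : Fact p.Prime] (ρ : M →* MulAut U)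

/-- The offender bound, leaving the rank one case as a hypothesis. -/
theorem sq_card_mul_card_fixed_le_of {X : Subgroup M}
    (hXc : ∀ x ∈ X, ∀ y ∈ X, x * y = y * x) (hXp : (Nat.card X).Coprime p)
    (hbig : ∀ (B : Subgroup M) (a x : M), IsPGroup p B → x ∈ X → a ^ p = 1 →
      (∀ b ∈ B, Commute b a) → (∀ b ∈ B, Commute b x) → ¬ Commute a x →
      (∀ w ∈ X, a * w * a⁻¹ ∈ X) →
      p ^ 2 * Nat.card (fixedSub ρ (B ⊔ Subgroup.zpowers a)) ≤ Nat.card (fixedSub ρ B)) :
    ∀ A : Subgroup M, Cfsg.IsElementaryAbelian p A → (∀ a ∈ A, ∀ x ∈ X, a * x * a⁻¹ ∈ X) →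
      (∀ a ∈ A, (∀ x ∈ X, Commute a x) → a = 1) →
      Nat.card A ^ 2 * Nat.card (fixedSub ρ A) ≤ Nat.card U := by
  intro A
  induction h : Nat.card A using Nat.strong_induction_on generalizing A with
  | _ n ih =>
  subst h
  intro hA hAX hfaith
  by_cases hA1 : A = ⊥
  · subst hA1
    rw [Subgroup.card_bot, one_pow, one_mul]
    exact Subgroup.card_le_card_group _
  obtain ⟨K, hKA, ⟨x, hx, hKx, a, ha, hax⟩, hmax⟩ := exists_hyperplane hXc hXp hA hAX hfaith hA1
  have haK : a ∉ K := fun h => hax (hKx a h)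
  have hAeq : A = K ⊔ Subgroup.zpowers a :=
    le_antisymm (hmax a ha haK) (sup_le hKA (Subgroup.zpowers_le.mpr ha))
  have hlt : Nat.card K < Nat.card A := by
    refine lt_of_le_of_ne (Subgroup.card_le_of_le hKA) fun he => ?_
    exact haK (Subgroup.eq_of_le_of_card_ge hKA he.ge ▸ ha)
  have hKel : Cfsg.IsElementaryAbelian p K := PGroups.elemAb_mono hA hKA
  have hind := ih _ hlt K rfl hKel (fun b hb => hAX b (hKA hb))
    (fun b hb => hfaith b (hKA hb))
  have hAcomm : ∀ a ∈ A, ∀ b ∈ A, Commute a b := fun a ha b hb => PGroups.elemAb_comm hA ha hb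
  have hAle : Nat.card A ≤ p * Nat.card K := by
    have hnorm : Subgroup.zpowers a ≤ Subgroup.normalizer (K : Set M) :=
      (Subgroup.zpowers_le.mpr (Subgroup.mem_centralizer_iff.mpr fun k hk =>
        (hAcomm k (hKA hk) a ha).eq)).trans (Subgroup.centralizer_le_normalizer _)
    have hd : Disjoint (Subgroup.zpowers a) K := by
      rw [Subgroup.disjoint_def]
      intro z hz hzK
      obtain ⟨k, rfl⟩ := Subgroup.mem_zpowers_iff.mp hz
      by_contra hne
      apply haK
      have hoa : orderOf a = p := orderOf_eq_prime (hA.2 a ha) (fun h => haK (h ▸ K.one_mem))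
      have : Subgroup.zpowers (a ^ k) = Subgroup.zpowers a := by
        refine Subgroup.eq_of_le_of_card_ge
          (Subgroup.zpowers_le.mpr (zpow_mem (Subgroup.mem_zpowers a) k)) (le_of_eq ?_)
        rw [Nat.card_zpowers, Nat.card_zpowers, hoa]
        refine (orderOf_eq_prime ?_ hne).symm
        rw [← zpow_natCast, ← zpow_mul, mul_comm, zpow_mul, zpow_natCast, hA.2 a ha, one_zpow]
      exact (Subgroup.zpowers_le.mpr hzK) (this.symm ▸ Subgroup.mem_zpowers a)
    rw [hAeq, sup_comm, Lib.Coprime.card_sup_of_disjoint hnorm hd, Nat.card_zpowers]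
    exact Nat.mul_le_mul_right _
      (Nat.le_of_dvd hp.out.pos (orderOf_dvd_of_pow_eq_one (hA.2 a ha)))
  have hU₁ := hbig K a x (PGroups.elemAb_isPGroup hKel) hx (hA.2 a ha)
    (fun b hb => hAcomm b (hKA hb) a ha) hKx hax (hAX a ha)
  rw [← hAeq] at hU₁
  calc Nat.card A ^ 2 * Nat.card (fixedSub ρ A)
      ≤ (p * Nat.card K) ^ 2 * Nat.card (fixedSub ρ A) :=
        Nat.mul_le_mul_right _ (Nat.pow_le_pow_left hAle 2)
    _ = Nat.card K ^ 2 * (p ^ 2 * Nat.card (fixedSub ρ A)) := by ring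
    _ ≤ Nat.card K ^ 2 * Nat.card (fixedSub ρ K) := Nat.mul_le_mul_left _ hU₁
    _ ≤ Nat.card U := hind

theorem fixedSub_sup_zpowers_le (B : Subgroup M) (a : M) :
    fixedSub ρ (B ⊔ Subgroup.zpowers a) ≤ fixedSub ρ B :=
  fixedSub_antitone ρ le_sup_left

theorem apply_pow_eq {W : Subgroup U} {σ : MulAut U} (hW : ∀ w ∈ W, σ w = w) {u : U}
    (hu : σ u * u⁻¹ ∈ W) : ∀ n : ℕ, (σ ^ n) u = (σ u * u⁻¹) ^ n * u := by
  intro n
  induction n with
  | zero => simp
  | succ n ih =>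
      rw [pow_succ' σ, MulAut.mul_apply, ih, map_mul, map_pow, hW _ hu, pow_succ, mul_assoc,
        inv_mul_cancel_right]

/-- An element of order prime to `p` that fixes `W` pointwise and acts trivially modulo `W`. -/
theorem fixed_of_mod (hU : ∀ u : U, u ^ p = 1) {W : Subgroup U} {σ : MulAut U}
    (hσ : (orderOf σ).Coprime p) (hW : ∀ w ∈ W, σ w = w) {u : U} (hu : σ u * u⁻¹ ∈ W) :
    σ u = u := by
  have h1 := apply_pow_eq hW hu (orderOf σ)
  rw [pow_orderOf_eq_one, MulAut.one_apply] at h1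
  exact mul_inv_eq_one.mp (orderOf_eq_one_iff.mp (Nat.eq_one_of_dvd_coprimes hσ
    (orderOf_dvd_of_pow_eq_one (mul_eq_right.mp h1.symm)) (orderOf_dvd_of_pow_eq_one (hU _))))

theorem exists_symAction [Fact (Nat.Prime 2)] (hU : ∀ u : U, u ^ 2 = 1) {X : Subgroup M}
    (hXp : (Nat.card X).Coprime 2) (hXf : ∀ x ∈ X, (∀ u, ρ x u = u) → x = 1)
    {B : Subgroup M} {a x : M} (hB : IsPGroup 2 B) (hx : x ∈ X) (ha : a ^ 2 = 1)
    (hBa : ∀ b ∈ B, Commute b a) (hBx : ∀ b ∈ B, Commute b x) (hax : ¬ Commute a x)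
    (haX : ∀ w ∈ X, a * w * a⁻¹ ∈ X)
    (hsmall : Nat.card (fixedSub ρ B) <
      2 ^ 2 * Nat.card (fixedSub ρ (B ⊔ Subgroup.zpowers a))) :
    ∃ (U₁ W : Subgroup U) (y : M), SymAction ρ U₁ W a y := by
  classical
  let U₁ := fixedSub ρ B
  let a' := x * a * x⁻¹
  let C₁ := fixedSub ρ (B ⊔ Subgroup.zpowers a)
  let C₂ := fixedSub ρ (B ⊔ Subgroup.zpowers a')
  let W := C₁ ⊓ C₂
  let y := a * x * a⁻¹ * x⁻¹
  have hy : y = a * a'⁻¹ := by simp only [y, a']; group
  have hyX : y ∈ X := X.mul_mem (haX x hx) (X.inv_mem hx)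
  have hy1 : y ≠ 1 := fun h => hax (mul_inv_eq_iff_eq_mul.mp (mul_inv_eq_one.mp h))
  have hBy : ∀ b ∈ B, Commute b y := fun b hb =>
    (((hBa b hb).mul_right (hBx b hb)).mul_right (hBa b hb).inv_right).mul_right
      (hBx b hb).inv_right
  have hyodd : (orderOf y).Coprime 2 := hXp.coprime_dvd_left (X.orderOf_dvd_natCard hyX)
  have hσodd : (orderOf (ρ y)).Coprime 2 :=
    hyodd.coprime_dvd_left (orderOf_map_dvd ρ y)
  have hcl : ∀ g ∈ Subgroup.closure ({a, y} : Set M), g ∈ Subgroup.centralizer (B : Set M) := by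
    intro g hg
    refine (Subgroup.closure_le _).mpr ?_ hg
    rintro z (rfl | rfl) <;> intro b hb
    · exact (hBa b hb).eq
    · exact (hBy b hb).eq
  have hst : ∀ g ∈ Subgroup.closure ({a, y} : Set M), ∀ u ∈ U₁, ρ g u ∈ U₁ := fun g hg u hu =>
    apply_mem_fixedSub ρ B ⟨g, hcl g hg⟩ hu
  have hfix : ∀ g ∈ Subgroup.closure ({a, y} : Set M), ∀ w ∈ W, ρ g w = w := by
    intro g hg w hw
    have h1 : ρ a w = w := hw.1 a (Subgroup.mem_sup_right (Subgroup.mem_zpowers a))
    have h2 : ρ a'⁻¹ w = w :=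
      hw.2 _ (inv_mem (Subgroup.mem_sup_right (Subgroup.mem_zpowers a')))
    let St : Subgroup M := (MulAction.stabilizer (MulAut U) w).comap ρ
    refine (Subgroup.closure_le St).mpr ?_ hg
    rintro z (rfl | rfl)
    · exact h1
    · show ρ y w = w
      rw [hy, map_mul, MulAut.mul_apply, h2, h1]
  have ha' : a ∈ Subgroup.closure ({a, y} : Set M) := Subgroup.subset_closure (Or.inl rfl)
  have hy' : y ∈ Subgroup.closure ({a, y} : Set M) := Subgroup.subset_closure (Or.inr rfl)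
  -- the index
  have hP1 : IsPGroup 2 U₁ := fun v => ⟨1, by rw [pow_one]; exact Subtype.ext (hU _)⟩
  have hC₁ : C₁ ≤ U₁ := fixedSub_sup_zpowers_le ρ B a
  have hC₂ : C₂ ≤ U₁ := fixedSub_sup_zpowers_le ρ B a'
  have hcardC : Nat.card C₁ ≤ Nat.card C₂ := by
    have hxfix : ∀ u ∈ C₁, ρ x u ∈ C₂ := by
      intro u hu
      let St : Subgroup M := (MulAction.stabilizer (MulAut U) (ρ x u)).comap ρ
      show B ⊔ Subgroup.zpowers a' ≤ St
      refine sup_le (fun b hb => ?_) (Subgroup.zpowers_le.mpr ?_)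
      · show ρ b (ρ x u) = ρ x u
        rw [← MulAut.mul_apply, ← map_mul, (hBx b hb).eq, map_mul, MulAut.mul_apply,
          hu b (Subgroup.mem_sup_left hb)]
      · show ρ a' (ρ x u) = ρ x u
        rw [← MulAut.mul_apply, ← map_mul, show a' * x = x * a by simp only [a']; group, map_mul,
          MulAut.mul_apply, hu a (Subgroup.mem_sup_right (Subgroup.mem_zpowers a))]
    exact Nat.card_le_card_of_injective (fun u : C₁ => (⟨ρ x u, hxfix u u.2⟩ : C₂))
      fun u v h => Subtype.ext ((ρ x).injective (congrArg Subtype.val h))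
  have hidx : ∀ C : Subgroup U, C ≤ U₁ → Nat.card C₁ ≤ Nat.card C → C.relIndex U₁ ≤ 2 := by
    intro C hC hCc
    obtain ⟨k, hk⟩ := (Nat.dvd_prime_pow Nat.prime_two).mp
      ((IsPGroup.iff_card.mp hP1).choose_spec ▸
        (Subgroup.relIndex_dvd_card C U₁ : C.relIndex U₁ ∣ Nat.card U₁))
    have h1 := Subgroup.relIndex_mul_relIndex (⊥ : Subgroup U) C U₁ bot_le hC
    rw [Subgroup.relIndex_bot_left, Subgroup.relIndex_bot_left] at h1
    have h2 : Nat.card C * C.relIndex U₁ < Nat.card C * 2 ^ 2 := by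
      rw [h1]
      calc Nat.card U₁ < 2 ^ 2 * Nat.card C₁ := hsmall
        _ ≤ 2 ^ 2 * Nat.card C := Nat.mul_le_mul_left _ hCc
        _ = Nat.card C * 2 ^ 2 := mul_comm _ _
    have h3 := Nat.lt_of_mul_lt_mul_left h2
    rw [hk.2] at h3 ⊢
    have : k < 2 := (Nat.pow_lt_pow_iff_right (by norm_num : 1 < 2)).mp h3
    calc 2 ^ k ≤ 2 ^ 1 := Nat.pow_le_pow_right (by norm_num) (by omega)
      _ = 2 := pow_one 2
  have hWidx : W.relIndex U₁ ≤ 4 :=
    Subgroup.relIndex_inf_le.trans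
      (Nat.mul_le_mul (hidx C₁ hC₁ le_rfl) (hidx C₂ hC₂ hcardC))
  -- the four points
  let E := U₁ ⧸ W.subgroupOf U₁
  have hE : Nat.card E ≤ 4 := hWidx
  let T : U₁ → U₁ := fun u => ⟨ρ y u, hst y hy' u u.2⟩
  let g : E → E := Quotient.map' T (fun u v h => by
    rw [QuotientGroup.leftRel_apply, Subgroup.mem_subgroupOf] at h ⊢
    show (ρ y (u : U))⁻¹ * ρ y (v : U) ∈ W
    rw [← map_inv, ← map_mul]
    have h' : (u : U)⁻¹ * v ∈ W := h
    rw [hfix y hy' _ h']
    exact h')
  have hg : ∀ u : U₁, g (u : E) = ((T u : U₁) : E) := fun u => rfl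
  have hginj : Function.Injective g := by
    intro s t
    induction s using QuotientGroup.induction_on with
    | H s =>
      induction t using QuotientGroup.induction_on with
      | H t =>
        rw [hg, hg, QuotientGroup.eq, QuotientGroup.eq, Subgroup.mem_subgroupOf,
          Subgroup.mem_subgroupOf]
        intro h
        have h' : (ρ y (s : U))⁻¹ * ρ y (t : U) ∈ W := h
        rw [← map_inv, ← map_mul] at h'
        have h2 := hfix y⁻¹ (inv_mem hy') _ h'
        rw [← MulAut.mul_apply, ← map_mul, inv_mul_cancel, map_one, MulAut.one_apply] at h2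
        show (s : U)⁻¹ * t ∈ W
        rw [h2]; exact h'
  have hg1 : g ((1 : U₁) : E) = ((1 : U₁) : E) := by
    rw [hg]; exact congrArg _ (Subtype.ext (map_one (ρ y)))
  have hmem : ∀ (z : M) (hz : z ∈ Subgroup.closure ({a, y} : Set M)) (u : U₁),
      ρ z u * (u : U)⁻¹ ∈ W ↔ ((⟨ρ z u, hst z hz u u.2⟩ : U₁) : E) = (u : E) := by
    intro z hz u
    rw [QuotientGroup.eq, Subgroup.mem_subgroupOf]
    show _ ↔ (ρ z (u : U))⁻¹ * (u : U) ∈ W
    rw [← inv_mem_iff, mul_inv_rev, inv_inv, mul_comm]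
  have hmove : ∃ u ∈ U₁, ρ y u * u⁻¹ ∉ W := by
    by_contra hne
    push Not at hne
    refine hy1 (hXf y hyX (apply_eq_self_of_fixed ρ hU hB hyodd hBy fun u hu => ?_))
    exact fixed_of_mod hU hσodd (hfix y hy') (hne u hu)
  obtain ⟨u₀, hu₀, hu₀W⟩ := hmove
  let e₀ : E := ((1 : U₁) : E)
  let e₁ : E := ((⟨u₀, hu₀⟩ : U₁) : E)
  let e₂ := g e₁
  let e₃ := g e₂
  have h21 : e₂ ≠ e₁ := fun h => hu₀W ((hmem y hy' ⟨u₀, hu₀⟩).mpr h)
  have h10 : e₁ ≠ e₀ := fun h => h21 (by
    show g e₁ = e₁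
    rw [h, hg1])
  have h20 : e₂ ≠ e₀ := fun h => h10 (hginj (h.trans hg1.symm))
  have h30 : e₃ ≠ e₀ := fun h => h20 (hginj (h.trans hg1.symm))
  have h32 : e₃ ≠ e₂ := fun h => h21 (hginj h)
  have hiter : ∀ (n : ℕ) (u : U₁), g^[n] (u : E) =
      ((⟨(ρ y ^ n) u, by rw [← map_pow]; exact hst _ (pow_mem hy' n) u u.2⟩ : U₁) : E) := by
    intro n
    induction n with
    | zero => intro u; rfl
    | succ n ih =>
        intro u
        rw [Function.iterate_succ_apply', ih, hg]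
        refine congrArg _ (Subtype.ext ?_)
        show ρ y ((ρ y ^ n) (u : U)) = (ρ y ^ (n + 1)) (u : U)
        rw [pow_succ', MulAut.mul_apply]
  have h31 : e₃ ≠ e₁ := by
    intro h
    apply h21
    obtain ⟨k, hk⟩ : Odd (orderOf (ρ y)) :=
      Nat.coprime_two_right.mp hσodd
    have h2 : g^[2] e₁ = e₁ := h
    have h3 : g^[orderOf (ρ y)] e₁ = e₁ := by
      rw [hiter]
      refine congrArg _ (Subtype.ext ?_)
      show (ρ y ^ orderOf (ρ y)) u₀ = u₀
      rw [pow_orderOf_eq_one, MulAut.one_apply]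
    rw [hk, add_comm, Function.iterate_add_apply, Function.iterate_one, Function.iterate_mul] at h3
    rwa [Function.iterate_fixed h2 k] at h3
  have hall : ∀ z : E, z = e₀ ∨ z = e₁ ∨ z = e₂ ∨ z = e₃ := by
    intro z
    by_contra hz
    push Not at hz
    obtain ⟨hz0, hz1, hz2, hz3⟩ := hz
    have : Fintype E := Fintype.ofFinite E
    have h5 : ({z, e₀, e₁, e₂, e₃} : Finset E).card = 5 := by
      repeat rw [Finset.card_insert_of_notMem]
      · rfl
      all_goals simp [*, Ne.symm]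
    have := Finset.card_le_univ ({z, e₀, e₁, e₂, e₃} : Finset E)
    rw [h5, ← Nat.card_eq_fintype_card] at this
    omega
  have hcard4 : W.relIndex U₁ = 4 := by
    refine le_antisymm hWidx ?_
    have : Fintype E := Fintype.ofFinite E
    have h4 : ({e₀, e₁, e₂, e₃} : Finset E).card = 4 := by
      repeat rw [Finset.card_insert_of_notMem]
      · rfl
      all_goals simp [*, Ne.symm]
    have := Finset.card_le_univ ({e₀, e₁, e₂, e₃} : Finset E)
    rw [h4, ← Nat.card_eq_fintype_card] at this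
    exact this
  have h4' : g e₃ = e₁ := by
    rcases hall (g e₃) with h | h | h | h
    · exact absurd (hginj (h.trans hg1.symm)) h30
    · exact h
    · exact absurd (hginj h) h31
    · exact absurd (hginj h) h32
  have hg3 : ∀ z : E, g^[3] z = z := by
    intro z
    rcases hall z with rfl | rfl | rfl | rfl
    · show g (g (g e₀)) = e₀
      rw [hg1, hg1, hg1]
    · exact h4'
    · show g (g (g (g e₁))) = g e₁
      rw [show g (g (g e₁)) = e₁ from h4']
    · show g (g (g e₃)) = e₃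
      rw [h4']
  have hgfix : ∀ z : E, g z = z → z = e₀ := by
    intro z hz
    rcases hall z with h | rfl | rfl | rfl
    · exact h
    · exact absurd hz h21
    · exact absurd hz h32
    · exact absurd (hz.symm.trans h4') h31
  have hcube : y ^ 3 = 1 := by
    refine hXf _ (pow_mem hyX 3) (apply_eq_self_of_fixed ρ hU hB
      (hyodd.coprime_dvd_left (orderOf_pow_dvd 3)) (fun b hb => (hBy b hb).pow_right 3)
      fun u hu => ?_)
    refine fixed_of_mod hU (hyodd.coprime_dvd_left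
      ((orderOf_map_dvd ρ _).trans (orderOf_pow_dvd 3))) (hfix _ (pow_mem hy' 3)) ?_
    rw [hmem _ (pow_mem hy' 3) ⟨u, hu⟩]
    have := hg3 ((⟨u, hu⟩ : U₁) : E)
    rw [hiter] at this
    refine Eq.trans (congrArg _ (Subtype.ext ?_)) this
    show ρ (y ^ 3) u = (ρ y ^ 3) u
    rw [map_pow]
  have ha2 : a⁻¹ = a := inv_eq_of_mul_eq_one_right (by rw [← pow_two]; exact ha)
  have hinv : a * y * a⁻¹ = y⁻¹ := by
    simp only [y, mul_inv_rev, inv_inv, ha2]
    calc a * (a * x * a * x⁻¹) * a = (a * a) * (x * a * x⁻¹ * a) := by group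
      _ = _ := by rw [← pow_two, ha, one_mul]; group
  have hamove : ∃ u ∈ U₁, ρ a u * u⁻¹ ∉ W := by
    by_contra hne
    push Not at hne
    -- then `y` and `y⁻¹` agree modulo `W`
    apply h31
    show g (g e₁) = e₁
    have key : ∀ u : U₁, g (g (u : E)) = (u : E) := by
      intro u
      obtain ⟨v, hvdef⟩ : ∃ v : U, v = ρ y u := ⟨_, rfl⟩
      have hv : v ∈ U₁ := hvdef ▸ hst y hy' u u.2
      have hv2 : ρ y v ∈ U₁ := hst y hy' v hv
      have h1 := hne (ρ y v) hv2
      have h2 : ρ a (ρ y v) = ρ y⁻¹ (ρ a v) := by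
        have hay : a * y = y⁻¹ * a := mul_inv_eq_iff_eq_mul.mp hinv
        show ρ a (ρ y v) = ρ y⁻¹ (ρ a v)
        rw [← MulAut.mul_apply, ← MulAut.mul_apply, ← map_mul, ← map_mul, hay]
      rw [h2] at h1
      have h3 := hne v hv
      have h4 := hfix y⁻¹ (inv_mem hy') _ h3
      rw [map_mul, map_inv (ρ y⁻¹), show ρ y⁻¹ v = u by
        rw [hvdef, ← MulAut.mul_apply, ← map_mul, inv_mul_cancel, map_one, MulAut.one_apply]] at h4
      have h5 : ρ y⁻¹ (ρ a v) = ρ a v * v⁻¹ * u := by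
        rw [← h4, inv_mul_cancel_right]
      rw [h5] at h1
      rw [hg, hg]
      refine QuotientGroup.eq.mpr (Subgroup.mem_subgroupOf.mpr ?_)
      show (ρ y (ρ y u))⁻¹ * (u : U) ∈ W
      rw [← hvdef]
      have e : (ρ y v)⁻¹ * (u : U) =
          (ρ a v * v⁻¹)⁻¹ * (ρ a v * v⁻¹ * u * (ρ y v)⁻¹) := by
        rw [mul_comm]; group
      rw [e]
      exact mul_mem (inv_mem h3) h1
    exact key ⟨u₀, hu₀⟩
  refine ⟨U₁, W, y, inf_le_left.trans hC₁, hcard4, ha, hcube, hinv, hst, hfix, hamove,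
    ⟨u₀, hu₀, hu₀W⟩, fun u hu hfu => ?_⟩
  have h1 : ((⟨u, hu⟩ : U₁) : E) = e₀ :=
    hgfix _ (by rw [hg]; exact congrArg _ (Subtype.ext hfu))
  have h2 := Subgroup.mem_subgroupOf.mp (QuotientGroup.eq.mp h1)
  simpa using h2

end Offender

section Lift

variable {G : Type*} [Group G] [Finite G]

/-- Lifting a `SymAction` of `G ⧸ Q` on a normal abelian `U` to a section `Sym(4)` of `G`. -/
theorem involves_of_symAction {Q U : Subgroup G} [Q.Normal] [U.Normal] (hQ : IsPGroup 2 Q)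
    (ρ : G ⧸ Q →* MulAut U) (hρ : ∀ (g : G) (u : U), (ρ (QuotientGroup.mk' Q g) u : G) = g * u * g⁻¹)
    (hexp : ∀ u : U, u ^ 2 = 1) (hcomm : ∀ u v : U, u * v = v * u)
    {U₁ W : Subgroup U} {a y : G ⧸ Q} (h : SymAction ρ U₁ W a y) :
    Cfsg.Involves (Equiv.Perm (Fin 4)) G := by
  classical
  have hyf : orderOf y = 3 := by
    have : Fact (Nat.Prime 3) := ⟨Nat.prime_three⟩
    refine orderOf_eq_prime h.cube fun hy => ?_
    obtain ⟨u, hu, hmv⟩ := h.move_y
    rw [hy, map_one, MulAut.one_apply, mul_inv_cancel] at hmv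
    exact hmv W.one_mem
  -- a lift of order three of `y`
  obtain ⟨g, rfl⟩ := QuotientGroup.mk'_surjective Q y
  obtain ⟨a₀, rfl⟩ := QuotientGroup.mk'_surjective Q a
  have hg3 : g ^ 3 ∈ Q := (QuotientGroup.eq_one_iff _).mp h.cube
  obtain ⟨m, hm⟩ := hQ ⟨g ^ 3, hg3⟩
  have hm' : g ^ (3 * 2 ^ m) = 1 := by
    rw [pow_mul]; exact congrArg Subtype.val hm
  let t := g ^ (4 ^ m)
  have ht3 : t ^ 3 = 1 := by
    rw [← pow_mul, show 4 ^ m * 3 = 3 * 2 ^ m * 2 ^ m by
      rw [show (4 : ℕ) = 2 * 2 by norm_num, mul_pow]; ring, pow_mul, hm', one_pow]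
  have htg : QuotientGroup.mk' Q t = QuotientGroup.mk' Q g := by
    rw [map_pow, ← pow_mod_orderOf, hyf, Nat.pow_mod,
      show (4 : ℕ) % 3 = 1 from rfl, one_pow]
    exact pow_one _
  let T := Subgroup.zpowers t
  have hot : orderOf t = 3 := by
    have : Fact (Nat.Prime 3) := ⟨Nat.prime_three⟩
    refine orderOf_eq_prime ht3 fun h1 => ?_
    rw [h1, map_one] at htg
    rw [← htg, orderOf_one] at hyf
    omega
  have hTc : Nat.card T = 3 := by rw [Nat.card_zpowers, hot]
  -- a lift of `a` normalising `T`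
  let t' := a₀ * t * a₀⁻¹
  have ht' : QuotientGroup.mk' Q t' = (QuotientGroup.mk' Q t)⁻¹ := by
    simp only [t', map_mul, map_inv]
    rw [htg]
    exact h.inv
  obtain ⟨j, hj⟩ := IsPGroup.iff_card.mp hQ
  have hcop : (Nat.card T).Coprime (Nat.card Q) := by
    rw [hTc, hj]; exact Nat.Coprime.pow_right _ (by norm_num)
  obtain ⟨q, hq, hqT⟩ := Lib.Coprime.exists_conj_eq_of_coprime (A := T)
    (B := Subgroup.zpowers t') (K := Q)
    (by rw [Subgroup.normalizer_eq_top_iff.mpr inferInstance]; exact le_top) hcop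
    (Or.inl inferInstance)
    (Subgroup.zpowers_le.mpr (by
      have h1 : t * t' ∈ Q := (QuotientGroup.eq_one_iff _).mp (by
        show QuotientGroup.mk' Q (t * t') = 1
        rw [map_mul, ht', mul_inv_cancel])
      have h2 := mul_mem (Subgroup.mem_sup_left (T := Q) (T.inv_mem (Subgroup.mem_zpowers t)))
        (Subgroup.mem_sup_right (S := T) h1)
      rwa [inv_mul_cancel_left] at h2))
    (by
      rw [Nat.card_zpowers, hTc, ← hot]
      exact (orderOf_injective (MulAut.conj a₀).toMonoidHom (MulAut.conj a₀).injective t))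
  let n := q⁻¹ * a₀
  have hnT : n ∈ Subgroup.normalizer (T : Set G) := by
    refine Lib.Coprime.mem_normalizer_of_conj_smul_eq ?_
    have h1 : MulAut.conj a₀ • T = Subgroup.zpowers t' := by
      rw [Lib.Coprime.conj_smul_eq_map, MonoidHom.map_zpowers]; rfl
    rw [Lib.Coprime.conj_smul_mul, h1, ← hqT, ← Lib.Coprime.conj_smul_mul, inv_mul_cancel, map_one,
      one_smul]
  have hna : QuotientGroup.mk' Q n = QuotientGroup.mk' Q a₀ := by
    rw [map_mul, show QuotientGroup.mk' Q q⁻¹ = 1 from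
      (QuotientGroup.eq_one_iff _).mpr (inv_mem hq), one_mul]
  -- the three subgroups
  let V₁ := U₁.map U.subtype
  let W₁ := W.map U.subtype
  let N := Subgroup.normalizer (T : Set G) ⊓
    (Subgroup.closure ({QuotientGroup.mk' Q a₀, QuotientGroup.mk' Q g} : Set (G ⧸ Q))).comap
      (QuotientGroup.mk' Q)
  have hconj : ∀ (x : G) (u : U), x * (u : G) * x⁻¹ = (ρ (QuotientGroup.mk' Q x) u : G) :=
    fun x u => (hρ x u).symm
  have hN : ∀ (S : Subgroup U), (∀ z ∈ Subgroup.closure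
      ({QuotientGroup.mk' Q a₀, QuotientGroup.mk' Q g} : Set (G ⧸ Q)), ∀ u ∈ S, ρ z u ∈ S) →
      N ≤ Subgroup.normalizer (S.map U.subtype : Set G) := by
    intro S hS x hx
    refine Subgroup.mem_normalizer_fintype ?_
    rintro _ ⟨u, hu, rfl⟩
    exact ⟨ρ (QuotientGroup.mk' Q x) u, hS _ hx.2 u hu, (hconj x u).symm⟩
  have hVN : V₁ ⊓ N ≤ W₁ := by
    rintro _ ⟨⟨u, hu, rfl⟩, hn⟩
    refine ⟨u, h.fixed_y u hu ?_, rfl⟩
    -- `u` centralises `t`
    have h1 : (u : G) * t * (u : G)⁻¹ ∈ T :=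
      (Subgroup.mem_normalizer_iff.mp hn.1 t).mp (Subgroup.mem_zpowers t)
    have h2 : t * (u : G) * t⁻¹ * (u : G)⁻¹ ∈ U :=
      U.mul_mem (Subgroup.Normal.conj_mem inferInstance _ u.2 t) (U.inv_mem u.2)
    have h3 : t * (u : G) * t⁻¹ * (u : G)⁻¹ ∈ T := by
      have := T.mul_mem (Subgroup.mem_zpowers t) (T.inv_mem h1)
      simpa [mul_assoc] using this
    have h4 : (t * (u : G) * t⁻¹ * (u : G)⁻¹) ^ 2 = 1 := by
      have h5 := hexp ⟨_, h2⟩
      exact congrArg Subtype.val h5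
    have h5 : t * (u : G) * t⁻¹ * (u : G)⁻¹ = 1 := by
      refine orderOf_eq_one_iff.mp (Nat.eq_one_of_dvd_coprimes (by norm_num : Nat.Coprime 3 2) ?_
        (orderOf_dvd_of_pow_eq_one h4))
      exact hTc ▸ T.orderOf_dvd_natCard h3
    refine Subtype.ext ?_
    rw [← htg, hρ]
    exact mul_inv_eq_one.mp h5
  refine InvolvesS4.involves_perm_four (V := V₁) (W := W₁) (N := N) (Subgroup.map_mono h.le)
    (hN U₁ h.stable) (hN W fun z hz u hu => by rw [h.fix z hz u hu]; exact hu) ?_ hVN ?_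
    (t := t) ⟨Subgroup.le_normalizer (Subgroup.mem_zpowers t),
      Subgroup.mem_comap.mpr (htg.symm ▸ Subgroup.subset_closure (Or.inr rfl))⟩ ht3 ?_
    (a := n) ⟨hnT, Subgroup.mem_comap.mpr (hna.symm ▸ Subgroup.subset_closure (Or.inl rfl))⟩
    ?_ ?_
  · rintro _ ⟨v, hv, rfl⟩
    refine Subgroup.mem_normalizer_fintype ?_
    rintro _ ⟨w, hw, rfl⟩
    refine ⟨w, hw, ?_⟩
    show (w : G) = (v : G) * w * (v : G)⁻¹
    rw [show (v : G) * w = w * v from congrArg Subtype.val (hcomm v w), mul_inv_cancel_right]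
  · rw [← h.relIndex]
    exact Subgroup.relIndex_map_map_of_injective W U₁ U.subtype_injective
  · obtain ⟨u, hu, hmv⟩ := h.move_y
    refine ⟨u, ⟨u, hu, rfl⟩, ?_⟩
    rw [hconj, htg]
    rintro ⟨w, hw, he⟩
    have he' : w = _ * u⁻¹ := Subtype.ext he
    exact hmv (he' ▸ hw)
  · rintro _ ⟨u, hu, rfl⟩
    refine ⟨1, W.one_mem, ?_⟩
    show ((1 : U) : G) = (u : G)⁻¹ * (n * (n * u * n⁻¹) * n⁻¹)
    rw [hconj, hconj, ← MulAut.mul_apply, ← map_mul, hna, ← pow_two, h.sq, map_one,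
      MulAut.one_apply]
    simp
  · obtain ⟨u, hu, hmv⟩ := h.move_a
    refine ⟨u, ⟨u, hu, rfl⟩, ?_⟩
    rw [hconj, hna]
    rintro ⟨w, hw, he⟩
    have he' : w = _ * u⁻¹ := Subtype.ext he
    exact hmv (he' ▸ hw)

end Lift

section Main

variable {p : ℕ} [hp : Fact p.Prime]

/-- The abelian Thompson subgroup as a functor. -/
def functorA (p : ℕ) : FunctorReduction.PFunctor.{u} p where
  W P := Cfsg.thompsonSubgroupAOf P
  le P := thompsonSubgroupAOf_le P
  map f hf P := map_thompsonSubgroupAOf f hf P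
  ne_bot _ hne := thompsonSubgroupAOf_ne_bot hne

set_option maxHeartbeats 1000000 in
theorem no_core {G : Type u} [Group G] [Finite G] (P : Sylow p G) (Q : Subgroup G) [Q.Normal]
    (U : Subgroup G) (K : Subgroup (G ⧸ Q))
    (hgood : p ≠ 2 ∨ ¬ Cfsg.Involves (Equiv.Perm (Fin 4)) G)
    (c : FunctorReduction.Core (functorA.{u} p) P Q U K) : False := by
  classical
  have hUn := c.normal_U
  have hKn := c.normal_K
  let f := QuotientGroup.mk' Q
  -- an abelian subgroup of largest order outside `Q`, meeting `U` as much as possible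
  let 𝒜 : Set (Subgroup G) := {A | A ∈ maxAbIn (P : Subgroup G) ∧ ¬ A ≤ Q}
  have hne : 𝒜.Nonempty := by
    by_contra h
    refine c.not_normal Q inferInstance (thompsonSubgroupAOf_eq_of_le c.le_sylow ?_)
    show Cfsg.thompsonSubgroupAOf (P : Subgroup G) ≤ Q
    rw [thompsonSubgroupAOf_eq]
    exact sSup_le fun A hA => by_contra fun hAQ => h ⟨A, hA, hAQ⟩
  obtain ⟨A, ⟨hA, hAQ⟩, hmax⟩ := Set.exists_max_image 𝒜
    (fun A => Nat.card (A ⊓ U : Subgroup G)) (Set.toFinite _) hne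
  have hUP : U ≤ (P : Subgroup G) := c.U_le.trans c.le_sylow
  have hUcomm : IsMulCommutative U := .of_setLike_mul_comm c.comm_U
  have hQU : ∀ x ∈ Q, ∀ u ∈ U, x * u = u * x := fun x hx u hu =>
    (Subgroup.mem_centralizer_iff.mp (c.centralizer_U.symm ▸ hx) u hu).symm
  have hAc : ∀ x ∈ A, ∀ y ∈ A, x * y = y * x := fun x hx y hy =>
    congrArg Subtype.val (hA.2.1.is_comm.comm (⟨x, hx⟩ : A) ⟨y, hy⟩)
  let D := (A ⊓ Q) ⊔ U
  have hD : IsMulCommutative D :=
    LA5.Replacement.isMulCommutative_sup (isMulCommutative_mono hA.2.1 inf_le_left) hUcomm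
      fun x hx u hu => hQU x hx.2 u hu
  have hDA : Nat.card D ≤ Nat.card A := hA.2.2 D (sup_le (inf_le_left.trans hA.1) hUP) hD
  have hUN : U ≤ Subgroup.normalizer (A : Set G) := by
    by_contra hn
    obtain ⟨A', hA', h1, h2, h3⟩ := exists_replacement_in P.2 hA hUP hUcomm
      (by rw [Subgroup.normalizer_eq_top_iff.mpr hUn]; exact le_top) hn
    have hA'Q : A' ≤ Q := by
      by_contra hc
      have hle := hmax A' ⟨hA', hc⟩
      have hlt : Nat.card (A ⊓ U : Subgroup G) < Nat.card (A' ⊓ U : Subgroup G) :=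
        lt_of_le_of_ne (Subgroup.card_le_of_le h3.le)
          fun he => h3.ne (Subgroup.eq_of_le_of_card_ge h3.le he.ge)
      exact absurd hle (not_le.mpr hlt)
    have hA'D : A' ≤ D := by
      intro x hx
      have hx' : x ∈ ((A ⊔ U : Subgroup G) : Set G) := h2 hx
      rw [Subgroup.mul_normal] at hx'
      obtain ⟨a, ha, u, hu, rfl⟩ := hx'
      refine mul_mem (Subgroup.mem_sup_left ⟨ha, ?_⟩) (Subgroup.mem_sup_right hu)
      simpa using Q.mul_mem (hA'Q hx) (Q.inv_mem (c.U_le hu))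
    have hDeq : A' = D :=
      Subgroup.eq_of_le_of_card_ge hA'D (hDA.trans (hA'.2.2 A hA.1 hA.2.1))
    exact hn (le_sup_right.trans (hDeq ▸ h1))
  -- the action on `U`
  let ρ : G ⧸ Q →* MulAut U := QuotientGroup.lift Q (MulAut.conjNormal (H := U)) (fun x hx =>
    MulEquiv.ext fun w => Subtype.ext (by
      rw [MulAut.conjNormal_apply, MulAut.one_apply, hQU x hx w w.2, mul_inv_cancel_right]))
  have hρ : ∀ (g : G) (u : U), (ρ (f g) u : G) = g * u * g⁻¹ := fun g u =>
    MulAut.conjNormal_apply g u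
  have hρinj : Function.Injective ρ := by
    rw [← MonoidHom.ker_eq_bot_iff, Subgroup.eq_bot_iff_forall]
    intro z hz
    obtain ⟨g, rfl⟩ := QuotientGroup.mk'_surjective Q z
    refine (QuotientGroup.eq_one_iff g).mpr (c.centralizer_U ▸ Subgroup.mem_centralizer_iff.mpr ?_)
    intro w hw
    have h1 : g * w * g⁻¹ = w := by
      have := congrArg Subtype.val (MulEquiv.congr_fun (MonoidHom.mem_ker.mp hz) ⟨w, hw⟩)
      rwa [hρ] at this
    exact (mul_inv_eq_iff_eq_mul.mp h1).symm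
  have hq : ∀ a ∈ A, ∀ u : U, ρ (f a) (ρ (f a) u * u⁻¹) = ρ (f a) u * u⁻¹ := by
    intro a ha u
    refine Subtype.ext ?_
    rw [hρ, Subgroup.coe_mul, Subgroup.coe_inv, hρ]
    have hmem : a * (u : G) * a⁻¹ * (u : G)⁻¹ ∈ A := by
      have h1 := (Subgroup.mem_normalizer_iff.mp (hUN u.2) a⁻¹).mp (A.inv_mem ha)
      simpa [mul_assoc] using A.mul_mem ha h1
    rw [hAc a ha _ hmem, mul_inv_cancel_right]
  have hUexp : ∀ u : U, u ^ p = 1 := fun u => Subtype.ext (c.exp_U u u.2)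
  let iU : CommGroup U := { U.toGroup with mul_comm := hUcomm.is_comm.comm }
  have hAP : A.map f ≤ (P : Subgroup G).map f := Subgroup.map_mono hA.1
  have hKX : (Nat.card K).Coprime p := (hp.out.coprime_iff_not_dvd.mpr c.coprime_K).symm
  by_cases hp2 : p = 2
  · subst hp2
    have hS4 : ¬ Cfsg.Involves (Equiv.Perm (Fin 4)) G := hgood.resolve_left (fun h => h rfl)
    -- the image of `A` is elementary abelian
    have hsq : ∀ a ∈ A, f a ^ 2 = 1 := by
      intro a ha
      apply hρinj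
      rw [map_one, pow_two, map_mul]
      refine MulEquiv.ext fun u => ?_
      rw [MulAut.mul_apply, MulAut.one_apply]
      have h1 := hq a ha u
      rw [map_mul, map_inv, mul_inv_eq_iff_eq_mul] at h1
      rw [h1, mul_assoc, mul_comm u⁻¹, ← mul_assoc, ← pow_two, hUexp, one_mul, eq_comm,
        eq_inv_iff_mul_eq_one, ← pow_two, hUexp]
    have hAb : Cfsg.IsElementaryAbelian 2 (A.map f) := by
      refine ⟨isMulCommutative_map f hA.2.1, ?_⟩
      rintro _ ⟨a, ha, rfl⟩
      exact hsq a ha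
    have hbound := sq_card_mul_card_fixed_le_of ρ c.comm_K hKX
      (fun B a x hB hx ha hBa hBx hax haX => by
        by_contra hc
        obtain ⟨U₁, W, y, hsym⟩ := exists_symAction ρ hUexp hKX
          (fun z _ hz => hρinj (by rw [map_one]; exact MulEquiv.ext hz)) hB hx ha hBa hBx hax haX
          (not_le.mp hc)
        exact hS4 (involves_of_symAction c.isPGroup (hexp := hUexp)
          (hcomm := hUcomm.is_comm.comm) ρ hρ hsym))
      (A.map f) hAb (fun a _ x hx => Subgroup.Normal.conj_mem inferInstance x hx a)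
      (fun a ha => c.faithful a (hAP ha))
    -- but `A` is large
    have h1 := Subgroup.relIndex_mul_relIndex (⊥ : Subgroup G) (A ⊓ Q) A bot_le inf_le_left
    rw [Subgroup.relIndex_bot_left, Subgroup.relIndex_bot_left, Subgroup.inf_relIndex_left] at h1
    have h2 : Q.relIndex A = Nat.card (A.map f) := by
      have h := Subgroup.relIndex_ker (K := A) f
      rwa [QuotientGroup.ker_mk'] at h
    have h3 := Subgroup.relIndex_mul_relIndex (⊥ : Subgroup G) U D bot_le le_sup_right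
    rw [Subgroup.relIndex_bot_left, Subgroup.relIndex_bot_left, Subgroup.relIndex_sup_right] at h3
    have h4 := Subgroup.relIndex_mul_relIndex (⊥ : Subgroup G) (A ⊓ Q ⊓ U) (A ⊓ Q) bot_le
      inf_le_left
    rw [Subgroup.relIndex_bot_left, Subgroup.relIndex_bot_left, Subgroup.inf_relIndex_left] at h4
    have h5 : Nat.card U ≤ Nat.card (A.map f) * Nat.card (A ⊓ Q ⊓ U : Subgroup G) := by
      refine Nat.le_of_mul_le_mul_right (c := Nat.card (A ⊓ Q : Subgroup G)) ?_ Nat.card_pos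
      calc Nat.card U * Nat.card (A ⊓ Q : Subgroup G)
          = Nat.card D * Nat.card (A ⊓ Q ⊓ U : Subgroup G) := by rw [← h3, ← h4]; ring
        _ ≤ Nat.card A * Nat.card (A ⊓ Q ⊓ U : Subgroup G) := Nat.mul_le_mul_right _ hDA
        _ = _ := by rw [← h1, h2]; ring
    have h6 : Nat.card (A ⊓ Q ⊓ U : Subgroup G) ≤ Nat.card (fixedSub ρ (A.map f)) := by
      refine Nat.card_le_card_of_injective (fun w => ⟨⟨w.1, w.2.2⟩, ?_⟩) fun u v h => Subtype.ext
        (congrArg (fun z : fixedSub ρ (A.map f) => ((z : U) : G)) h)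
      rintro _ ⟨a, ha, rfl⟩
      refine Subtype.ext ((hρ a _).trans ?_)
      show a * (w : G) * a⁻¹ = w
      rw [hAc a ha _ w.2.1.1, mul_inv_cancel_right]
    have h7 : 2 ≤ Nat.card (A.map f) := by
      refine (Subgroup.one_lt_card_iff_ne_bot _).mpr ?_
      rw [Ne, Subgroup.map_eq_bot_iff, QuotientGroup.ker_mk']
      exact hAQ
    have h8 : 0 < Nat.card (fixedSub ρ (A.map f)) := Nat.card_pos
    have h9 := h5.trans (Nat.mul_le_mul_left _ h6)
    have h10 : Nat.card (A.map f) ^ 2 * Nat.card (fixedSub ρ (A.map f)) ≤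
        Nat.card (A.map f) * Nat.card (fixedSub ρ (A.map f)) := hbound.trans h9
    nlinarith
  · refine hAQ fun a ha => (QuotientGroup.eq_one_iff a).mp ?_
    refine c.faithful (f a) (hAP ⟨a, ha, rfl⟩) fun x hx => hρinj ?_
    rw [map_mul, map_mul]
    refine commute_of_quadratic hp2 hUexp (ρ (f a)) (K.map ρ) ?_ ?_ ?_ ?_ (hq a ha) _
      (Subgroup.mem_map_of_mem ρ hx)
    · exact isMulCommutative_map ρ (.of_setLike_mul_comm c.comm_K)
    · exact hKX.coprime_dvd_left (Subgroup.card_map_dvd K ρ)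
    · rintro _ ⟨z, hz, rfl⟩
      exact ⟨f a * z * (f a)⁻¹, hKn.conj_mem z hz _, by simp⟩
    · rintro _ ⟨z, hz, rfl⟩
      exact ⟨(f a)⁻¹ * z * f a, by simpa using hKn.conj_mem z hz (f a)⁻¹, by simp⟩

/-- **Thompson's normal `p`-complement theorem** for the abelian `J`. -/
theorem hasNormalPComplement_of_thompsonAOf {G : Type u} [Group G] [Finite G] (P : Sylow p G)
    (hgood : p ≠ 2 ∨ ¬ Cfsg.Involves (Equiv.Perm (Fin 4)) G)
    (hC : Cfsg.HasNormalPComplement p
      (Subgroup.centralizer (((P : Subgroup G) ⊓ Subgroup.centralizer ((P : Subgroup G) : Set G) :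
        Subgroup G) : Set G)))
    (hN : Cfsg.HasNormalPComplement p
      (Subgroup.normalizer (Cfsg.thompsonSubgroupAOf (P : Subgroup G) : Set G))) :
    Cfsg.HasNormalPComplement p G :=
  FunctorReduction.hasNormalPComplement_of_no_core (functorA.{u} p)
    (fun G _ => p ≠ 2 ∨ ¬ Cfsg.Involves (Equiv.Perm (Fin 4)) G)
    (fun _ _ H h => h.imp_right fun hn hi =>
      hn (InvolvesS4.involves_of_injective H.subtype H.subtype_injective hi))
    (fun _ _ N _ h => h.imp_right fun hn hi =>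
      hn (InvolvesS4.involves_of_surjective _ (QuotientGroup.mk'_surjective N) hi))
    (fun _ _ _ P Q _ U K h c => no_core P Q U K h c) hgood P ⟨hN, hC⟩

end Main

end Cfsg.Agent.Lib.Transfer.ThompsonJA
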